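import Cfsg.Agent.H470.EPO.BTAny
import Cfsg.Agent.H209.EPX.Defs_m3
import Cfsg.Agent.Solvable.FixedPointFree
import Mathlib.GroupTheory.Sylow
import Mathlib.GroupTheory.SpecificGroups.Cyclic
import Mathlib.GroupTheory.GroupAction.Quotient
import Cfsg.Agent.H470.EPK.ParOfVJ
import Cfsg.Agent.FastGrp
import Cfsg.Agent.Prune
set_option linter.all false

section
prune_inst 0x7ffcfef82fb88ddeffff7e7ffff5dffff8fcffffefdffb7bffedfbffdfdf6b67bff5fba77fe650ffaed7f29e32b87813f97eeeffedf3dc7ffffd5ff47fffee1fa5eebfad71d7bc3e1ffc6ffffbf9ffbffffffffffffffffffffffffffffffffffffdffffffff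

-- part: H737/EPO/OwnB
section
prune_inst 0x10000000100000000000000000000000000000080000000002000000040000000000100000020000000000380008100000200010000020000000000000000000208000000000000000000000000000000000000000000000000000000000000000000
set_option linter.all false
open scoped Cfsg.Agent.FastGrp

-- part: H737/EPO/HSide
section
/-!
# S5745 / S3499, OWN characteristic: the `H`-side (helper737)

`N ≅ Y^k` minimal normal in `H`, `Y` with a parabolic system.
-/

set_option autoImplicit false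
set_option linter.unusedSectionVars false

namespace Cfsg.Agent.H737.EPO

open Cfsg.Agent.H284 Cfsg.Agent.H209.EPX
open scoped Pointwise

/-! ### Automorphisms of `Y^k` -/

theorem perm {Y : Type*} [Group Y] [IsSimpleGroup Y] (hY : ∃ a b : Y, a * b ≠ b * a) {k : ℕ}
    (α : (Fin k → Y) ≃* (Fin k → Y)) (i : Fin k) :
    (∀ t, α (Pi.mulSingle i t) i = 1) ∨ ∃ φ : MulAut Y, ∀ t, α (Pi.mulSingle i t) = Pi.mulSingle i (φ t) := by
  classical
  by_cases h0 : ∀ t, α (Pi.mulSingle i t) i = 1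
  · exact Or.inl h0
  right
  push Not at h0
  obtain ⟨t, ht⟩ := h0
  have hcen : Subgroup.center Y = ⊥ := by
    rcases Subgroup.Normal.eq_bot_or_eq_top (inferInstance : (Subgroup.center Y).Normal) with h1 | h1
    · exact h1
    · exfalso
      obtain ⟨a, b, hab⟩ := hY
      have h2 : a ∈ Subgroup.center Y := by rw [h1]; trivial
      exact hab ((Subgroup.mem_center_iff.1 h2 b).symm)
  -- for every automorphism `β` of `Y^k`: if the `i`-component of `β(Y_i)` is not trivial then `Y_i ≤ β(Y_i)`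
  have key : ∀ (β : (Fin k → Y) ≃* (Fin k → Y)), (∃ t, β (Pi.mulSingle i t) i ≠ 1) →
      ∀ s : Y, ∃ t : Y, β (Pi.mulSingle i t) = Pi.mulSingle i s := by
    intro β hβ
    obtain ⟨t, ht⟩ := hβ
    let L : Subgroup Y :=
      { carrier := {s | ∃ t : Y, β (Pi.mulSingle i t) = Pi.mulSingle i s}
        one_mem' := ⟨1, by simp only [_root_.Pi.mulSingle_one, _root_.map_one]⟩
        mul_mem' := by
          rintro a b ⟨s, hs⟩ ⟨s', hs'⟩
          exact ⟨s * s', by rw [Pi.mulSingle_mul, map_mul, hs, hs', Pi.mulSingle_mul]⟩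
        inv_mem' := by
          rintro a ⟨s, hs⟩
          exact ⟨s⁻¹, by rw [Pi.mulSingle_inv, map_inv, hs, Pi.mulSingle_inv]⟩ }
    have hconj : ∀ (a : Fin k → Y) (t : Y), ∃ t' : Y, a * β (Pi.mulSingle i t) * a⁻¹ = β (Pi.mulSingle i t') := by
      intro a t
      obtain ⟨b, rfl⟩ := β.surjective a
      refine ⟨b i * t * (b i)⁻¹, ?_⟩
      rw [← map_inv, ← map_mul, ← map_mul]
      congr 1
      funext j
      by_cases hj : j = i
      · subst hj
        simp only [_root_.Pi.mul_apply, _root_.Pi.mulSingle_eq_same, _root_.Pi.inv_apply]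
      · simp only [Pi.mulSingle_eq_of_ne hj, _root_.Pi.mul_apply, _root_.mul_one, _root_.Pi.inv_apply, _root_.mul_inv_cancel]
    have hLn : L.Normal := by
      refine ⟨fun s hs g => ?_⟩
      obtain ⟨t, ht⟩ := hs
      obtain ⟨t', ht'⟩ := hconj (Pi.mulSingle i g) t
      refine ⟨t', ?_⟩
      rw [← ht', ht, ← Pi.mulSingle_inv, ← Pi.mulSingle_mul, ← Pi.mulSingle_mul]
    have hL : L ≠ ⊥ := by
      intro hL
      apply ht
      rw [← Subgroup.mem_bot, ← hcen, Subgroup.mem_center_iff]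
      intro g
      have h1 : β (Pi.mulSingle i t) i * g * (β (Pi.mulSingle i t) i)⁻¹ * g⁻¹ ∈ L := by
        obtain ⟨t', ht'⟩ := hconj (Pi.mulSingle i g) t⁻¹
        refine ⟨t * t', ?_⟩
        rw [Pi.mulSingle_mul, map_mul, ← ht', Pi.mulSingle_inv, map_inv]
        funext j
        by_cases hj : j = i
        · subst hj
          simp only [mul_assoc, _root_.mul_assoc, _root_.Pi.mul_apply, _root_.Pi.mulSingle_eq_same, _root_.Pi.inv_apply]
        · simp only [Pi.mulSingle_eq_of_ne hj, _root_.Pi.mul_apply, _root_.Pi.inv_apply, _root_.one_mul, _root_.inv_one, _root_.mul_one, _root_.mul_inv_cancel]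
      rw [hL, Subgroup.mem_bot] at h1
      have h2 : β (Pi.mulSingle i t) i * g = g * β (Pi.mulSingle i t) i := by
        have h3 := mul_inv_eq_one.1 h1
        have h4 := mul_inv_eq_iff_eq_mul.1 h3
        exact h4
      exact h2.symm
    have hLtop : L = ⊤ := (Subgroup.Normal.eq_bot_or_eq_top hLn).resolve_left hL
    intro s
    have : s ∈ L := by rw [hLtop]; trivial
    exact this
  have h1 := key α ⟨t, ht⟩
  -- the inverse
  have h2 : ∀ s : Y, ∃ t : Y, α.symm (Pi.mulSingle i t) = Pi.mulSingle i s := by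
    apply key α.symm
    obtain ⟨a, b, hab⟩ := hY
    have ha : ∃ a : Y, a ≠ 1 := ⟨a, fun e => hab (by rw [e]; simp)⟩
    obtain ⟨a, ha⟩ := ha
    obtain ⟨t, ht⟩ := h1 a
    refine ⟨a, ?_⟩
    rw [← ht, α.symm_apply_apply, Pi.mulSingle_eq_same]
    rintro rfl
    rw [Pi.mulSingle_one, map_one] at ht
    have := congrFun ht i
    rw [Pi.mulSingle_eq_same] at this
    exact ha this.symm
  have h3 : ∀ t : Y, ∃ s : Y, α (Pi.mulSingle i t) = Pi.mulSingle i s := by
    intro t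
    obtain ⟨s, hs⟩ := h2 t
    exact ⟨s, by rw [← hs, α.apply_symm_apply]⟩
  have h4 : ∀ t : Y, α (Pi.mulSingle i t) = Pi.mulSingle i (α (Pi.mulSingle i t) i) := by
    intro t
    obtain ⟨s, hs⟩ := h3 t
    rw [hs, Pi.mulSingle_eq_same]
  have h5 : ∀ t : Y, α.symm (Pi.mulSingle i t) = Pi.mulSingle i (α.symm (Pi.mulSingle i t) i) := by
    intro t
    obtain ⟨s, hs⟩ := h1 t
    rw [← hs, α.symm_apply_apply, Pi.mulSingle_eq_same]
  refine ⟨{ toFun := fun t => α (Pi.mulSingle i t) i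
            invFun := fun t => α.symm (Pi.mulSingle i t) i
            left_inv := fun t => ?_
            right_inv := fun t => ?_
            map_mul' := fun a b => ?_ }, h4⟩
  · show α.symm (Pi.mulSingle i (α (Pi.mulSingle i t) i)) i = t
    rw [← h4, α.symm_apply_apply, Pi.mulSingle_eq_same]
  · show α (Pi.mulSingle i (α.symm (Pi.mulSingle i t) i)) i = t
    rw [← h5, α.apply_symm_apply, Pi.mulSingle_eq_same]
  · show α (Pi.mulSingle i (a * b)) i = _
    rw [Pi.mulSingle_mul, map_mul, Pi.mul_apply]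

/-! ### Product subgroups of `N ≅ Y^k` -/

section Prod

variable {G Y : Type*} [Group G] [Group Y] {N : Subgroup G} {k : ℕ} (e : N ≃* (Fin k → Y))

/-- the embedding of the `i`-th factor -/
def sg (i : Fin k) : Y →* G := N.subtype.comp (e.symm.toMonoidHom.comp (MonoidHom.mulSingle (fun _ => Y) i))

/-- the product of the `F i` -/
def pk (F : Fin k → Subgroup Y) : Subgroup G := ((Subgroup.pi Set.univ F).comap e.toMonoidHom).map N.subtype

/-- the components of an element of `N` -/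
noncomputable def cp (x : G) (i : Fin k) : Y := by
  classical exact if hx : x ∈ N then e ⟨x, hx⟩ i else 1

theorem cp_eq {x : G} (hx : x ∈ N) (i : Fin k) : cp e x i = e ⟨x, hx⟩ i := by
  unfold cp
  rw [dif_pos hx]

theorem sg_mem (i : Fin k) (t : Y) : sg e i t ∈ N := (e.symm (Pi.mulSingle i t)).2

theorem cp_sg (i : Fin k) (t : Y) : cp e (sg e i t) i = t := by
  rw [cp_eq e (sg_mem e i t)]
  have : (⟨sg e i t, sg_mem e i t⟩ : N) = e.symm (Pi.mulSingle i t) := rfl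
  rw [this, e.apply_symm_apply, Pi.mulSingle_eq_same]

theorem cp_sg_ne {i j : Fin k} (hij : j ≠ i) (t : Y) : cp e (sg e i t) j = 1 := by
  rw [cp_eq e (sg_mem e i t)]
  have : (⟨sg e i t, sg_mem e i t⟩ : N) = e.symm (Pi.mulSingle i t) := rfl
  rw [this, e.apply_symm_apply, Pi.mulSingle_eq_of_ne hij]

theorem cp_mul {x y : G} (hx : x ∈ N) (hy : y ∈ N) (i : Fin k) : cp e (x * y) i = cp e x i * cp e y i := by
  rw [cp_eq e hx, cp_eq e hy, cp_eq e (mul_mem hx hy), ← Pi.mul_apply, ← map_mul]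
  rfl

theorem cp_one (i : Fin k) : cp e (1 : G) i = 1 := by
  rw [cp_eq e (one_mem _)]
  have : (⟨1, one_mem _⟩ : N) = 1 := rfl
  rw [this, map_one, Pi.one_apply]

theorem cp_inv {x : G} (hx : x ∈ N) (i : Fin k) : cp e x⁻¹ i = (cp e x i)⁻¹ := by
  rw [cp_eq e hx, cp_eq e (inv_mem hx), ← Pi.inv_apply, ← map_inv]
  rfl

theorem ext_cp {x y : G} (hx : x ∈ N) (hy : y ∈ N) (h : ∀ i, cp e x i = cp e y i) : x = y := by
  have : (⟨x, hx⟩ : N) = ⟨y, hy⟩ := e.injective (by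
    funext i
    rw [← cp_eq e hx, ← cp_eq e hy, h])
  exact Subtype.ext_iff.1 this

theorem mem_pk {F : Fin k → Subgroup Y} {x : G} : x ∈ pk e F ↔ x ∈ N ∧ ∀ i, cp e x i ∈ F i := by
  constructor
  · rintro ⟨y, hy, rfl⟩
    refine ⟨y.2, fun i => ?_⟩
    have h1 : (e y) ∈ Subgroup.pi Set.univ F := hy
    have h2 := h1 i (Set.mem_univ i)
    rw [show (N.subtype y : G) = (y : G) from rfl, cp_eq e y.2]
    exact h2
  · rintro ⟨hx, h1⟩
    refine ⟨⟨x, hx⟩, ?_, rfl⟩
    intro i _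
    have h2 := h1 i
    rw [cp_eq e hx i] at h2
    exact h2

theorem pk_le (F : Fin k → Subgroup Y) : pk e F ≤ N := fun _ hx => ((mem_pk e).1 hx).1

theorem sg_mem_pk {F : Fin k → Subgroup Y} {i : Fin k} {t : Y} : sg e i t ∈ pk e F ↔ t ∈ F i := by
  rw [mem_pk]
  constructor
  · rintro ⟨-, h1⟩
    have := h1 i
    rwa [cp_sg] at this
  · intro ht
    refine ⟨sg_mem e i t, fun j => ?_⟩
    by_cases hj : j = i
    · subst hj; rwa [cp_sg]
    · rw [cp_sg_ne e hj]; exact one_mem _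

theorem pk_le_iff {F F' : Fin k → Subgroup Y} : pk e F ≤ pk e F' ↔ ∀ i, F i ≤ F' i := by
  constructor
  · intro h1 i t ht
    exact (sg_mem_pk e).1 (h1 ((sg_mem_pk e).2 ht))
  · intro h1 x hx
    rw [mem_pk] at hx ⊢
    exact ⟨hx.1, fun i => h1 i (hx.2 i)⟩

theorem pk_top : pk e (fun _ => ⊤) = N := by
  ext x
  rw [mem_pk]
  exact ⟨fun h => h.1, fun h => ⟨h, fun _ => trivial⟩⟩

/-- a product is generated by its factors -/
theorem pk_le_of_sg {F : Fin k → Subgroup Y} {L : Subgroup G} (h : ∀ i, ∀ t ∈ F i, sg e i t ∈ L) : pk e F ≤ L := by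
  classical
  unfold pk
  rw [Subgroup.map_le_iff_le_comap]
  have h1 : Subgroup.pi Set.univ F ≤ (L.comap N.subtype).comap e.symm.toMonoidHom := by
    rw [Subgroup.pi_le_iff]
    intro i
    rw [Subgroup.map_le_iff_le_comap]
    intro t ht
    exact h i t ht
  intro x hx
  have h2 := h1 hx
  have h3 : e.symm (e x) ∈ L.comap N.subtype := h2
  rwa [e.symm_apply_apply] at h3

/-- the preimage in the `i`-th factor -/
def fac (L : Subgroup G) (i : Fin k) : Subgroup Y := L.comap (sg e i)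

theorem mem_fac {L : Subgroup G} {i : Fin k} {t : Y} : t ∈ fac e L i ↔ sg e i t ∈ L := Iff.rfl

theorem pk_fac_le (L : Subgroup G) : pk e (fac e L) ≤ L := pk_le_of_sg e fun _ _ ht => ht

theorem pk_eq {L : Subgroup G} (hL : L ≤ N) (h : ∀ x ∈ L, ∀ i, cp e x i ∈ fac e L i) : L = pk e (fac e L) :=
  le_antisymm (fun x hx => (mem_pk e).2 ⟨hL hx, h x hx⟩) (pk_fac_le e L)

theorem conj_sg {x : G} (hx : x ∈ N) (i : Fin k) (t : Y) : x * sg e i t * x⁻¹ = sg e i (cp e x i * t * (cp e x i)⁻¹) := by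
  apply ext_cp e (mul_mem (mul_mem hx (sg_mem e i t)) (inv_mem hx)) (sg_mem e i _)
  intro j
  rw [cp_mul e (mul_mem hx (sg_mem e i t)) (inv_mem hx), cp_mul e hx (sg_mem e i t), cp_inv e hx]
  by_cases hj : j = i
  · subst hj
    rw [cp_sg, cp_sg]
  · rw [cp_sg_ne e hj, cp_sg_ne e hj]
    group

theorem cj_pk {x : G} (hx : x ∈ N) (F : Fin k → Subgroup Y) : cj x (pk e F) = pk e (fun i => cj (cp e x i) (F i)) := by
  ext y
  rw [mem_cj, mem_pk, mem_pk]
  constructor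
  · rintro ⟨h1, h2⟩
    have hy : y ∈ N := by
      have : y = x * (x⁻¹ * y * x) * x⁻¹ := by group
      rw [this]
      exact mul_mem (mul_mem hx h1) (inv_mem hx)
    refine ⟨hy, fun i => ?_⟩
    rw [mem_cj]
    have := h2 i
    rwa [cp_mul e (mul_mem (inv_mem hx) hy) hx, cp_mul e (inv_mem hx) hy, cp_inv e hx] at this
  · rintro ⟨hy, h2⟩
    refine ⟨mul_mem (mul_mem (inv_mem hx) hy) hx, fun i => ?_⟩
    have := h2 i
    rw [mem_cj] at this
    rwa [cp_mul e (mul_mem (inv_mem hx) hy) hx, cp_mul e (inv_mem hx) hy, cp_inv e hx]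

/-- an element of `N` with given components -/
theorem exists_cp (g : Fin k → Y) : ∃ x ∈ N, ∀ i, cp e x i = g i := by
  refine ⟨e.symm g, (e.symm g).2, fun i => ?_⟩
  rw [cp_eq e (e.symm g).2]
  have : (⟨(e.symm g : G), (e.symm g).2⟩ : N) = e.symm g := rfl
  rw [this, e.apply_symm_apply]

/-- the action of an element normalising `N` on the factors -/
theorem perm_sg [IsSimpleGroup Y] (hY : ∃ a b : Y, a * b ≠ b * a) {x : G} (hx : ∀ n : G, n ∈ N ↔ x * n * x⁻¹ ∈ N)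
    (i : Fin k) : (∀ t, cp e (x * sg e i t * x⁻¹) i = 1) ∨
      ∃ φ : MulAut Y, ∀ t, x * sg e i t * x⁻¹ = sg e i (φ t) := by
  let c : N ≃* N :=
    { toFun := fun n => ⟨x * n * x⁻¹, (hx n).1 n.2⟩
      invFun := fun n => ⟨x⁻¹ * n * x, (hx _).2 (by
        have : x * (x⁻¹ * (n : G) * x) * x⁻¹ = n := by group
        rw [this]; exact n.2)⟩
      left_inv := fun n => Subtype.ext (by show x⁻¹ * (x * n * x⁻¹) * x = n; group)
      right_inv := fun n => Subtype.ext (by show x * (x⁻¹ * n * x) * x⁻¹ = n; group)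
      map_mul' := fun a b => Subtype.ext (by
        show x * (a * b) * x⁻¹ = (x * a * x⁻¹) * (x * b * x⁻¹)
        group) }
  have hc : ∀ n : N, (c n : G) = x * n * x⁻¹ := fun n => rfl
  rcases perm hY (e.symm.trans (c.trans e)) i with h1 | ⟨φ, h1⟩
  · left
    intro t
    have h2 := h1 t
    have h3 : x * sg e i t * x⁻¹ ∈ N := (hx _).1 (sg_mem e i t)
    rw [cp_eq e h3]
    exact h2
  · right
    refine ⟨φ, fun t => ?_⟩
    have h2 : e (c (e.symm (Pi.mulSingle i t))) = Pi.mulSingle i (φ t) := h1 t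
    have h3 : c (e.symm (Pi.mulSingle i t)) = e.symm (Pi.mulSingle i (φ t)) := by
      rw [← h2, e.symm_apply_apply]
    have h4 := congrArg (fun n : N => (n : G)) h3
    exact h4

end Prod

/-! ### Standard parabolic subgroups of `N` -/

theorem cj_eq_of_nm {G : Type*} [Group G] [Finite G] {K : Subgroup G} {x : G} (h : ∀ a ∈ K, x * a * x⁻¹ ∈ K) :
    cj x K = K := by
  apply Subgroup.eq_of_le_of_card_ge
  · rintro _ ⟨k, hk, rfl⟩
    exact h k hk
  · rw [card_cj]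

theorem nm_of_cj_eq {G : Type*} [Group G] {K : Subgroup G} {x : G} (h : cj x K = K) {a : G} (ha : a ∈ K) :
    x * a * x⁻¹ ∈ K := by
  rw [← h]
  exact conj_mem_cj ha

theorem cj_sup {G : Type*} [Group G] (x : G) (K L : Subgroup G) : cj x (K ⊔ L) = cj x K ⊔ cj x L :=
  Subgroup.map_sup _ _ _

section Par

variable {G Y : Type*} [Group G] [Group Y] {H N : Subgroup G} {k : ℕ} (e : N ≃* (Fin k → Y))
  {p : ℕ} {I : Type*} (S : PSys Y p I)

/-- standard parabolic subgroups of `N` -/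
def PP (J : Fin k → Set I) : Subgroup G := pk e fun i => S.P (J i)

/-- their unipotent radicals -/
def VV (J : Fin k → Set I) : Subgroup G := pk e fun i => S.V (J i)

theorem PP_le (J : Fin k → Set I) : PP e S J ≤ N := pk_le e _

theorem VV_le (J : Fin k → Set I) : VV e S J ≤ N := pk_le e _

theorem PP_le_iff {J L : Fin k → Set I} : PP e S J ≤ PP e S L ↔ ∀ i, J i ⊆ L i := by
  rw [PP, PP, pk_le_iff]
  exact forall_congr' fun i => S.P_le_iff

theorem PP_inj {J L : Fin k → Set I} (h : PP e S J = PP e S L) : J = L := by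
  funext i
  exact Set.Subset.antisymm ((PP_le_iff e S).1 h.le i) ((PP_le_iff e S).1 h.ge i)

theorem PP_univ : PP e S (fun _ => Set.univ) = N := by
  have := pk_top e
  unfold PP
  simp only [S.P_univ]
  exact this

theorem univ_of_PP {J : Fin k → Set I} (h : PP e S J = N) (i : Fin k) : J i = Set.univ :=
  congrFun (PP_inj e S (h.trans (PP_univ e S).symm)) i

theorem VV_le_PP (J : Fin k → Set I) : VV e S J ≤ PP e S J := (pk_le_iff e).2 fun i => S.V_le (J i)

theorem VV_anti {J L : Fin k → Set I} (h : ∀ i, J i ⊆ L i) : VV e S L ≤ VV e S J :=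
  (pk_le_iff e).2 fun i => S.V_anti (h i)

theorem VV_le_VV (J : Fin k → Set I) : VV e S J ≤ VV e S fun _ => ∅ := VV_anti e S fun _ => Set.empty_subset _

theorem VV_le_PP' (J L : Fin k → Set I) : VV e S J ≤ PP e S L :=
  (VV_le_VV e S J).trans ((VV_le_PP e S _).trans ((PP_le_iff e S).2 fun _ => Set.empty_subset _))

/-- the overgroups of the standard Borel subgroup -/
theorem PP_over {L : Subgroup G} (hL : PP e S (fun _ => ∅) ≤ L) (hLN : L ≤ N) : ∃ J, L = PP e S J := by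
  have h1 : ∀ i, S.P ∅ ≤ fac e L i := fun i t ht => hL ((sg_mem_pk e).2 ht)
  choose J hJ using fun i => S.ov _ (h1 i)
  refine ⟨J, ?_⟩
  have h2 : L = pk e (fac e L) := by
    refine pk_eq e hLN fun x hx i => ?_
    have h3 : cj (cp e x i) (S.P (J i)) ≤ S.P (J i) := by
      rw [← hJ i]
      rintro _ ⟨t, ht, rfl⟩
      show sg e i (cp e x i * t * (cp e x i)⁻¹) ∈ L
      rw [← conj_sg e (hLN hx)]
      exact mul_mem (mul_mem hx ht) (inv_mem hx)
    have h3' : cj (cp e x i)⁻¹ (S.P (J i)) ≤ S.P (J i) := by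
      rw [← hJ i]
      rintro _ ⟨t, ht, rfl⟩
      show sg e i ((cp e x i)⁻¹ * t * (cp e x i)⁻¹⁻¹) ∈ L
      rw [← cp_inv e (hLN hx), ← conj_sg e (inv_mem (hLN hx))]
      exact mul_mem (mul_mem (inv_mem hx) ht) (inv_mem (inv_mem hx))
    rw [hJ i]
    apply S.norm_P
    apply le_antisymm h3
    have h4 := cj_mono (x := cp e x i) h3'
    rwa [cj_cj_inv] at h4
  rw [h2]
  unfold PP
  congr 1
  funext i
  exact hJ i

theorem PP_sup (J L : Fin k → Set I) : PP e S J ⊔ PP e S L = PP e S fun i => J i ∪ L i := by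
  obtain ⟨K, hK⟩ := PP_over e S (L := PP e S J ⊔ PP e S L)
    (((PP_le_iff e S).2 fun _ => Set.empty_subset _).trans le_sup_left) (sup_le (PP_le e S J) (PP_le e S L))
  have h1 : ∀ i, J i ⊆ K i := (PP_le_iff e S).1 (by rw [← hK]; exact le_sup_left)
  have h2 : ∀ i, L i ⊆ K i := (PP_le_iff e S).1 (by rw [← hK]; exact le_sup_right)
  apply le_antisymm
  · exact sup_le ((PP_le_iff e S).2 fun i => Set.subset_union_left)
      ((PP_le_iff e S).2 fun i => Set.subset_union_right)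
  · rw [hK]
    exact (PP_le_iff e S).2 fun i => Set.union_subset (h1 i) (h2 i)

theorem PP_inf (J L : Fin k → Set I) : PP e S J ⊓ PP e S L = PP e S fun i => J i ∩ L i := by
  obtain ⟨K, hK⟩ := PP_over e S (L := PP e S J ⊓ PP e S L)
    (le_inf ((PP_le_iff e S).2 fun _ => Set.empty_subset _) ((PP_le_iff e S).2 fun _ => Set.empty_subset _))
    (inf_le_left.trans (PP_le e S J))
  have h1 : ∀ i, K i ⊆ J i := (PP_le_iff e S).1 (by rw [← hK]; exact inf_le_left)
  have h2 : ∀ i, K i ⊆ L i := (PP_le_iff e S).1 (by rw [← hK]; exact inf_le_right)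
  apply le_antisymm
  · rw [hK]
    exact (PP_le_iff e S).2 fun i => Set.subset_inter (h1 i) (h2 i)
  · exact le_inf ((PP_le_iff e S).2 fun i => Set.inter_subset_left)
      ((PP_le_iff e S).2 fun i => Set.inter_subset_right)

/-- **`V_K ≤ n P_L n⁻¹` gives `n ∈ P_K P_L`** -/
theorem PP_dec {K L : Fin k → Set I} {n : G} (hn : n ∈ N) (h : VV e S K ≤ cj n (PP e S L)) :
    ∃ a ∈ PP e S K, ∃ b ∈ PP e S L, n = a * b := by
  unfold PP VV at h
  rw [cj_pk e hn, pk_le_iff] at h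
  choose a ha b hb hab using fun i => S.dec (h i)
  obtain ⟨x, hx, hxa⟩ := exists_cp e a
  obtain ⟨y, hy, hyb⟩ := exists_cp e b
  refine ⟨x, (mem_pk e).2 ⟨hx, fun i => by rw [hxa]; exact ha i⟩, y, (mem_pk e).2 ⟨hy, fun i => by rw [hyb]; exact hb i⟩, ?_⟩
  apply ext_cp e hn (mul_mem hx hy)
  intro i
  rw [cp_mul e hx hy, hxa, hyb]
  exact hab i

theorem mem_of_UU_le {L : Fin k → Set I} {n : G} (hn : n ∈ N) (h : VV e S (fun _ => ∅) ≤ cj n (PP e S L)) :
    n ∈ PP e S L := by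
  obtain ⟨a, ha, b, hb, rfl⟩ := PP_dec e S hn h
  exact mul_mem ((PP_le_iff e S).2 (fun _ => Set.empty_subset _) ha) hb

/-- parabolic subgroups of `N` are self-normalising -/
theorem norm_PP {L : Fin k → Set I} {n : G} (hn : n ∈ N) (h : cj n (PP e S L) = PP e S L) : n ∈ PP e S L :=
  mem_of_UU_le e S hn (by rw [h]; exact VV_le_PP' e S _ _)

theorem norm_UU {n : G} (hn : n ∈ N) (h : cj n (VV e S fun _ => ∅) = VV e S fun _ => ∅) : n ∈ PP e S fun _ => ∅ := by
  apply mem_of_UU_le e S hn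
  rw [← cj_cj_inv n (VV e S fun _ => ∅)]
  apply cj_mono
  have h1 := congrArg (cj n⁻¹) h
  rw [cj_inv_cj] at h1
  rw [← h1]
  exact VV_le_PP e S _

theorem PP_nm {J : Fin k → Set I} {x : G} (hx : x ∈ PP e S J) {v : G} (hv : v ∈ VV e S J) : x * v * x⁻¹ ∈ VV e S J := by
  have hx' := (mem_pk e).1 hx
  have hv' := (mem_pk e).1 hv
  refine (mem_pk e).2 ⟨mul_mem (mul_mem hx'.1 hv'.1) (inv_mem hx'.1), fun i => ?_⟩
  rw [cp_mul e (mul_mem hx'.1 hv'.1) (inv_mem hx'.1), cp_mul e hx'.1 hv'.1, cp_inv e hx'.1]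
  exact (Subgroup.mem_normalizer_iff.1 (S.V_norm (J i) (hx'.2 i)) _).1 (hv'.2 i)

theorem pk_isPGroup {F : Fin k → Subgroup Y} (hF : ∀ i, IsPGroup p (F i)) : IsPGroup p (pk e F) := by
  classical
  intro ⟨x, hx⟩
  have hx' := (mem_pk e).1 hx
  choose m hm using fun i => hF i ⟨cp e x i, hx'.2 i⟩
  have hm' : ∀ i, (cp e x i) ^ p ^ (m i) = 1 := fun i => by
    have := hm i
    rw [Subtype.ext_iff] at this
    exact this
  refine ⟨∑ i, m i, ?_⟩
  apply Subtype.ext
  show x ^ p ^ (∑ i, m i) = 1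
  have hpow : ∀ (l : ℕ), ∀ i, cp e (x ^ l) i = (cp e x i) ^ l := by
    intro l
    induction l with
    | zero => intro i; rw [pow_zero, pow_zero, cp_one]
    | succ l ih =>
      intro i
      rw [pow_succ, cp_mul e (N.pow_mem hx'.1 l) hx'.1, ih, pow_succ]
  apply ext_cp e (N.pow_mem hx'.1 _) (one_mem _)
  intro i
  rw [hpow, cp_one]
  have h1 : p ^ m i ∣ p ^ ∑ i, m i := pow_dvd_pow _ (Finset.single_le_sum (fun _ _ => Nat.zero_le _) (Finset.mem_univ i))
  obtain ⟨c, hc⟩ := h1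
  rw [hc, pow_mul, hm', one_pow]

/-- the largest normal `p`-subgroup of `P_J` -/
theorem VV_max {J : Fin k → Set I} {D : Subgroup G} (hD : D ≤ PP e S J) (hp : IsPGroup p D)
    (hn : ∀ g ∈ PP e S J, ∀ d ∈ D, g * d * g⁻¹ ∈ D) : D ≤ VV e S J := by
  intro d hd
  refine (mem_pk e).2 ⟨PP_le e S J (hD hd), fun i => ?_⟩
  let F : Subgroup Y :=
    { carrier := {t | ∃ d ∈ D, cp e d i = t}
      one_mem' := ⟨1, one_mem _, cp_one e i⟩
      mul_mem' := by
        rintro a b ⟨x, hx, rfl⟩ ⟨y, hy, rfl⟩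
        exact ⟨x * y, mul_mem hx hy, cp_mul e (PP_le e S J (hD hx)) (PP_le e S J (hD hy)) i⟩
      inv_mem' := by
        rintro a ⟨x, hx, rfl⟩
        exact ⟨x⁻¹, inv_mem hx, cp_inv e (PP_le e S J (hD hx)) i⟩ }
  have h1 : F ≤ S.V (J i) := by
    apply S.V_max
    · rintro _ ⟨x, hx, rfl⟩
      exact ((mem_pk e).1 (hD hx)).2 i
    · rintro ⟨_, x, hx, rfl⟩
      obtain ⟨m, hm⟩ := hp ⟨x, hx⟩
      refine ⟨m, ?_⟩
      apply Subtype.ext
      have hm' : x ^ p ^ m = 1 := Subtype.ext_iff.1 hm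
      show (cp e x i) ^ p ^ m = 1
      have hpow : ∀ (l : ℕ), cp e (x ^ l) i = (cp e x i) ^ l := by
        intro l
        induction l with
        | zero => rw [pow_zero, pow_zero, cp_one]
        | succ l ih =>
          rw [pow_succ, cp_mul e (N.pow_mem (PP_le e S J (hD hx)) l) (PP_le e S J (hD hx)), ih, pow_succ]
      rw [← hpow, hm', cp_one]
    · rintro g hg _ ⟨x, hx, rfl⟩
      have hg' : sg e i g ∈ PP e S J := (sg_mem_pk e).2 hg
      refine ⟨_, hn _ hg' x hx, ?_⟩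
      have hxN := PP_le e S J (hD hx)
      rw [cp_mul e (mul_mem (sg_mem e i g) hxN) (inv_mem (sg_mem e i g)), cp_mul e (sg_mem e i g) hxN,
        cp_inv e (sg_mem e i g), cp_sg]
  exact h1 ⟨d, hd, rfl⟩

theorem VV_isPGroup (J : Fin k → Set I) : IsPGroup p (VV e S J) := pk_isPGroup e fun i => S.V_p (J i)

theorem UU_max {P : Subgroup G} (hPN : P ≤ N) (hP : IsPGroup p P) (hU : VV e S (fun _ => ∅) ≤ P) :
    P = VV e S fun _ => ∅ := by
  refine le_antisymm (fun x hx => ?_) hU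
  refine (mem_pk e).2 ⟨hPN hx, fun i => ?_⟩
  let F : Subgroup Y :=
    { carrier := {t | ∃ d ∈ P, cp e d i = t}
      one_mem' := ⟨1, one_mem _, cp_one e i⟩
      mul_mem' := by
        rintro a b ⟨x, hx, rfl⟩ ⟨y, hy, rfl⟩
        exact ⟨x * y, mul_mem hx hy, cp_mul e (hPN hx) (hPN hy) i⟩
      inv_mem' := by
        rintro a ⟨x, hx, rfl⟩
        exact ⟨x⁻¹, inv_mem hx, cp_inv e (hPN hx) i⟩ }
  have h1 : F = S.V ∅ := by
    apply S.U_max
    · intro t ht
      exact ⟨sg e i t, hU ((sg_mem_pk e).2 ht), cp_sg e i t⟩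
    · rintro ⟨_, x, hx, rfl⟩
      obtain ⟨m, hm⟩ := hP ⟨x, hx⟩
      refine ⟨m, ?_⟩
      apply Subtype.ext
      have hm' : x ^ p ^ m = 1 := Subtype.ext_iff.1 hm
      show (cp e x i) ^ p ^ m = 1
      have hpow : ∀ (l : ℕ), cp e (x ^ l) i = (cp e x i) ^ l := by
        intro l
        induction l with
        | zero => rw [pow_zero, pow_zero, cp_one]
        | succ l ih => rw [pow_succ, cp_mul e (N.pow_mem (hPN hx) l) (hPN hx), ih, pow_succ]
      rw [← hpow, hm', cp_one]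
  rw [← h1]
  exact ⟨x, hx, rfl⟩

/-- `U` is a Sylow `p`-subgroup of `N` -/
theorem syl [Finite G] [Fact p.Prime] {K : Subgroup G} (hK : K ≤ N) (hKp : IsPGroup p K) :
    ∃ n ∈ N, K ≤ cj n (VV e S fun _ => ∅) := by
  set U := VV e S fun _ => ∅ with hU
  have hUN : U ≤ N := VV_le e S _
  let Us : Sylow p N :=
    { U.subgroupOf N with
      isPGroup' := (VV_isPGroup e S _).comap_subtype
      is_maximal' := by
        intro Q hQ hle
        have h1 : Q.map N.subtype = U := by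
          apply UU_max e S
          · rintro _ ⟨y, _, rfl⟩; exact y.2
          · exact hQ.map _
          · intro x hx
            exact ⟨⟨x, hUN hx⟩, hle hx, rfl⟩
        ext y
        constructor
        · intro hy
          have h2 : (y : G) ∈ Q.map N.subtype := ⟨y, hy, rfl⟩
          rw [h1] at h2
          exact h2
        · intro hy
          exact hle hy }
  obtain ⟨Q, hQ⟩ := (hKp.comap_subtype (K := N)).exists_le_sylow
  obtain ⟨g, hg⟩ := MulAction.exists_smul_eq N Us Q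
  refine ⟨g, g.2, fun x hx => ?_⟩
  have h1 : (⟨x, hK hx⟩ : N) ∈ (Q : Subgroup N) := hQ hx
  rw [← hg] at h1
  rw [mem_cj]
  have h2 : (⟨x, hK hx⟩ : N) ∈ MulAut.conj g • (Us : Subgroup N) := h1
  rw [Subgroup.mem_pointwise_smul_iff_inv_smul_mem] at h2
  have h3 : (g⁻¹ * ⟨x, hK hx⟩ * g : N) ∈ (Us : Subgroup N) := by
    have : (MulAut.conj g)⁻¹ • (⟨x, hK hx⟩ : N) = g⁻¹ * ⟨x, hK hx⟩ * g := by
      rw [← map_inv, MulAut.smul_def, MulAut.conj_apply, inv_inv]
    rwa [this] at h2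
  exact h3

theorem frattini [Finite G] [Fact p.Prime] {x : G} (hx : ∀ n ∈ N, x * n * x⁻¹ ∈ N) :
    ∃ n ∈ N, cj x (VV e S fun _ => ∅) = cj n (VV e S fun _ => ∅) := by
  have h1 : cj x (VV e S fun _ => ∅) ≤ N := by
    rintro _ ⟨y, hy, rfl⟩
    exact hx y (VV_le e S _ hy)
  obtain ⟨n, hn, h2⟩ := syl e S h1 ((VV_isPGroup e S _).map _)
  refine ⟨n, hn, Subgroup.eq_of_le_of_card_ge h2 ?_⟩
  rw [card_cj, card_cj]

end Par

/-! ### The `H`-side -/

/-- a core free maximal subgroup of `H` -/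
structure MX {G : Type*} [Group G] (H N M : Subgroup G) : Prop where
  le : M ≤ H
  max : ∀ L, M ≤ L → L ≤ H → L = M ∨ L = H
  nle : ¬ N ≤ M

section Main

variable {G Y : Type*} [Group G] [Finite G] [Group Y] [Finite Y] {H N M : Subgroup G} {k : ℕ}
  (e : N ≃* (Fin k → Y)) {p : ℕ} {I : Type*} (S : PSys Y p I)

/-- elements of `H` normalise `N` -/
theorem minN_iff (hN : MinN N H) {x : G} (hx : x ∈ H) (n : G) : n ∈ N ↔ x * n * x⁻¹ ∈ N := by
  refine ⟨fun hn => hN.nrm x hx n hn, fun hn => ?_⟩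
  have := hN.nrm x⁻¹ (inv_mem hx) _ hn
  have e1 : x⁻¹ * (x * n * x⁻¹) * x⁻¹⁻¹ = n := by group
  rwa [e1] at this

theorem MX.ne (hM : MX H N M) (hNH : N ≤ H) : M ≠ H := fun h => hM.nle (h ▸ hNH)

/-- `H = N M` -/
theorem MX.fac (hN : MinN N H) (hM : MX H N M) {x : G} (hx : x ∈ H) : ∃ n ∈ N, ∃ m ∈ M, x = n * m := by
  have h1 : M ⊔ N = H := by
    rcases hM.max (M ⊔ N) le_sup_left (sup_le hM.le hN.le) with h1 | h1
    · exact absurd (le_sup_right.trans h1.le) hM.nle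
    · exact h1
  exact mem_sup_norm (fun m hm n hn => hN.nrm m (hM.le hm) n hn) (by rw [h1]; exact hx)

/-- a subgroup `Q` of `N` normalised by `M`: `N_H(Q) = M` -/
theorem MX.norm (hN : MinN N H) (hM : MX H N M) {Q : Subgroup G} (hQN : Q ≤ N) (hQ1 : Q ≠ ⊥) (hQ2 : Q ≠ N)
    (hQ : ∀ m ∈ M, ∀ a ∈ Q, m * a * m⁻¹ ∈ Q) {x : G} (hx : x ∈ H) (hxQ : cj x Q = Q) : x ∈ M := by
  rcases hM.max (H ⊓ Subgroup.normalizer (Q : Set G)) (le_inf hM.le fun m hm => by
    rw [Subgroup.mem_normalizer_iff_map_conj_eq]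
    exact cj_eq_of_nm (hQ m hm)) inf_le_left with h1 | h1
  · rw [← h1]
    refine ⟨hx, ?_⟩
    show x ∈ Subgroup.normalizer (Q : Set G)
    rw [Subgroup.mem_normalizer_iff_map_conj_eq]
    exact hxQ
  · exfalso
    rcases hN.min Q hQN ⟨hQN.trans hN.le, fun g hg a ha => by
      have h2 : g ∈ H ⊓ Subgroup.normalizer (Q : Set G) := by rw [h1]; exact hg
      exact (Subgroup.mem_normalizer_iff.1 h2.2 a).1 ha⟩ with h2 | h2
    · exact hQ1 h2
    · exact hQ2 h2

/-- a subgroup of `N` normalised by `M`, not `N`, is in `M` -/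
theorem MX.le_of_nm (hN : MinN N H) (hM : MX H N M) {Q : Subgroup G} (hQN : Q ≤ N) (hQ2 : Q ≠ N)
    (hQ : ∀ m ∈ M, ∀ a ∈ Q, m * a * m⁻¹ ∈ Q) : Q ≤ M := by
  by_cases hQ1 : Q = ⊥
  · rw [hQ1]; exact bot_le
  · intro x hx
    exact hM.norm hN hQN hQ1 hQ2 hQ (hN.le (hQN hx)) (cj_eq_self hx)

theorem MX.cj (hM : MX H N M) (hN : ∀ g ∈ H, ∀ n ∈ N, g * n * g⁻¹ ∈ N) {x : G} (hx : x ∈ H) : MX H N (cj x M) := by
  have hH : H284.cj x H = H := cj_eq_self hx
  have hH' : H284.cj x⁻¹ H = H := cj_eq_self (inv_mem hx)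
  refine ⟨by rw [← hH]; exact cj_mono hM.le, fun L hL hLH => ?_, fun h1 => hM.nle fun n hn => ?_⟩
  · rcases hM.max (H284.cj x⁻¹ L) (by rw [← cj_inv_cj x M]; exact cj_mono hL)
      (by rw [← hH']; exact cj_mono hLH) with h1 | h1
    · left
      rw [← h1, cj_cj_inv]
    · right
      rw [← hH, ← h1, cj_cj_inv]
  · have h2 := h1 (hN x hx n hn)
    rw [mem_cj] at h2
    have e1 : x⁻¹ * (x * n * x⁻¹) * x = n := by group
    rwa [e1] at h2

variable [IsSimpleGroup Y] (hY : ∃ a b : Y, a * b ≠ b * a)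

include hY

/-- no factor of `N` is in `M` -/
theorem fac_ne_top (hN : MinN N H) (hM : MX H N M) (i : Fin k) : fac e M i ≠ ⊤ := by
  intro htop
  have hsg : ∀ t, sg e i t ∈ M := fun t => by
    have : t ∈ fac e M i := by rw [htop]; trivial
    exact this
  let L : Subgroup G :=
    { carrier := {x | x ∈ N ∧ ∀ y ∈ H, y * x * y⁻¹ ∈ M}
      one_mem' := ⟨one_mem _, fun y _ => by
        have : y * 1 * y⁻¹ = 1 := by group
        rw [this]; exact one_mem _⟩
      mul_mem' := by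
        rintro a b ⟨h1, h2⟩ ⟨h3, h4⟩
        refine ⟨mul_mem h1 h3, fun y hy => ?_⟩
        have : y * (a * b) * y⁻¹ = (y * a * y⁻¹) * (y * b * y⁻¹) := by group
        rw [this]; exact mul_mem (h2 y hy) (h4 y hy)
      inv_mem' := by
        rintro a ⟨h1, h2⟩
        refine ⟨inv_mem h1, fun y hy => ?_⟩
        have : y * a⁻¹ * y⁻¹ = (y * a * y⁻¹)⁻¹ := by group
        rw [this]; exact inv_mem (h2 y hy) }
  have hLN : L ≤ N := fun x hx => hx.1
  have hL : NIn L H := by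
    refine ⟨hLN.trans hN.le, ?_⟩
    rintro g hg x ⟨h1, h2⟩
    refine ⟨hN.nrm g hg x h1, fun y hy => ?_⟩
    have : y * (g * x * g⁻¹) * y⁻¹ = (y * g) * x * (y * g)⁻¹ := by group
    rw [this]; exact h2 _ (mul_mem hy hg)
  have hmem : ∀ t, sg e i t ∈ L := by
    intro t
    refine ⟨sg_mem e i t, fun y hy => ?_⟩
    obtain ⟨n, hn, m, hm, e1⟩ := hM.fac hN (inv_mem hy)
    have e2 : y = m⁻¹ * n⁻¹ := by rw [← mul_inv_rev, ← e1, inv_inv]
    have e3 : y * sg e i t * y⁻¹ = m⁻¹ * (n⁻¹ * sg e i t * n⁻¹⁻¹) * m⁻¹⁻¹ := by rw [e2]; group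
    rw [e3, conj_sg e (inv_mem hn)]
    exact mul_mem (mul_mem (inv_mem hm) (hsg _)) (inv_mem (inv_mem hm))
  rcases hN.min L hLN hL with h1 | h1
  · obtain ⟨a, b, hab⟩ := hY
    apply hab
    have h2 : sg e i a = 1 := by
      have := hmem a
      rwa [h1, Subgroup.mem_bot] at this
    have h3 : a = 1 := by
      have := cp_sg e i a
      rw [h2, cp_one] at this
      exact this.symm
    rw [h3, one_mul, mul_one]
  · apply hM.nle
    rw [← h1]
    intro x hx
    have := hx.2 1 (one_mem _)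
    rwa [one_mul, inv_one, mul_one] at this

/-- **(KL)** a core free maximal subgroup over a product of unipotent radicals is parabolic -/
theorem KL (hN : MinN N H) (hM : MX H N M) {J : Fin k → Set I} (hJ : ∀ i, J i ≠ Set.univ) {g : Fin k → Y}
    (hV : ∀ i, H284.cj (g i) (S.V (J i)) ≤ Cfsg.Agent.H737.EPO.fac e M i) :
    ∃ (L : Fin k → Set I) (n : G), n ∈ N ∧ (∀ i, L i ≠ Set.univ) ∧ M ⊓ N = H284.cj n (PP e S L) := by
  choose L c hL hKL hcan using fun i => S.canon (fac_ne_top e hY hN hM i) (hJ i) (hV i)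
  have hnm : ∀ i t, (∀ s ∈ Cfsg.Agent.H737.EPO.fac e M i, t * s * t⁻¹ ∈ Cfsg.Agent.H737.EPO.fac e M i) →
      t ∈ H284.cj (c i) (S.P (L i)) := by
    intro i t ht
    have h1 := hcan i (MulAut.conj t) ht
    have h2 : H284.cj t (H284.cj (c i) (S.P (L i))) = H284.cj (c i) (S.P (L i)) :=
      cj_eq_of_nm fun a ha => h1 a ha
    rw [mem_cj]
    apply S.norm_P
    rw [cj_mul, cj_mul, h2, cj_inv_cj]
  -- claim 1
  have h1 : ∀ x ∈ M ⊓ N, ∀ i, cp e x i ∈ H284.cj (c i) (S.P (L i)) := by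
    rintro x ⟨hxM, hxN⟩ i
    apply hnm
    intro s hs
    show sg e i (cp e x i * s * (cp e x i)⁻¹) ∈ M
    rw [← conj_sg e hxN]
    exact mul_mem (mul_mem hxM hs) (inv_mem hxM)
  -- claim 2
  have h2 : ∀ i, ∀ t ∈ H284.cj (c i) (S.P (L i)), sg e i t ∈ M := by
    intro i t ht
    let Q : Subgroup G :=
      { carrier := {x | x ∈ N ∧ ∀ m ∈ M, cp e (m * x * m⁻¹) i ∈ H284.cj (c i) (S.P (L i))}
        one_mem' := ⟨one_mem _, fun m _ => by
          have : m * 1 * m⁻¹ = 1 := by group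
          rw [this, cp_one]; exact one_mem _⟩
        mul_mem' := by
          rintro a b ⟨h1, h2⟩ ⟨h3, h4⟩
          refine ⟨mul_mem h1 h3, fun m hm => ?_⟩
          have : m * (a * b) * m⁻¹ = (m * a * m⁻¹) * (m * b * m⁻¹) := by group
          rw [this, cp_mul e (hN.nrm m (hM.le hm) a h1) (hN.nrm m (hM.le hm) b h3)]
          exact mul_mem (h2 m hm) (h4 m hm)
        inv_mem' := by
          rintro a ⟨h1, h2⟩
          refine ⟨inv_mem h1, fun m hm => ?_⟩
          have : m * a⁻¹ * m⁻¹ = (m * a * m⁻¹)⁻¹ := by group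
          rw [this, cp_inv e (hN.nrm m (hM.le hm) a h1)]
          exact inv_mem (h2 m hm) }
    have hQM : Q ≤ M := by
      refine hM.le_of_nm hN (fun x hx => hx.1) ?_ ?_
      · intro hQN
        have h3 : ∀ s : Y, s ∈ H284.cj (c i) (S.P (L i)) := by
          intro s
          have h4 : sg e i s ∈ Q := by rw [hQN]; exact sg_mem e i s
          have h5 := h4.2 1 (one_mem _)
          rwa [one_mul, inv_one, mul_one, cp_sg] at h5
        apply S.P_ne_top (hL i)
        rw [eq_top_iff]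
        intro s _
        have h4 := h3 (c i * s * (c i)⁻¹)
        rw [mem_cj] at h4
        have e1 : (c i)⁻¹ * (c i * s * (c i)⁻¹) * c i = s := by group
        rwa [e1] at h4
      · rintro m hm x ⟨h3, h4⟩
        refine ⟨hN.nrm m (hM.le hm) x h3, fun m' hm' => ?_⟩
        have : m' * (m * x * m⁻¹) * m'⁻¹ = (m' * m) * x * (m' * m)⁻¹ := by group
        rw [this]
        exact h4 _ (mul_mem hm' hm)
    apply hQM
    refine ⟨sg_mem e i t, fun m hm => ?_⟩
    rcases perm_sg e hY (minN_iff hN (hM.le hm)) i with h3 | ⟨φ, h3⟩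
    · rw [h3]
      exact one_mem _
    · rw [h3, cp_sg]
      refine hcan i φ (fun s hs => ?_) t ht
      show sg e i (φ s) ∈ M
      rw [← h3]
      exact mul_mem (mul_mem hm hs) (inv_mem hm)
  obtain ⟨n, hn, hnc⟩ := exists_cp e c
  refine ⟨L, n, hn, hL, ?_⟩
  unfold PP
  rw [cj_pk e hn]
  apply le_antisymm
  · intro x hx
    refine (mem_pk e).2 ⟨hx.2, fun i => ?_⟩
    rw [hnc]
    exact h1 x hx i
  · refine le_inf (pk_le_of_sg e fun i t ht => ?_) (pk_le e _)
    rw [hnc] at ht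
    exact h2 i t ht

end Main

section Std

variable {G Y : Type*} [Group G] [Finite G] [Group Y] [Finite Y] {H N M M' : Subgroup G} {k : ℕ}
  (e : N ≃* (Fin k → Y)) {p : ℕ} {I : Type*} (S : PSys Y p I)

/-- `B_H = N_H(U)` -/
def BH (H : Subgroup G) {N : Subgroup G} (e : N ≃* (Fin k → Y)) (S : PSys Y p I) : Subgroup G :=
  H ⊓ Subgroup.normalizer (VV e S (fun _ => ∅) : Set G)

/-- the parabolic subgroup of `H` of type `J` -/
def PH (H : Subgroup G) {N : Subgroup G} (e : N ≃* (Fin k → Y)) (S : PSys Y p I) (J : Fin k → Set I) : Subgroup G :=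
  H ⊓ Subgroup.normalizer (PP e S J : Set G)

theorem mem_BH {x : G} : x ∈ BH H e S ↔ x ∈ H ∧ cj x (VV e S fun _ => ∅) = VV e S fun _ => ∅ := by
  unfold BH
  rw [Subgroup.mem_inf, Subgroup.mem_normalizer_iff_map_conj_eq]
  exact Iff.rfl

theorem mem_PH {J : Fin k → Set I} {x : G} : x ∈ PH H e S J ↔ x ∈ H ∧ cj x (PP e S J) = PP e S J := by
  unfold PH
  rw [Subgroup.mem_inf, Subgroup.mem_normalizer_iff_map_conj_eq]
  exact Iff.rfl

/-- `H`-invariant types -/
def Inv (H : Subgroup G) {N : Subgroup G} (e : N ≃* (Fin k → Y)) (S : PSys Y p I) (J : Fin k → Set I) : Prop :=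
  ∀ x ∈ BH H e S, cj x (PP e S J) = PP e S J

theorem BH_le_PH {J : Fin k → Set I} (hJ : Inv H e S J) : BH H e S ≤ PH H e S J := fun x hx =>
  (mem_PH e S).2 ⟨((mem_BH e S).1 hx).1, hJ x hx⟩

theorem PP_le_PH (hNH : N ≤ H) (J : Fin k → Set I) : PP e S J ≤ PH H e S J := fun _ hx =>
  (mem_PH e S).2 ⟨hNH (PP_le e S J hx), cj_eq_self hx⟩

theorem PH_inf (hNH : N ≤ H) (J : Fin k → Set I) : PH H e S J ⊓ N = PP e S J := by
  apply le_antisymm
  · rintro x ⟨h1, h2⟩
    exact norm_PP e S h2 ((mem_PH e S).1 h1).2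
  · exact le_inf (PP_le_PH e S hNH J) (PP_le e S J)

variable [Fact p.Prime]

/-- `P_J = (P_J ∩ N) B_H` -/
theorem mem_PH_fac (hN : ∀ g ∈ H, ∀ n ∈ N, g * n * g⁻¹ ∈ N) (hNH : N ≤ H) {J : Fin k → Set I} {x : G}
    (hx : x ∈ PH H e S J) : ∃ a ∈ PP e S J, ∃ b ∈ BH H e S, x = a * b := by
  obtain ⟨hxH, hxJ⟩ := (mem_PH e S).1 hx
  obtain ⟨n, hn, h1⟩ := frattini e S (hN x hxH)
  have h2 : n ∈ PP e S J := by
    have h3 : VV e S (fun _ => ∅) ≤ cj n⁻¹ (PP e S J) := by
      rw [← cj_le_iff, ← h1, ← hxJ]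
      exact cj_mono (VV_le_PP' e S _ _)
    have h4 := mem_of_UU_le e S (inv_mem hn) h3
    have := inv_mem h4
    rwa [inv_inv] at this
  refine ⟨n, h2, n⁻¹ * x, (mem_BH e S).2 ⟨mul_mem (inv_mem (hNH hn)) hxH, ?_⟩, by group⟩
  rw [cj_mul, h1, cj_inv_cj]

/-- `B_H ∩ N = B_N` -/
theorem BH_cj_B {x : G} (hN : ∀ g ∈ H, ∀ n ∈ N, g * n * g⁻¹ ∈ N) (hx : x ∈ BH H e S) :
    cj x (PP e S fun _ => ∅) = PP e S fun _ => ∅ := by
  obtain ⟨hxH, hxU⟩ := (mem_BH e S).1 hx
  apply cj_eq_of_nm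
  intro a ha
  have haN := PP_le e S _ ha
  apply norm_UU e S (hN x hxH a haN)
  have hxU' : cj x⁻¹ (VV e S fun _ => ∅) = VV e S fun _ => ∅ := by
    have h1 := congrArg (cj x⁻¹) hxU
    rw [cj_inv_cj] at h1
    exact h1.symm
  rw [cj_mul, cj_mul, hxU', cj_eq_of_nm (K := VV e S fun _ => ∅) (x := a), hxU]
  intro v hv
  exact PP_nm e S ha hv

theorem Inv.sup {J L : Fin k → Set I} (hJ : Inv H e S J) (hL : Inv H e S L) : Inv H e S fun i => J i ∪ L i := by
  intro x hx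
  rw [← PP_sup, cj_sup, hJ x hx, hL x hx]

theorem Inv.inf {J L : Fin k → Set I} (hJ : Inv H e S J) (hL : Inv H e S L) : Inv H e S fun i => J i ∩ L i := by
  intro x hx
  rw [← PP_inf, cj_inf, hJ x hx, hL x hx]

theorem Inv.compl (hN : ∀ g ∈ H, ∀ n ∈ N, g * n * g⁻¹ ∈ N) {J : Fin k → Set I} (hJ : Inv H e S J) :
    Inv H e S fun i => (J i)ᶜ := by
  intro x hx
  have hxH := ((mem_BH e S).1 hx).1
  have h1 : PP e S (fun _ => ∅) ≤ cj x (PP e S fun i => (J i)ᶜ) := by
    rw [← BH_cj_B e S hN hx]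
    exact cj_mono ((PP_le_iff e S).2 fun _ => Set.empty_subset _)
  have h2 : cj x (PP e S fun i => (J i)ᶜ) ≤ N := by
    rintro _ ⟨y, hy, rfl⟩
    exact hN x hxH y (PP_le e S _ hy)
  obtain ⟨K, hK⟩ := PP_over e S h1 h2
  rw [hK]
  congr 1
  have h3 : cj x (PP e S fun i => (J i)ᶜ) ⊔ PP e S J = N := by
    rw [← hJ x hx, ← cj_sup, PP_sup]
    have : (fun i => (J i)ᶜ ∪ J i) = fun _ => Set.univ := by
      funext i; exact Set.compl_union_self _
    rw [this, PP_univ]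
    exact cj_eq_of_nm fun a ha => hN x hxH a ha
  have h4 : cj x (PP e S fun i => (J i)ᶜ) ⊓ PP e S J = PP e S fun _ => ∅ := by
    rw [← hJ x hx, ← cj_inf, PP_inf]
    have : (fun i => (J i)ᶜ ∩ J i) = fun _ => ∅ := by
      funext i; exact Set.compl_inter_self _
    rw [this, BH_cj_B e S hN hx]
  rw [hK, PP_sup] at h3
  rw [hK, PP_inf] at h4
  have h6 := PP_inj e S h4
  funext i
  have h7 : K i ∪ J i = Set.univ := univ_of_PP e S h3 i
  have h8 : K i ∩ J i = ∅ := congrFun h6 i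
  apply Set.Subset.antisymm
  · intro a ha haJ
    have : a ∈ K i ∩ J i := ⟨ha, haJ⟩
    rw [h8] at this
    exact this
  · intro a ha
    have : a ∈ K i ∪ J i := by rw [h7]; trivial
    exact this.resolve_right ha

/-- `V_J` is normalised by `P_J(H)` -/
theorem PH_nm_VV {J : Fin k → Set I} {x : G} (hx : x ∈ PH H e S J) {v : G}
    (hv : v ∈ VV e S J) : x * v * x⁻¹ ∈ VV e S J := by
  obtain ⟨hxH, hxJ⟩ := (mem_PH e S).1 hx
  have h1 : cj x (VV e S J) ≤ VV e S J := by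
    apply VV_max e S
    · rw [← hxJ]
      exact cj_mono (VV_le_PP e S J)
    · exact (VV_isPGroup e S J).map _
    · intro g hg d hd
      rw [mem_cj] at hd ⊢
      have h2 : x⁻¹ * g * x ∈ PP e S J := by
        rw [← hxJ, mem_cj] at hg
        exact hg
      have h3 := PP_nm e S h2 hd
      have e1 : x⁻¹ * g * x * (x⁻¹ * d * x) * (x⁻¹ * g * x)⁻¹ = x⁻¹ * (g * d * g⁻¹) * x := by group
      rwa [e1] at h3
  exact h1 (conj_mem_cj hv)

variable [IsSimpleGroup Y] (hY : ∃ a b : Y, a * b ≠ b * a)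

include hY

/-- **(T)** core free maximal subgroups over `U` are the `P_L(H)`, `L` an invariant type, and contain `B_H` -/
theorem std [Nonempty I] (hN : MinN N H) (hM : MX H N M) (hU : VV e S (fun _ => ∅) ≤ M) :
    ∃ L : Fin k → Set I, (∀ i, L i ≠ Set.univ) ∧ M ⊓ N = PP e S L ∧ Inv H e S L ∧ M = PH H e S L ∧ BH H e S ≤ M := by
  have hne : (∅ : Set I) ≠ Set.univ := Set.empty_ne_univ
  obtain ⟨L, n, hn, hL, hMN⟩ := KL e S hY hN hM (J := fun _ => ∅) (fun _ => hne) (g := fun _ => 1) (fun i => by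
    rw [cj_one]
    intro t ht
    exact hU ((sg_mem_pk e).2 ht))
  have h1 : n ∈ PP e S L := mem_of_UU_le e S hn (by rw [← hMN]; exact le_inf hU (VV_le e S _))
  have h2 : M ⊓ N = PP e S L := by rw [hMN]; exact cj_eq_self h1
  have hnm : ∀ m ∈ M, ∀ a ∈ PP e S L, m * a * m⁻¹ ∈ PP e S L := by
    intro m hm a ha
    rw [← h2] at ha ⊢
    exact ⟨M.mul_mem (M.mul_mem hm ha.1) (M.inv_mem hm), hN.nrm m (hM.le hm) a ha.2⟩
  have hQN : PP e S L ≠ N := by
    intro h3
    have hk : ∃ i : Fin k, True := by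
      by_contra hcon
      push Not at hcon
      apply hN.ne
      rw [Subgroup.eq_bot_iff_forall]
      intro x hx
      exact ext_cp e hx (one_mem _) fun i => (hcon i).elim
    obtain ⟨i, -⟩ := hk
    exact hL i (univ_of_PP e S h3 i)
  have hQ1 : PP e S L ≠ ⊥ := by
    intro h3
    have h4 : ∀ _ : Fin k, S.P ∅ = ⊥ := by
      intro i
      rw [Subgroup.eq_bot_iff_forall]
      intro t ht
      have h5 : sg e i t ∈ PP e S L := (sg_mem_pk e).2 (S.P_mono (Set.empty_subset _) ht)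
      rw [h3, Subgroup.mem_bot] at h5
      have := cp_sg e i t
      rw [h5, cp_one] at this
      exact this.symm
    have hk : ∃ i : Fin k, True := by
      by_contra hcon
      push Not at hcon
      apply hN.ne
      rw [Subgroup.eq_bot_iff_forall]
      intro x hx
      exact ext_cp e hx (one_mem _) fun i => (hcon i).elim
    obtain ⟨i, -⟩ := hk
    have h5 : S.V ∅ = ⊥ := by rw [eq_bot_iff, ← h4 i]; exact S.V_le ∅
    have h6 := S.U_norm
    rw [h5, h4 i] at h6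
    have h7 : (⊤ : Subgroup Y) ≤ ⊥ := by
      rw [← h6]
      intro t _
      rw [Subgroup.mem_normalizer_iff_map_conj_eq]
      exact Subgroup.map_bot _
    obtain ⟨a, b, hab⟩ := hY
    have ha : a = 1 := h7 (Subgroup.mem_top a)
    exact hab (by rw [ha, one_mul, mul_one])
  have hmem : ∀ x ∈ H, cj x (PP e S L) = PP e S L → x ∈ M := fun x hx hxQ =>
    hM.norm hN (PP_le e S L) hQ1 hQN hnm hx hxQ
  have hInv : Inv H e S L := by
    intro x hx
    obtain ⟨hxH, hxU⟩ := (mem_BH e S).1 hx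
    obtain ⟨n', hn', m, hm, rfl⟩ := hM.fac hN hxH
    have h3 : cj m (PP e S L) = PP e S L := cj_eq_of_nm (hnm m hm)
    rw [cj_mul, h3]
    apply cj_eq_self
    apply mem_of_UU_le e S hn'
    rw [← h3, ← cj_mul, ← hxU]
    exact cj_mono (VV_le_PP' e S _ _)
  refine ⟨L, hL, h2, hInv, le_antisymm (fun m hm => (mem_PH e S).2 ⟨hM.le hm, cj_eq_of_nm (hnm m hm)⟩)
    (fun x hx => ?_), fun x hx => hmem x ((mem_BH e S).1 hx).1 (hInv x hx)⟩
  obtain ⟨h3, h4⟩ := (mem_PH e S).1 hx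
  exact hmem x h3 h4

omit hY in
theorem PH_le_iff (hN : ∀ g ∈ H, ∀ n ∈ N, g * n * g⁻¹ ∈ N) (hNH : N ≤ H) {J L : Fin k → Set I}
    (hL : Inv H e S L) : PH H e S J ≤ PH H e S L ↔ ∀ i, J i ⊆ L i := by
  constructor
  · intro h1
    rw [← PP_le_iff e S, ← PH_inf e S hNH J, ← PH_inf e S hNH L]
    exact inf_le_inf_right _ h1
  · intro h1 x hx
    obtain ⟨a, ha, b, hb, rfl⟩ := mem_PH_fac e S hN hNH hx
    exact mul_mem (PP_le_PH e S hNH L ((PP_le_iff e S).2 h1 ha)) (BH_le_PH e S hL hb)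

/-- **(U)** `L` the type of `M`: the only core free maximal subgroup over `U` not containing `P_{Lᶜ}(H)` is `M` -/
theorem uniq [Nonempty I] (hN : MinN N H) (hM : MX H N M) {L : Fin k → Set I} (hL : Inv H e S L)
    (hML : M = PH H e S L) (hM' : MX H N M') (hU' : VV e S (fun _ => ∅) ≤ M')
    (hP : ¬ PH H e S (fun i => (L i)ᶜ) ≤ M') : M' = M := by
  obtain ⟨L', hL'ne, hL'1, hL'i, hL'e, -⟩ := std e S hY hN hM' hU'
  have hNn := hN.nrm
  have hsup := Inv.sup e S hL hL'i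
  rcases hM.max (PH H e S fun i => L i ∪ L' i) (by
    rw [hML]
    exact (PH_le_iff e S hNn hN.le hsup).2 fun i => Set.subset_union_left) inf_le_left with h1 | h1
  · have h2 : M' ≤ M := by
      rw [hL'e, hML]
      rw [hML] at h1
      refine (PH_le_iff e S hNn hN.le hL).2 fun i => ?_
      have h3 := (PH_le_iff e S hNn hN.le hL).1 h1.le i
      exact Set.subset_union_right.trans h3
    rcases hM'.max M h2 hM.le with h3 | h3
    · exact h3.symm
    · exact absurd h3 (hM.ne hN.le)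
  · exfalso
    apply hP
    rw [hL'e]
    refine (PH_le_iff e S hNn hN.le hL'i).2 fun i => ?_
    have h2 : PP e S (fun i => L i ∪ L' i) = N := by
      rw [← PH_inf e S hN.le, h1]
      exact inf_eq_right.2 hN.le
    have h3 : L i ∪ L' i = Set.univ := univ_of_PP e S h2 i
    intro a ha
    have : a ∈ L i ∪ L' i := by rw [h3]; trivial
    exact this.resolve_left ha

/-- an invariant type containing a whole component is everything -/
theorem inv_ne_univ (hN : MinN N H) {K : Fin k → Set I} (hK : Inv H e S K) {i : Fin k} (hi : K i ≠ Set.univ)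
    (j : Fin k) : K j ≠ Set.univ := by
  intro hj
  have h1 : ∀ t, sg e j t ∈ PP e S K := fun t => (sg_mem_pk e).2 (by rw [hj, S.P_univ]; trivial)
  let L : Subgroup G :=
    { carrier := {x | x ∈ N ∧ ∀ y ∈ H, y * x * y⁻¹ ∈ PP e S K}
      one_mem' := ⟨one_mem _, fun y _ => by
        have : y * 1 * y⁻¹ = 1 := by group
        rw [this]; exact one_mem _⟩
      mul_mem' := by
        rintro a b ⟨h1, h2⟩ ⟨h3, h4⟩
        refine ⟨mul_mem h1 h3, fun y hy => ?_⟩
        have : y * (a * b) * y⁻¹ = (y * a * y⁻¹) * (y * b * y⁻¹) := by group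
        rw [this]; exact mul_mem (h2 y hy) (h4 y hy)
      inv_mem' := by
        rintro a ⟨h1, h2⟩
        refine ⟨inv_mem h1, fun y hy => ?_⟩
        have : y * a⁻¹ * y⁻¹ = (y * a * y⁻¹)⁻¹ := by group
        rw [this]; exact inv_mem (h2 y hy) }
  have hL : NIn L H := by
    refine ⟨fun x hx => hN.le hx.1, ?_⟩
    rintro g hg x ⟨h1, h2⟩
    refine ⟨hN.nrm g hg x h1, fun y hy => ?_⟩
    have : y * (g * x * g⁻¹) * y⁻¹ = (y * g) * x * (y * g)⁻¹ := by group
    rw [this]; exact h2 _ (mul_mem hy hg)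
  have hHtop : PH H e S (fun _ => Set.univ) = H := by
    apply le_antisymm inf_le_left
    intro x hx
    show x ∈ PH H e S fun _ => Set.univ
    rw [mem_PH, PP_univ]
    exact ⟨hx, cj_eq_of_nm fun a ha => hN.nrm x hx a ha⟩
  have hmem : ∀ t, sg e j t ∈ L := by
    intro t
    refine ⟨sg_mem e j t, fun y hy => ?_⟩
    rw [← inv_inv y] at hy ⊢
    rw [← hHtop] at hy
    obtain ⟨a, ha, b, hb, hab⟩ := mem_PH_fac e S hN.nrm hN.le (inv_mem hy)
    rw [inv_inv] at hab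
    have hb' := hK b⁻¹ (inv_mem hb)
    have e3 : y⁻¹⁻¹ * sg e j t * y⁻¹⁻¹⁻¹ = b⁻¹ * (a⁻¹ * sg e j t * a⁻¹⁻¹) * b⁻¹⁻¹ := by rw [hab]; group
    rw [e3, conj_sg e (inv_mem (PP_le e S _ ha))]
    exact nm_of_cj_eq hb' (h1 _)
  rcases hN.min L (fun x hx => hx.1) hL with h2 | h2
  · obtain ⟨a, b, hab⟩ := hY
    apply hab
    have h3 : sg e j a = 1 := by
      have := hmem a
      rwa [h2, Subgroup.mem_bot] at this
    have h4 : a = 1 := by
      have := cp_sg e j a
      rw [h3, cp_one] at this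
      exact this.symm
    rw [h4, one_mul, mul_one]
  · apply hi
    have h3 : PP e S K = N := by
      apply le_antisymm (PP_le e S K)
      intro x hx
      rw [← h2] at hx
      have := hx.2 1 (one_mem _)
      rwa [one_mul, inv_one, mul_one] at this
    exact univ_of_PP e S h3 i

/-- **(K″)** core free maximal subgroups over `V_K`, `K` invariant proper: some `P_K`-conjugate contains `B_H` -/
theorem par [Nonempty I] (hN : MinN N H) {K : Fin k → Set I} (hK1 : ∀ i, K i ≠ Set.univ) (hM' : MX H N M')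
    (hV : VV e S K ≤ M') : ∃ a ∈ PP e S K, BH H e S ≤ cj a M' ∧ VV e S (fun _ => ∅) ≤ cj a M' := by
  obtain ⟨L, n, hn, hL, hMN⟩ := KL e S hY hN hM' (J := K) hK1 (g := fun _ => 1) (fun i => by
    rw [cj_one]
    intro t ht
    exact hV ((sg_mem_pk e).2 ht))
  obtain ⟨a, ha, b, hb, rfl⟩ := PP_dec e S hn (K := K) (L := L) (by rw [← hMN]; exact le_inf hV (VV_le e S _))
  have h1 : M' ⊓ N = cj a (PP e S L) := by rw [hMN, cj_mul, cj_eq_self hb]
  have h2 : VV e S (fun _ => ∅) ≤ cj a⁻¹ M' := by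
    have h3 : PP e S L ≤ cj a⁻¹ M' := by
      rw [← cj_le_iff, ← h1]
      exact inf_le_left
    exact (VV_le_PP' e S _ _).trans h3
  obtain ⟨-, -, -, -, -, h3⟩ := std e S hY hN (hM'.cj hN.nrm (inv_mem (hN.le (PP_le e S K ha)))) h2
  exact ⟨a⁻¹, inv_mem ha, h3, h2⟩

end Std

end Cfsg.Agent.H737.EPO
end

-- part: H284/EPO/CaseB
section
/-!
# Extremely primitive groups, own characteristic: the abstract case (B) of helper918 (helper284)

`PanelB H R P D M p` : `H` a point stabiliser of an extremely primitive group, `R` a Sylow `p`-subgroup of `H`, `P ≤ H`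
("minimal parabolic" or `P_J`), `D ≤ R` normalised by `P`, `M ≥ R` a two point stabiliser not containing `P`.
`VecB` : a group `W ≥ D`, `W ∩ H = D`, `W/D` elementary abelian, normalised by `P`.
-/

set_option autoImplicit false
set_option linter.unusedSectionVars false

namespace Cfsg.Agent.H284

open MulAction Subgroup

variable {G : Type*} [Group G]

/-- the setting of case (B) -/
structure PanelB (H R P D M : Subgroup G) (p : ℕ) : Prop where
  ep : EP H
  hp : p.Prime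
  RH : R ≤ H
  Rp : IsPGroup p R
  /-- `R` is a Sylow `p`-subgroup of `H` -/
  Rsyl : ∀ Q : Subgroup G, Q ≤ H → IsPGroup p Q → R ≤ Q → Q = R
  /-- (T) Tits: two point stabilisers above `R` contain `N_H(R)` -/
  tits : ∀ M' ∈ EP.twoSet H, R ≤ M' → ∀ g ∈ H, (∀ r ∈ R, g * r * g⁻¹ ∈ R) → g ∈ M'
  PH : P ≤ H
  NR : ∀ g ∈ H, (∀ r ∈ R, g * r * g⁻¹ ∈ R) → g ∈ P
  M2 : M ∈ EP.twoSet H
  RM : R ≤ M
  PM : ¬ P ≤ M
  /-- (U) -/
  uniq : ∀ M' ∈ EP.twoSet H, R ≤ M' → ¬ P ≤ M' → M' = M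
  DR : D ≤ R
  Dn : ∀ g ∈ P, ∀ d ∈ D, g * d * g⁻¹ ∈ D
  /-- (K) two point stabilisers above `D` have a `P`-conjugate above `R` -/
  par : ∀ M' ∈ EP.twoSet H, D ≤ M' → ∃ g ∈ P, R ≤ cj g M'

/-- the vectors -/
structure VecB (H P D W : Subgroup G) (p : ℕ) : Prop where
  DW : D ≤ W
  WH : W ⊓ H = D
  Wn : ∀ g ∈ P, ∀ w ∈ W, g * w * g⁻¹ ∈ W
  WD : ∀ w ∈ W, ∀ d ∈ D, w * d * w⁻¹ ∈ D
  comm : ∀ w ∈ W, ∀ w' ∈ W, w * w' * w⁻¹ * w'⁻¹ ∈ D
  pow : ∀ w ∈ W, w ^ p ∈ D

/-- existence of the vectors in a `p`-group `Q` normalised by `P` with `Q ∩ H = D < Q` -/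
theorem exists_vecB [Finite G] {H P D Q : Subgroup G} {p : ℕ} (hp : p.Prime)
    (Dn : ∀ g ∈ P, ∀ d ∈ D, g * d * g⁻¹ ∈ D) (hQp : IsPGroup p Q)
    (hQn : ∀ g ∈ P, ∀ w ∈ Q, g * w * g⁻¹ ∈ Q) (hDQ : D ≤ Q) (hQH : Q ⊓ H = D) (hne : Q ≠ D) :
    ∃ W ≤ Q, W ≠ D ∧ VecB H P D W p := by
  have := Fact.mk hp
  have hnD : ∀ g : G, (∀ d ∈ D, g * d * g⁻¹ ∈ D) → ∀ d ∈ D, g⁻¹ * d * g⁻¹⁻¹ ∈ D := by
    intro g hg d hd
    have h1 : cj g D = D := by
      apply Subgroup.eq_of_le_of_card_ge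
      · rintro _ ⟨k, hk, rfl⟩
        exact hg k hk
      · rw [card_cj]
    rw [← h1, mem_cj] at hd
    rwa [inv_inv]
  -- `Q₁ = N_Q(D)`
  let Q₁ : Subgroup G :=
    { carrier := {g | g ∈ Q ∧ ∀ d ∈ D, g * d * g⁻¹ ∈ D}
      one_mem' := ⟨one_mem _, fun d hd => by rwa [one_mul, inv_one, mul_one]⟩
      mul_mem' := by
        rintro a b ⟨h1, h2⟩ ⟨h3, h4⟩
        refine ⟨mul_mem h1 h3, fun d hd => ?_⟩
        have e : a * b * d * (a * b)⁻¹ = a * (b * d * b⁻¹) * a⁻¹ := by group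
        rw [e]
        exact h2 _ (h4 d hd)
      inv_mem' := by
        rintro a ⟨h1, h2⟩
        exact ⟨inv_mem h1, hnD a h2⟩ }
  have hQ₁Q : Q₁ ≤ Q := fun g hg => hg.1
  have hDQ₁ : D ≤ Q₁ := fun d hd => ⟨hDQ hd, fun d' hd' => mul_mem (mul_mem hd hd') (inv_mem hd)⟩
  obtain ⟨y, hyQ, hyD, hyn⟩ := exists_norm_lt hp hQp hDQ hne
  have hyQ₁ : y ∈ Q₁ := ⟨hyQ, hyn⟩
  have hQ₁n : ∀ g ∈ P, ∀ w ∈ Q₁, g * w * g⁻¹ ∈ Q₁ := by
    rintro g hg w ⟨h1, h2⟩
    refine ⟨hQn g hg w h1, fun d hd => ?_⟩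
    have h3 := hnD g (Dn g hg) d hd
    rw [inv_inv] at h3
    have e : g * w * g⁻¹ * d * (g * w * g⁻¹)⁻¹ = g * (w * (g⁻¹ * d * g) * w⁻¹) * g⁻¹ := by group
    rw [e]
    exact Dn g hg _ (h2 _ h3)
  -- the quotient `Q₁/D`
  have hDn : (D.subgroupOf Q₁).Normal := by
    constructor
    intro d hd g
    exact g.2.2 _ hd
  have hQ₁p : IsPGroup p (Q₁ ⧸ D.subgroupOf Q₁) := (hQp.to_le hQ₁Q).to_quotient _
  have hnt : Nontrivial (Q₁ ⧸ D.subgroupOf Q₁) := by
    refine ⟨⟨((⟨y, hyQ₁⟩ : Q₁) : Q₁ ⧸ D.subgroupOf Q₁), 1, ?_⟩⟩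
    intro e
    exact hyD ((QuotientGroup.eq_one_iff (N := D.subgroupOf Q₁) _).1 e)
  have hZ : Nontrivial (center (Q₁ ⧸ D.subgroupOf Q₁)) := hQ₁p.center_nontrivial
  obtain ⟨z, hz⟩ : ∃ z : center (Q₁ ⧸ D.subgroupOf Q₁), orderOf z = p := by
    have h1 : p ∣ Nat.card (center (Q₁ ⧸ D.subgroupOf Q₁)) := by
      have h2 := (hQ₁p.to_subgroup (center (Q₁ ⧸ D.subgroupOf Q₁))).card_eq_or_dvd
      rcases h2 with h3 | h3
      · exfalso
        have := Finite.one_lt_card_iff_nontrivial.2 hZ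
        omega
      · exact h3
    exact exists_prime_orderOf_dvd_card' p h1
  have hQcomm : ∀ a b : Q₁, ((a : Q₁ ⧸ D.subgroupOf Q₁) * b = b * a) ↔ (a : G) * b * (a : G)⁻¹ * (b : G)⁻¹ ∈ D := by
    intro a b
    have h1 : ((a : Q₁ ⧸ D.subgroupOf Q₁) * b = b * a) ↔ ((a * b * a⁻¹ * b⁻¹ : Q₁) : Q₁ ⧸ D.subgroupOf Q₁) = 1 := by
      rw [QuotientGroup.mk_mul, QuotientGroup.mk_mul, QuotientGroup.mk_mul, QuotientGroup.mk_inv,
        QuotientGroup.mk_inv, mul_inv_eq_one, mul_inv_eq_iff_eq_mul]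
    rw [h1, QuotientGroup.eq_one_iff]
    rfl
  -- the group `W`
  let W₀ : Subgroup (Q₁ ⧸ D.subgroupOf Q₁) :=
    { carrier := {x | x ∈ center (Q₁ ⧸ D.subgroupOf Q₁) ∧ x ^ p = 1}
      one_mem' := ⟨one_mem _, one_pow _⟩
      mul_mem' := by
        rintro a b ⟨h1, h2⟩ ⟨h3, h4⟩
        refine ⟨mul_mem h1 h3, ?_⟩
        rw [(show Commute a b from ((mem_center_iff.1 h3) a)).mul_pow, h2, h4, one_mul]
      inv_mem' := by
        rintro a ⟨h1, h2⟩
        exact ⟨inv_mem h1, by rw [inv_pow, h2, inv_one]⟩ }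
  let W : Subgroup G := (W₀.comap (QuotientGroup.mk' (D.subgroupOf Q₁))).map Q₁.subtype
  have hmem : ∀ w : Q₁, (w : G) ∈ W ↔ (w : Q₁ ⧸ D.subgroupOf Q₁) ∈ W₀ := by
    intro w
    constructor
    · rintro ⟨v, hv, e⟩
      have : v = w := Subtype.ext e
      rw [← this]
      exact hv
    · intro hw
      exact ⟨w, hw, rfl⟩
  have hWQ₁ : W ≤ Q₁ := by
    rintro _ ⟨v, _, rfl⟩
    exact v.2
  have hDW : D ≤ W := by
    intro d hd
    have h1 : ((⟨d, hDQ₁ hd⟩ : Q₁) : Q₁ ⧸ D.subgroupOf Q₁) = 1 := (QuotientGroup.eq_one_iff _).2 hd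
    exact (hmem ⟨d, hDQ₁ hd⟩).2 (by rw [h1]; exact one_mem _)
  refine ⟨W, hWQ₁.trans hQ₁Q, ?_, ⟨hDW, ?_, ?_, ?_, ?_, ?_⟩⟩
  · intro e
    obtain ⟨w, hw⟩ := QuotientGroup.mk_surjective (z : Q₁ ⧸ D.subgroupOf Q₁)
    have h1 : (w : G) ∈ W := by
      rw [hmem, hw]
      refine ⟨z.2, ?_⟩
      have h2 := pow_orderOf_eq_one z
      rw [hz] at h2
      exact Subtype.ext_iff.1 h2
    rw [e] at h1
    have h2 : (w : Q₁ ⧸ D.subgroupOf Q₁) = 1 := (QuotientGroup.eq_one_iff _).2 h1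
    rw [hw] at h2
    have h3 : z = 1 := Subtype.ext h2
    rw [h3, orderOf_one] at hz
    exact hp.one_lt.ne hz
  · apply le_antisymm
    · rw [← hQH]
      exact inf_le_inf_right _ (hWQ₁.trans hQ₁Q)
    · refine le_inf hDW ?_
      rw [← hQH]
      exact inf_le_right
  · intro g hg w hw
    have hwQ := hWQ₁ hw
    have h1 := (hmem ⟨w, hwQ⟩).1 hw
    refine (hmem ⟨g * w * g⁻¹, hQ₁n g hg w hwQ⟩).2 ⟨?_, ?_⟩
    · rw [mem_center_iff]
      intro x
      obtain ⟨v, rfl⟩ := QuotientGroup.mk_surjective x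
      rw [hQcomm]
      have hg' : ∀ d ∈ D, g⁻¹ * d * g ∈ D := by
        intro d hd
        have h3 := hnD g (Dn g hg) d hd
        rwa [inv_inv] at h3
      have hv' : g⁻¹ * (v : G) * g ∈ Q₁ := by
        have h3 : cj g Q₁ = Q₁ := by
          apply Subgroup.eq_of_le_of_card_ge
          · rintro _ ⟨k, hk, rfl⟩
            exact hQ₁n g hg k hk
          · rw [card_cj]
        have h4 : (v : G) ∈ cj g Q₁ := by rw [h3]; exact v.2
        exact mem_cj.1 h4
      have h2 := (mem_center_iff.1 h1.1) ((⟨g⁻¹ * (v : G) * g, hv'⟩ : Q₁) : Q₁ ⧸ D.subgroupOf Q₁)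
      rw [hQcomm] at h2
      have h3 := Dn g hg _ h2
      have e : g * ((g⁻¹ * (v : G) * g) * w * (g⁻¹ * (v : G) * g)⁻¹ * w⁻¹) * g⁻¹ =
          (v : G) * (g * w * g⁻¹) * (v : G)⁻¹ * (g * w * g⁻¹)⁻¹ := by group
      have h3' : g * ((g⁻¹ * (v : G) * g) * w * (g⁻¹ * (v : G) * g)⁻¹ * w⁻¹) * g⁻¹ ∈ D := h3
      rw [e] at h3'
      exact h3'
    · have h2 := h1.2
      rw [← QuotientGroup.mk_pow, QuotientGroup.eq_one_iff] at h2 ⊢
      have h3 : w ^ p ∈ D := h2
      show (g * w * g⁻¹) ^ p ∈ D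
      rw [conj_pow]
      exact Dn g hg _ h3
  · intro w hw d hd
    exact (hWQ₁ hw).2 d hd
  · intro w hw w' hw'
    have h1 := ((hmem ⟨w, hWQ₁ hw⟩).1 hw).1
    have h2 := (mem_center_iff.1 h1) ((⟨w', hWQ₁ hw'⟩ : Q₁) : Q₁ ⧸ D.subgroupOf Q₁)
    exact (hQcomm ⟨w, hWQ₁ hw⟩ ⟨w', hWQ₁ hw'⟩).1 h2.symm
  · intro w hw
    have h1 := ((hmem ⟨w, hWQ₁ hw⟩).1 hw).2
    rw [← QuotientGroup.mk_pow, QuotientGroup.eq_one_iff] at h1
    exact h1

namespace VecB

variable {H P D W : Subgroup G} {p : ℕ} (v : VecB H P D W p)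

include v

/-- the stabiliser of the vector `wD` in `P` is `P ∩ H^w` -/
theorem stab_iff (hPH : P ≤ H) {w : G} (hw : w ∈ W) {g : G} (hg : g ∈ P) :
    w⁻¹ * (g * w * g⁻¹) ∈ D ↔ g ∈ cj w H := by
  have hDH : D ≤ H := by rw [← v.WH]; exact inf_le_right
  rw [mem_cj]
  constructor
  · intro h1
    have e : w⁻¹ * g * w = w⁻¹ * (g * w * g⁻¹) * g := by group
    rw [e]
    exact H.mul_mem (hDH h1) (hPH hg)
  · intro h1
    rw [← v.WH]
    refine ⟨W.mul_mem (W.inv_mem hw) (v.Wn g hg w hw), ?_⟩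
    have e : w⁻¹ * (g * w * g⁻¹) = w⁻¹ * g * w * g⁻¹ := by group
    rw [e]
    exact H.mul_mem h1 (H.inv_mem (hPH hg))

theorem notMem_H {w : G} (hw : w ∈ W) (hwD : w ∉ D) : w ∉ H := fun e => hwD (by rw [← v.WH]; exact ⟨hw, e⟩)

end VecB

namespace PanelB

variable {H R P D M W : Subgroup G} {p : ℕ} (c : PanelB H R P D M p)

include c

theorem DH : D ≤ H := c.DR.trans c.RH

theorem RP : R ≤ P := fun r hr => c.NR r (c.RH hr) fun _ hr' => R.mul_mem (R.mul_mem hr hr') (R.inv_mem hr)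

theorem MH : M ≤ H := by
  obtain ⟨x, _, e⟩ := c.M2
  rw [e]
  exact inf_le_left

/-- two-point stabilisers above `R` are preserved by elements normalising `R` -/
theorem D_le (v : VecB H P D W p) {w : G} (hw : w ∈ W) : D ≤ H ⊓ cj w H := by
  refine le_inf c.DH ?_
  intro d hd
  rw [mem_cj]
  have h1 := v.WD w⁻¹ (W.inv_mem hw) d hd
  rw [inv_inv] at h1
  exact c.DH h1

theorem two_mem (v : VecB H P D W p) {w : G} (hw : w ∈ W) (hwD : w ∉ D) : H ⊓ cj w H ∈ EP.twoSet H :=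
  ⟨w, v.notMem_H hw hwD, rfl⟩

omit c in
theorem cj_two {x g : G} (hg : g ∈ H) : cj g (H ⊓ cj x H) = H ⊓ cj (g * x * g⁻¹) H := by
  rw [cj_inf, cj_eq_self hg, ← cj_mul]
  congr 1
  rw [cj_mul (g * x), cj_eq_self (H.inv_mem hg)]

omit c in
theorem cj_mem_twoSet {M' : Subgroup G} {g : G} (hM' : M' ∈ EP.twoSet H) (hg : g ∈ H) : cj g M' ∈ EP.twoSet H := by
  obtain ⟨x, hx, rfl⟩ := hM'
  refine ⟨g * x * g⁻¹, ?_, cj_two hg⟩
  intro e
  apply hx
  have h1 := H.mul_mem (H.mul_mem (H.inv_mem hg) e) hg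
  have e2 : g⁻¹ * (g * x * g⁻¹) * g = x := by group
  rwa [e2] at h1

/-- `N_{G_b}(R) = N_H(R)` -/
theorem norm_point [Finite G] {x : G} (hx : x ∉ H) (hR : R ≤ cj x H) {g : G} (hg : g ∈ cj x H)
    (hgR : ∀ r ∈ R, g * r * g⁻¹ ∈ R) : g ∈ H := by
  have := Fact.mk c.hp
  -- `R' = x⁻¹ R x` is a Sylow subgroup of `H`, conjugate to `R` in `H`
  have hR' : cj x⁻¹ R ≤ H := by rw [cj_le_iff, inv_inv]; exact hR
  have hRs : IsPGroup p (R.subgroupOf H) := c.Rp.of_equiv (Subgroup.subgroupOfEquivOfLe c.RH).symm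
  have hmax : ∀ Q : Subgroup G, Q ≤ H → IsPGroup p Q → Nat.card Q ≤ Nat.card R := by
    intro Q hQ hQp
    obtain ⟨S, hS⟩ := hRs.exists_le_sylow
    have hSR : (S : Subgroup H).map H.subtype = R := by
      apply c.Rsyl
      · rintro _ ⟨y, _, rfl⟩
        exact y.2
      · exact S.isPGroup'.map _
      · intro r hr
        exact ⟨⟨r, c.RH hr⟩, hS hr, rfl⟩
    have hQ' : IsPGroup p (Q.subgroupOf H) := hQp.of_equiv (Subgroup.subgroupOfEquivOfLe hQ).symm
    obtain ⟨S', hS'⟩ := hQ'.exists_le_sylow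
    have h1 : Nat.card (Q.subgroupOf H) ≤ Nat.card S' := Nat.card_mono (Set.toFinite _) hS'
    have h2 : Nat.card S' = Nat.card S := Nat.card_congr (Sylow.equiv S' S).toEquiv
    have h3 : Nat.card S = Nat.card R := by
      rw [← hSR]
      exact Nat.card_congr ((S : Subgroup H).equivMapOfInjective _ H.subtype_injective).toEquiv
    have h4 : Nat.card (Q.subgroupOf H) = Nat.card Q := Nat.card_congr (Subgroup.subgroupOfEquivOfLe hQ).toEquiv
    omega
  -- `R` and `x⁻¹Rx` conjugate in `H`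
  obtain ⟨k, hk, hkR⟩ : ∃ k ∈ H, cj k R = cj x⁻¹ R := by
    obtain ⟨S, hS⟩ := hRs.exists_le_sylow
    have hSR : (S : Subgroup H).map H.subtype = R := by
      apply c.Rsyl
      · rintro _ ⟨y, _, rfl⟩
        exact y.2
      · exact S.isPGroup'.map _
      · intro r hr
        exact ⟨⟨r, c.RH hr⟩, hS hr, rfl⟩
    have hQ' : IsPGroup p ((cj x⁻¹ R).subgroupOf H) :=
      (c.Rp.map (MulAut.conj x⁻¹).toMonoidHom).of_equiv (Subgroup.subgroupOfEquivOfLe hR').symm
    obtain ⟨S', hS'⟩ := hQ'.exists_le_sylow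
    obtain ⟨k, hk⟩ := MulAction.exists_smul_eq H S S'
    refine ⟨k, k.2, ?_⟩
    have h1 : cj (k : G) R ≤ (S' : Subgroup H).map H.subtype := by
      rintro _ ⟨r, hr, rfl⟩
      rw [← hSR] at hr
      obtain ⟨y, hy, rfl⟩ := hr
      refine ⟨k * y * k⁻¹, ?_, rfl⟩
      show k * y * k⁻¹ ∈ S'
      rw [← hk]
      exact ⟨y, hy, rfl⟩
    have h2 : cj x⁻¹ R ≤ (S' : Subgroup H).map H.subtype := by
      intro r hr
      exact ⟨⟨r, hR' hr⟩, hS' hr, rfl⟩
    have h3 : Nat.card ((S' : Subgroup H).map H.subtype) ≤ Nat.card R := by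
      apply hmax
      · rintro _ ⟨y, _, rfl⟩
        exact y.2
      · exact S'.isPGroup'.map _
    have h4 : cj (k : G) R = (S' : Subgroup H).map H.subtype :=
      Subgroup.eq_of_le_of_card_ge h1 (by rw [card_cj]; exact h3)
    have h5 : cj x⁻¹ R = (S' : Subgroup H).map H.subtype :=
      Subgroup.eq_of_le_of_card_ge h2 (by rw [card_cj]; exact h3)
    rw [h4, h5]
  -- `y = x k` normalises `R` and maps `H` to `H^x`
  have hy : cj (x * k) R = R := by rw [cj_mul, hkR, cj_cj_inv]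
  have hyH : cj (x * k) H = cj x H := by rw [cj_mul, cj_eq_self hk]
  -- the normalisers
  let NH : Subgroup G := H ⊓ Subgroup.normalizer (R : Set G)
  have hmemN : ∀ g : G, g ∈ Subgroup.normalizer (R : Set G) ↔ cj g R = R := by
    intro g
    constructor
    · intro h1
      ext r
      rw [mem_cj]
      have h2 := (Subgroup.mem_normalizer_iff.1 h1) (g⁻¹ * r * g)
      have e : g * (g⁻¹ * r * g) * g⁻¹ = r := by group
      rw [e] at h2
      exact h2
    · intro h1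
      rw [Subgroup.mem_normalizer_iff]
      intro r
      constructor
      · intro hr
        rw [← h1]
        exact conj_mem_cj hr
      · intro hr
        rw [← h1, mem_cj] at hr
        have e : g⁻¹ * (g * r * g⁻¹) * g = r := by group
        rwa [e] at hr
  have hmemN' : ∀ g : G, (∀ r ∈ R, g * r * g⁻¹ ∈ R) → g ∈ Subgroup.normalizer (R : Set G) := by
    intro g hg
    rw [hmemN]
    apply Subgroup.eq_of_le_of_card_ge
    · rintro _ ⟨k, hk, rfl⟩
      exact hg k hk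
    · rw [card_cj]
  have h1 : NH ≤ cj x H ⊓ Subgroup.normalizer (R : Set G) := by
    intro g hg
    refine ⟨?_, hg.2⟩
    have h2 := c.tits (H ⊓ cj x H) ⟨x, hx, rfl⟩ (le_inf c.RH hR) g hg.1 (fun r hr =>
      (Subgroup.mem_normalizer_iff.1 hg.2 r).1 hr)
    exact h2.2
  have h2 : cj (x * k) NH = cj x H ⊓ Subgroup.normalizer (R : Set G) := by
    rw [cj_inf, hyH]
    congr 1
    ext g
    rw [mem_cj, hmemN, hmemN]
    have hy' : cj (x * k)⁻¹ R = R := by
      conv_lhs => rw [← hy]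
      rw [cj_inv_cj]
    constructor
    · intro h3
      have h4 : cj (x * k) (cj ((x * k)⁻¹ * g * (x * k)) R) = cj (x * k) R := by rw [h3]
      rw [← cj_mul] at h4
      have e : x * k * ((x * k)⁻¹ * g * (x * k)) = g * (x * k) := by group
      rw [e, cj_mul, hy] at h4
      exact h4
    · intro h3
      rw [cj_mul, hy, cj_mul, h3, hy']
  have h3 : NH = cj x H ⊓ Subgroup.normalizer (R : Set G) := by
    apply Subgroup.eq_of_le_of_card_ge h1
    rw [← h2, card_cj]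
  have h4 : g ∈ NH := by
    rw [h3]
    exact ⟨hg, hmemN' g hgR⟩
  exact h4.1

/-- **CLAIM C** (helper918): `P` fixes no nonzero vector -/
theorem claimC [Finite G] (v : VecB H P D W p) {w : G} (hw : w ∈ W) (hwD : w ∉ D) : ¬ P ≤ cj w H := by
  intro hPw
  have hwH := v.notMem_H hw hwD
  have h := c.ep
  -- `w` normalises `R` and `P`
  have hfixD : ∀ g ∈ P, w⁻¹ * (g * w * g⁻¹) ∈ D := fun g hg => (v.stab_iff c.PH hw hg).2 (hPw hg)
  have hcjw : ∀ g ∈ P, w⁻¹ * g * w ∈ P ∧ (g ∈ R → w⁻¹ * g * w ∈ R) := by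
    intro g hg
    have e : w⁻¹ * g * w = w⁻¹ * (g * w * g⁻¹) * g := by group
    rw [e]
    have h1 := hfixD g hg
    exact ⟨P.mul_mem (c.RP (c.DR h1)) hg, fun hR => R.mul_mem (c.DR h1) hR⟩
  have hR1 : cj w⁻¹ R = R := by
    apply Subgroup.eq_of_le_of_card_ge
    · intro r hr
      rw [mem_cj, inv_inv] at hr
      have hr' : w * r * w⁻¹ ∈ R := hr
      have := (hcjw _ (c.RP hr')).2 hr'
      have e : w⁻¹ * (w * r * w⁻¹) * w = r := by group
      rwa [e] at this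
    · rw [card_cj]
  have hP1 : cj w⁻¹ P = P := by
    apply Subgroup.eq_of_le_of_card_ge
    · intro r hr
      rw [mem_cj, inv_inv] at hr
      have := (hcjw _ hr).1
      have e : w⁻¹ * (w * r * w⁻¹) * w = r := by group
      rwa [e] at this
    · rw [card_cj]
  have hRw : cj w R = R := by
    conv_lhs => rw [← hR1]
    rw [cj_cj_inv]
  have hPw' : cj w P = P := by
    conv_lhs => rw [← hP1]
    rw [cj_cj_inv]
  -- the points `a = H`, `a' = wH`, `b = yH`, `b' = wyH`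
  obtain ⟨y, hy, hMy⟩ := c.M2
  have hRy : R ≤ cj y H := by
    have := c.RM
    rw [hMy] at this
    exact this.trans inf_le_right
  have hPy : ¬ P ≤ cj y H := fun e => c.PM (by rw [hMy]; exact le_inf c.PH e)
  have hRwy : R ≤ cj (w * y) H := by
    rw [cj_mul, ← hRw]
    exact cj_mono hRy
  have hPwy : ¬ P ≤ cj (w * y) H := by
    intro e
    apply hPy
    rw [cj_mul, ← hPw'] at e
    have := cj_mono (x := w⁻¹) e
    rwa [cj_inv_cj, cj_inv_cj] at this
  have hwyH : w * y ∉ H := by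
    intro e
    apply hPwy
    rw [cj_eq_self e]
    exact c.PH
  -- `G_ab' = M`
  have hM1 : H ⊓ cj (w * y) H = M := by
    apply c.uniq _ ⟨w * y, hwyH, rfl⟩ (le_inf c.RH hRwy)
    intro e
    exact hPwy (e.trans inf_le_right)
  by_cases hb : y⁻¹ * w * y ∈ H
  · -- `b = b'`
    have hwy : w ∈ cj y H := by rw [mem_cj]; exact hb
    apply hwH
    refine c.norm_point hy hRy hwy ?_
    intro r hr
    rw [← hRw]
    exact conj_mem_cj hr
  · -- `b ≠ b'`
    have hE := h.toEPA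
    have := h.faithful
    have hst : ∀ x : G, stabilizer G (x : G ⧸ H) = cj x H := by
      intro x
      have h1 : (x : G ⧸ H) = x • ((1 : G) : G ⧸ H) := by
        rw [MulAction.Quotient.smul_coe, smul_eq_mul, mul_one]
      rw [h1, stab_smul, MulAction.stabilizer_quotient]
    have hst1 : stabilizer G ((1 : G) : G ⧸ H) = H := MulAction.stabilizer_quotient H
    have hne1 : ((y : G) : G ⧸ H) ≠ ((1 : G) : G ⧸ H) := by
      intro e
      apply hy
      have := QuotientGroup.eq.1 e.symm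
      rwa [inv_one, one_mul] at this
    have hnebb : ((y : G) : G ⧸ H) ≠ ((w * y : G) : G ⧸ H) := by
      intro e
      apply hb
      have := QuotientGroup.eq.1 e
      rwa [← mul_assoc] at this
    -- line through `b`, `b'` is the line of `M`
    have hl1 : stabilizer G ((y : G) : G ⧸ H) ⊓ stabilizer G ((w * y : G) : G ⧸ H) = M := by
      have h1 := hE.line_eq hne1 hnebb (by rw [hst1, hst, ← hMy]; rw [hMy]; exact inf_le_right)
        (by rw [hst1, hst, hst, ← hMy, ← hM1]; exact inf_le_right)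
      rw [h1, hst1, hst, hMy]
    -- `a'` is on it
    have hla : M ≤ cj w H := by
      -- `G_{a'b} = G_{a'b'}` by the conjugate of `G_ab'' = M`
      have hwy' : w⁻¹ * y ∉ H := by
        intro e
        apply hPy
        have e1 : cj y H = cj w H := by
          have : y = w * (w⁻¹ * y) := by group
          rw [this, cj_mul, cj_eq_self e]
        rw [e1]
        exact hPw
      have hM2 : H ⊓ cj (w⁻¹ * y) H = M := by
        apply c.uniq _ ⟨w⁻¹ * y, hwy', rfl⟩ (le_inf c.RH _)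
        · intro e
          apply hPy
          have h2 := cj_mono (x := w) (e.trans inf_le_right)
          rw [hPw', ← cj_mul, mul_inv_cancel_left] at h2
          exact h2
        · rw [cj_mul, ← hR1]
          exact cj_mono hRy
      -- `G_{a'b} = w M w⁻¹ = G_{a'b'}`
      have h3 : cj w H ⊓ cj y H = cj w M := by
        rw [← hM2, cj_inf, ← cj_mul w (w⁻¹ * y), mul_inv_cancel_left]
      have h4 : cj w H ⊓ cj (w * y) H = cj w M := by
        rw [hMy, cj_inf, ← cj_mul]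
      -- the line through `b`, `b'` contains `a'`
      have hne2 : ((y : G) : G ⧸ H) ≠ ((w : G) : G ⧸ H) := by
        intro e
        apply hPy
        rw [← hst, e, hst]
        exact hPw
      have h5 := hE.line_eq (a := ((w : G) : G ⧸ H)) hne2 hnebb (by rw [hst, hst]; exact inf_le_right)
        (by rw [hst, hst, hst, h3, ← h4]; exact inf_le_right)
      rw [hl1, hst, hst] at h5
      rw [h5]
      exact inf_le_left
    -- `G_aa' = M`
    have h6 : H ⊓ cj w H = M := by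
      rcases h.two w hwH M (by
        have h7 := hE.line_eq (a := ((1 : G) : G ⧸ H)) (b := (y : G ⧸ H)) (c := ((1 : G) : G ⧸ H))
          (d := ((w : G) : G ⧸ H)) hne1 (by
            intro e
            apply hwH
            have := QuotientGroup.eq.1 e
            rwa [inv_one, one_mul] at this) inf_le_left (by rw [hst1, hst, hst, ← hMy]; exact hla)
        rw [hst1, hst, hst, ← hMy] at h7
        exact h7.le) c.MH with h8 | h8
      · exact h8.symm
      · exfalso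
        exact c.PM (h8 ▸ c.PH)
    exact c.PM (by rw [← h6]; exact le_inf c.PH hPw)

/-- every vector stabiliser is a conjugate of `M` -/
theorem all_borel [Finite G] (v : VecB H P D W p) {w : G} (hw : w ∈ W) (hwD : w ∉ D) :
    ∃ g ∈ P, H ⊓ cj w H = cj g M := by
  obtain ⟨g, hg, hR⟩ := c.par _ (c.two_mem v hw hwD) (c.D_le v hw)
  have h1 : cj g (H ⊓ cj w H) = M := by
    apply c.uniq _ (cj_mem_twoSet (c.two_mem v hw hwD) (c.PH hg)) hR
    intro e
    apply c.claimC v hw hwD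
    have h2 := cj_mono (x := g⁻¹) e
    rw [cj_inv_cj, cj_eq_self (P.inv_mem hg)] at h2
    exact h2.trans inf_le_right
  exact ⟨g⁻¹, P.inv_mem hg, by rw [← h1, cj_inv_cj]⟩

theorem M_ne_bot [Finite G] : M ≠ ⊥ := by
  intro e
  have hR : R = ⊥ := le_bot_iff.1 (e ▸ c.RM)
  apply c.ep.ne
  rw [Subgroup.eq_bot_iff_forall]
  intro g hg
  have h1 := c.tits M c.M2 c.RM g hg (by
    intro r hr
    rw [hR, mem_bot] at hr ⊢
    rw [hr, mul_one, mul_inv_cancel])
  rw [e, mem_bot] at h1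
  exact h1

/-- `N_H(M) = M` -/
theorem mem_M_of_cj [Finite G] {g : G} (hg : g ∈ H) (hgM : cj g M = M) : g ∈ M := by
  obtain ⟨x, hx, e⟩ := c.M2
  have h1 : g ∈ cj x H := by
    refine c.ep.norm hx (X := M) e.le ?_ c.M_ne_bot hg ?_
    · intro m hm k hk
      rw [← e] at hm
      exact M.mul_mem (M.mul_mem hm hk) (M.inv_mem hm)
    · intro k hk
      rw [← hgM]
      exact conj_mem_cj hk
  rw [e]
  exact ⟨hg, h1⟩

theorem cj_M_eq_iff [Finite G] {g k : G} (hg : g ∈ P) (hk : k ∈ P) : cj g M = cj k M ↔ g⁻¹ * k ∈ M := by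
  constructor
  · intro e
    apply c.mem_M_of_cj (H.mul_mem (H.inv_mem (c.PH hg)) (c.PH hk))
    rw [cj_mul, ← e, cj_inv_cj]
  · intro h1
    have : k = g * (g⁻¹ * k) := by group
    rw [this, cj_mul, cj_eq_self h1]

/-- a vector whose stabiliser is `M` -/
theorem exists_vec [Finite G] (v : VecB H P D W p) (hW : W ≠ D) : ∃ w ∈ W, w ∉ D ∧ H ⊓ cj w H = M := by
  obtain ⟨w, hw, hwD⟩ : ∃ w ∈ W, w ∉ D := by
    by_contra hcon
    push Not at hcon
    exact hW (le_antisymm hcon v.DW)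
  obtain ⟨g, hg, e⟩ := c.all_borel v hw hwD
  refine ⟨g⁻¹ * w * g⁻¹⁻¹, v.Wn _ (P.inv_mem hg) w hw, ?_, ?_⟩
  · intro h1
    apply hwD
    have := c.Dn g hg _ h1
    have e2 : g * (g⁻¹ * w * g⁻¹⁻¹) * g⁻¹ = w := by group
    rwa [e2] at this
  · rw [← cj_two (H.inv_mem (c.PH hg)), e, cj_inv_cj]

end PanelB

namespace VecB

variable {H P D W : Subgroup G} {p : ℕ} (v : VecB H P D W p)

include v

/-- the vectors fixed by `g` -/
theorem fix_mul {g : G} {w w' : G} (hw' : w' ∈ W) (h1 : w⁻¹ * (g * w * g⁻¹) ∈ D)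
    (h2 : w'⁻¹ * (g * w' * g⁻¹) ∈ D) : (w * w')⁻¹ * (g * (w * w') * g⁻¹) ∈ D := by
  have h3 := v.WD w'⁻¹ (W.inv_mem hw') _ h1
  have e : (w * w')⁻¹ * (g * (w * w') * g⁻¹) = (w'⁻¹ * (w⁻¹ * (g * w * g⁻¹)) * w'⁻¹⁻¹) * (w'⁻¹ * (g * w' * g⁻¹)) := by
    group
  rw [e]
  exact D.mul_mem h3 h2

theorem fix_inv {g : G} {w : G} (hw : w ∈ W) (h1 : w⁻¹ * (g * w * g⁻¹) ∈ D) :
    w⁻¹⁻¹ * (g * w⁻¹ * g⁻¹) ∈ D := by
  have h3 := v.WD w hw _ (D.inv_mem h1)
  have e : w⁻¹⁻¹ * (g * w⁻¹ * g⁻¹) = w * (w⁻¹ * (g * w * g⁻¹))⁻¹ * w⁻¹ := by group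
  rw [e]
  exact h3

/-- the vectors fixed by all elements of `R` -/
def fixR (v : VecB H P D W p) (R : Subgroup G) (hRP : R ≤ P) (hPH : P ≤ H) : Subgroup G where
  carrier := {w | w ∈ W ∧ R ≤ cj w H}
  one_mem' := ⟨one_mem _, by rw [cj_one]; exact hRP.trans hPH⟩
  mul_mem' := by
    rintro w w' ⟨h1, h2⟩ ⟨h3, h4⟩
    refine ⟨W.mul_mem h1 h3, fun r hr => ?_⟩
    rw [← v.stab_iff hPH (W.mul_mem h1 h3) (hRP hr)]
    exact v.fix_mul h3 ((v.stab_iff hPH h1 (hRP hr)).2 (h2 hr)) ((v.stab_iff hPH h3 (hRP hr)).2 (h4 hr))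
  inv_mem' := by
    rintro w ⟨h1, h2⟩
    refine ⟨W.inv_mem h1, fun r hr => ?_⟩
    rw [← v.stab_iff hPH (W.inv_mem h1) (hRP hr)]
    exact v.fix_inv h1 ((v.stab_iff hPH h1 (hRP hr)).2 (h2 hr))

end VecB

namespace PanelB

variable {H R P D M W : Subgroup G} {p : ℕ} (c : PanelB H R P D M p)

include c

/-- the action on vectors: `M_(g w g⁻¹) = g M_w g⁻¹` -/
theorem stab_conj {g w : G} (hg : g ∈ P) : H ⊓ cj (g * w * g⁻¹) H = cj g (H ⊓ cj w H) :=
  (cj_two (c.PH hg)).symm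

theorem conj_notMem {g w : G} (hg : g ∈ P) (hwD : w ∉ D) : g * w * g⁻¹ ∉ D := by
  intro h1
  apply hwD
  have := c.Dn g⁻¹ (P.inv_mem hg) _ h1
  have e2 : g⁻¹ * (g * w * g⁻¹) * g⁻¹⁻¹ = w := by group
  rwa [e2] at this

/-- an element fixing no chamber fixes no vector -/
theorem free [Finite G] (v : VecB H P D W p) {k : G} (hk : k ∈ P) (hkM : ∀ g ∈ P, k ∉ cj g M) {w : G}
    (hw : w ∈ W) (h1 : w⁻¹ * (k * w * k⁻¹) ∈ D) : w ∈ D := by
  by_contra hwD
  rw [v.stab_iff c.PH hw hk] at h1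
  obtain ⟨g, hg, e⟩ := c.all_borel v hw hwD
  exact hkM g hg (by rw [← e]; exact ⟨c.PH hk, h1⟩)

/-- **COUNT**: `|W| - |D| = |P : P ∩ M| (|W_R| - |D|)`, `W_R/D = C_(W/D)(R)` -/
theorem count [Finite G] (v : VecB H P D W p) :
    Nat.card W - Nat.card D = M.relIndex P * (Nat.card (v.fixR R c.RP c.PH) - Nat.card D) := by
  classical
  set WR := v.fixR R c.RP c.PH with hWR
  have hDWR : D ≤ WR := by
    intro d hd
    refine ⟨v.DW hd, fun r hr => ?_⟩
    rw [← v.stab_iff c.PH (v.DW hd) (c.RP hr)]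
    exact D.mul_mem (D.inv_mem hd) (c.Dn r (c.RP hr) d hd)
  have hmemR : ∀ w : G, w ∉ D → (w ∈ WR ↔ w ∈ W ∧ H ⊓ cj w H = M) := by
    intro w hwD
    constructor
    · rintro ⟨h1, h2⟩
      refine ⟨h1, c.uniq _ (c.two_mem v h1 hwD) (le_inf c.RH h2) fun e => c.claimC v h1 hwD (e.trans inf_le_right)⟩
    · rintro ⟨h1, h2⟩
      refine ⟨h1, ?_⟩
      have := c.RM
      rw [← h2] at this
      exact this.trans inf_le_right
  have hcd : ∀ X : Subgroup G, D ≤ X → Nat.card X - Nat.card D = Nat.card {w : G // w ∈ X ∧ w ∉ D} := by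
    intro X hDX
    have e1 : Nat.card X = Set.ncard (X : Set G) := rfl
    have e2 : Nat.card D = Set.ncard (D : Set G) := rfl
    have e3 : Nat.card {w : G // w ∈ X ∧ w ∉ D} = Set.ncard ((X : Set G) \ (D : Set G)) := rfl
    rw [e1, e2, e3, Set.ncard_sdiff hDX (Set.toFinite _)]
  rw [hcd W v.DW, hcd WR hDWR, Subgroup.relIndex, Subgroup.index, ← Nat.card_prod]
  symm
  have hout : ∀ q : P ⧸ M.subgroupOf P, ∀ w : {w : G // w ∈ WR ∧ w ∉ D},
      (q.out : G) * w.1 * (q.out : G)⁻¹ ∈ W ∧ (q.out : G) * w.1 * (q.out : G)⁻¹ ∉ D := by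
    intro q w
    exact ⟨v.Wn _ q.out.2 _ ((hmemR w.1 w.2.2).1 w.2.1).1, c.conj_notMem q.out.2 w.2.2⟩
  apply Nat.card_congr
  refine Equiv.ofBijective (fun x => ⟨(x.1.out : G) * x.2.1 * (x.1.out : G)⁻¹, hout x.1 x.2⟩) ⟨?_, ?_⟩
  · rintro ⟨q, w⟩ ⟨q', w'⟩ he
    have e1 : (q.out : G) * w.1 * (q.out : G)⁻¹ = (q'.out : G) * w'.1 * (q'.out : G)⁻¹ := Subtype.ext_iff.1 he
    have ha := ((hmemR w.1 w.2.2).1 w.2.1).2
    have hb := ((hmemR w'.1 w'.2.2).1 w'.2.1).2
    have h1 : cj (q.out : G) M = cj (q'.out : G) M := by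
      have h5 : cj (q.out : G) (H ⊓ cj w.1 H) = cj (q'.out : G) (H ⊓ cj w'.1 H) := by
        rw [← c.stab_conj q.out.2, ← c.stab_conj q'.out.2, e1]
      rwa [ha, hb] at h5
    have h2 := (c.cj_M_eq_iff q.out.2 q'.out.2).1 h1
    have h3 : q = q' := by
      rw [← q.out_eq', ← q'.out_eq']
      exact QuotientGroup.eq.2 h2
    subst h3
    congr 1
    apply Subtype.ext
    have h4 := mul_left_cancel (mul_right_cancel e1)
    exact h4
  · rintro ⟨w, hw, hwD⟩
    obtain ⟨g, hg, e⟩ := c.all_borel v hw hwD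
    let q : P ⧸ M.subgroupOf P := ((⟨g, hg⟩ : P) : P ⧸ M.subgroupOf P)
    have h1 : (q.out : G)⁻¹ * g ∈ M := by
      have h2 : (QuotientGroup.mk q.out : P ⧸ M.subgroupOf P) = QuotientGroup.mk (⟨g, hg⟩ : P) :=
        QuotientGroup.out_eq' _
      have h3 := QuotientGroup.eq.1 h2
      exact h3
    have h2 : cj (q.out : G) M = cj g M := (c.cj_M_eq_iff q.out.2 hg).2 h1
    have hw' : (q.out : G)⁻¹ * w * (q.out : G)⁻¹⁻¹ ∉ D := c.conj_notMem (P.inv_mem q.out.2) hwD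
    refine ⟨⟨q, ⟨(q.out : G)⁻¹ * w * (q.out : G)⁻¹⁻¹, ?_, hw'⟩⟩, ?_⟩
    · rw [hmemR _ hw']
      refine ⟨v.Wn _ (P.inv_mem q.out.2) w hw, ?_⟩
      rw [c.stab_conj (P.inv_mem q.out.2), e, ← h2, cj_inv_cj]
    · apply Subtype.ext
      show (q.out : G) * ((q.out : G)⁻¹ * w * (q.out : G)⁻¹⁻¹) * (q.out : G)⁻¹ = w
      group

end PanelB

end Cfsg.Agent.H284
end

-- part: H284/EPO/Chambers
section
/-!
# The vector space `V = W/D` of `VecB` and its chambers (helper284)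

`v.Vec` is `W ⧸ D`, a commutative group of exponent `p`, `v.act : P →* MulAut v.Vec`,
`v.fix S = C_V(S ∩ P)`; the chamber `g (P ∩ M)` of `P` has the subgroup `V_c = v.fix (cj g R) = v.fix (cj g M)`.
-/

set_option autoImplicit false
set_option linter.unusedSectionVars false

namespace Cfsg.Agent.H284

open MulAction Subgroup

variable {G : Type*} [Group G]

namespace VecB

variable {H P D W : Subgroup G} {p : ℕ}

theorem normal (v : VecB H P D W p) : (D.subgroupOf W).Normal := by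
  constructor
  intro d hd g
  exact v.WD g g.2 _ hd

/-- the quotient `W ⧸ D` -/
def Vec (_ : VecB H P D W p) : Type _ := W ⧸ D.subgroupOf W

variable (v : VecB H P D W p)

instance : CommGroup v.Vec :=
  let i : Group (W ⧸ D.subgroupOf W) := @QuotientGroup.Quotient.group _ _ (D.subgroupOf W) v.normal
  { i with
    mul_comm := by
      intro a b
      have := v.normal
      induction a using QuotientGroup.induction_on with
      | H a =>
        induction b using QuotientGroup.induction_on with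
        | H b =>
          refine QuotientGroup.eq.2 ?_
          have h1 := v.comm (b : G)⁻¹ (W.inv_mem b.2) (a : G)⁻¹ (W.inv_mem a.2)
          show ((a * b : W) : G)⁻¹ * ((b * a : W) : G) ∈ D
          have e : ((a * b : W) : G)⁻¹ * ((b * a : W) : G) = (b : G)⁻¹ * (a : G)⁻¹ * (b : G)⁻¹⁻¹ * (a : G)⁻¹⁻¹ := by
            simp only [Subgroup.coe_mul]
            group
          rw [e]
          exact h1 }

/-- the projection -/
def vec : W →* v.Vec :=
  have := v.normal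
  QuotientGroup.mk' (D.subgroupOf W)

theorem vec_surjective : Function.Surjective v.vec := by
  have := v.normal
  exact QuotientGroup.mk'_surjective _

theorem vec_eq_iff {w w' : W} : v.vec w = v.vec w' ↔ (w : G)⁻¹ * w' ∈ D := by
  have := v.normal
  exact QuotientGroup.eq

theorem vec_eq_one {w : W} : v.vec w = 1 ↔ (w : G) ∈ D := by
  have := v.normal
  exact QuotientGroup.eq_one_iff w

theorem vec_coe_ne_one {w : W} : v.vec w ≠ 1 ↔ (w : G) ∉ D := not_congr v.vec_eq_one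

instance [Finite G] : Finite v.Vec := inferInstanceAs (Finite (W ⧸ D.subgroupOf W))

theorem card_vec : Nat.card v.Vec = D.relIndex W := rfl

theorem pow_eq_one (x : v.Vec) : x ^ p = 1 := by
  obtain ⟨w, rfl⟩ := v.vec_surjective x
  rw [← map_pow, vec_eq_one]
  exact v.pow w w.2

theorem isPGroup : IsPGroup p v.Vec := fun x => ⟨1, by rw [pow_one]; exact v.pow_eq_one x⟩

theorem nontrivial (hW : W ≠ D) : Nontrivial v.Vec := by
  obtain ⟨w, hw, hwD⟩ : ∃ w ∈ W, w ∉ D := by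
    by_contra hcon
    push Not at hcon
    exact hW (le_antisymm hcon v.DW)
  exact ⟨⟨v.vec ⟨w, hw⟩, 1, v.vec_coe_ne_one.2 hwD⟩⟩

/-- conjugation by `g ∈ P` on `W` -/
def conjW (g : P) : MulAut W where
  toFun w := ⟨(g : G) * w * (g : G)⁻¹, v.Wn g g.2 w w.2⟩
  invFun w := ⟨(g : G)⁻¹ * w * (g : G), by
    have := v.Wn (g : G)⁻¹ (P.inv_mem g.2) w w.2
    rwa [inv_inv] at this⟩
  left_inv w := Subtype.ext (by group)
  right_inv w := Subtype.ext (by group)
  map_mul' w w' := Subtype.ext (by simp only [Subgroup.coe_mul]; group)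

end VecB

section Act

variable {H P D W : Subgroup G} {p : ℕ} (v : VecB H P D W p) (hD : ∀ g ∈ P, ∀ d ∈ D, g * d * g⁻¹ ∈ D)

namespace VecB

/-- one element of `P` acting on `V` -/
def act₀ (g : P) : v.Vec →* v.Vec :=
  have := v.normal
  QuotientGroup.map (D.subgroupOf W) (D.subgroupOf W) (v.conjW g).toMonoidHom (fun _ hw => hD g g.2 _ hw)

theorem act₀_vec (g : P) (w : W) : v.act₀ hD g (v.vec w) = v.vec (v.conjW g w) := rfl

/-- the action of `P` on `V` -/
def act : P →* MulAut v.Vec where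
  toFun g :=
    { v.act₀ hD g with
      invFun := v.act₀ hD g⁻¹
      left_inv := by
        intro x
        obtain ⟨w, rfl⟩ := v.vec_surjective x
        show v.act₀ hD g⁻¹ (v.act₀ hD g (v.vec w)) = v.vec w
        rw [act₀_vec, act₀_vec]
        congr 1
        apply Subtype.ext
        show ((g⁻¹ : P) : G) * ((g : G) * w * (g : G)⁻¹) * ((g⁻¹ : P) : G)⁻¹ = w
        rw [Subgroup.coe_inv]
        group
      right_inv := by
        intro x
        obtain ⟨w, rfl⟩ := v.vec_surjective x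
        show v.act₀ hD g (v.act₀ hD g⁻¹ (v.vec w)) = v.vec w
        rw [act₀_vec, act₀_vec]
        congr 1
        apply Subtype.ext
        show (g : G) * (((g⁻¹ : P) : G) * w * ((g⁻¹ : P) : G)⁻¹) * (g : G)⁻¹ = w
        rw [Subgroup.coe_inv]
        group }
  map_one' := by
    ext x
    obtain ⟨w, rfl⟩ := v.vec_surjective x
    show v.act₀ hD 1 (v.vec w) = v.vec w
    rw [act₀_vec]
    congr 1
    apply Subtype.ext
    show ((1 : P) : G) * w * ((1 : P) : G)⁻¹ = w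
    rw [Subgroup.coe_one]
    group
  map_mul' g k := by
    ext x
    obtain ⟨w, rfl⟩ := v.vec_surjective x
    show v.act₀ hD (g * k) (v.vec w) = v.act₀ hD g (v.act₀ hD k (v.vec w))
    rw [act₀_vec, act₀_vec, act₀_vec]
    congr 1
    apply Subtype.ext
    show ((g * k : P) : G) * w * ((g * k : P) : G)⁻¹ = (g : G) * ((k : G) * w * (k : G)⁻¹) * (g : G)⁻¹
    rw [Subgroup.coe_mul]
    group

theorem act_vec (g : P) (w : W) : v.act hD g (v.vec w) = v.vec (v.conjW g w) := rfl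

theorem act_fix_iff (hPH : P ≤ H) (g : P) (w : W) : v.act hD g (v.vec w) = v.vec w ↔ (g : G) ∈ cj (w : G) H := by
  rw [act_vec, eq_comm, vec_eq_iff, ← v.stab_iff hPH w.2 g.2]
  rfl

/-- the fixed vectors of `S ∩ P` -/
def fix (S : Subgroup G) : Subgroup v.Vec where
  carrier := {x | ∀ g : P, (g : G) ∈ S → v.act hD g x = x}
  one_mem' := fun _ _ => map_one _
  mul_mem' := fun h1 h2 g hg => by rw [map_mul, h1 g hg, h2 g hg]
  inv_mem' := fun h1 g hg => by rw [map_inv, h1 g hg]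

theorem mem_fix {S : Subgroup G} {x : v.Vec} : x ∈ v.fix hD S ↔ ∀ g : P, (g : G) ∈ S → v.act hD g x = x := Iff.rfl

theorem fix_anti {S S' : Subgroup G} (h : S ≤ S') : v.fix hD S' ≤ v.fix hD S := fun _ hx g hg => hx g (h hg)

theorem vec_mem_fix (hPH : P ≤ H) {S : Subgroup G} {w : W} : v.vec w ∈ v.fix hD S ↔ S ⊓ P ≤ cj (w : G) H := by
  constructor
  · rintro h1 g ⟨h2, h3⟩
    exact (v.act_fix_iff hD hPH ⟨g, h3⟩ w).1 (h1 ⟨g, h3⟩ h2)
  · intro h1 g hg
    exact (v.act_fix_iff hD hPH g w).2 (h1 ⟨hg, g.2⟩)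

theorem act_mem_fix {S : Subgroup G} {x : v.Vec} (g : P) :
    v.act hD g x ∈ v.fix hD (cj (g : G) S) ↔ x ∈ v.fix hD S := by
  constructor
  · intro h1 k hk
    have h2 := h1 (g * k * g⁻¹) (by
      show (g : G) * k * (g : G)⁻¹ ∈ cj (g : G) S
      exact conj_mem_cj hk)
    rw [← MulAut.mul_apply, ← map_mul, inv_mul_cancel_right, map_mul, MulAut.mul_apply] at h2
    exact (v.act hD g).injective h2
  · intro h1 k hk
    have h2 := h1 (g⁻¹ * k * g) (by
      show (g : G)⁻¹ * k * (g : G) ∈ S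
      exact mem_cj.1 hk)
    have h3 : v.act hD g (v.act hD (g⁻¹ * k * g) x) = v.act hD g x := by rw [h2]
    rw [← MulAut.mul_apply, ← map_mul] at h3
    have e : g * (g⁻¹ * k * g) = k * g := by group
    rw [e, map_mul, MulAut.mul_apply] at h3
    exact h3

end VecB

end Act

namespace PanelB

variable {H R P D M W : Subgroup G} {p : ℕ} (c : PanelB H R P D M p) (v : VecB H P D W p)

include c

/-- the stabiliser of a nonzero vector in the subgroup `V_c`, `c = g (P ∩ M)` -/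
theorem vec_mem_chamber [Finite G] {g : G} (hg : g ∈ P) {w : W} (hwD : (w : G) ∉ D) :
    v.vec w ∈ v.fix c.Dn (cj g R) ↔ H ⊓ cj (w : G) H = cj g M := by
  have hRP : cj g R ⊓ P = cj g R := by
    apply inf_eq_left.2
    have h1 := cj_mono (x := g) c.RP
    rwa [cj_eq_self hg] at h1
  rw [v.vec_mem_fix c.Dn c.PH, hRP]
  constructor
  · intro h1
    have h2 : cj g⁻¹ (H ⊓ cj (w : G) H) = M := by
      apply c.uniq _ (cj_mem_twoSet (c.two_mem v w.2 hwD) (H.inv_mem (c.PH hg)))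
      · rw [← cj_inv_cj g R]
        apply cj_mono
        refine le_inf ?_ h1
        have h3 := cj_mono (x := g) c.RH
        rwa [cj_eq_self (c.PH hg)] at h3
      · intro e
        apply c.claimC v w.2 hwD
        have h3 := cj_mono (x := g) e
        rw [cj_cj_inv, cj_eq_self hg] at h3
        exact h3.trans inf_le_right
    rw [← h2, cj_cj_inv]
  · intro h1
    have h2 := cj_mono (x := g) c.RM
    rw [← h1] at h2
    exact h2.trans inf_le_right

/-- the chamber group fixes `V_c` -/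
theorem fix_M [Finite G] {g : G} (hg : g ∈ P) : v.fix c.Dn (cj g M) = v.fix c.Dn (cj g R) := by
  apply le_antisymm (v.fix_anti c.Dn (cj_mono c.RM))
  intro x hx
  obtain ⟨w, rfl⟩ := v.vec_surjective x
  by_cases hwD : (w : G) ∈ D
  · rw [v.vec_eq_one.2 hwD]
    exact one_mem _
  · rw [c.vec_mem_chamber v hg hwD] at hx
    rw [v.vec_mem_fix c.Dn c.PH, ← hx]
    exact inf_le_left.trans inf_le_right

/-- distinct chambers have disjoint vectors -/
theorem chamber_inf [Finite G] {g k : G} (hg : g ∈ P) (hk : k ∈ P) (hgk : g⁻¹ * k ∉ M) :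
    v.fix c.Dn (cj g R) ⊓ v.fix c.Dn (cj k R) = ⊥ := by
  rw [Subgroup.eq_bot_iff_forall]
  rintro x ⟨h1, h2⟩
  obtain ⟨w, rfl⟩ := v.vec_surjective x
  rw [v.vec_eq_one]
  by_contra hwD
  have h3 := (c.vec_mem_chamber v hg hwD).1 h1
  have h4 := (c.vec_mem_chamber v hk hwD).1 h2
  exact hgk ((c.cj_M_eq_iff hg hk).1 (h3.symm.trans h4))

/-- every vector lies in some `V_c` -/
theorem exists_chamber [Finite G] (x : v.Vec) : ∃ g ∈ P, x ∈ v.fix c.Dn (cj g R) := by
  obtain ⟨w, rfl⟩ := v.vec_surjective x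
  by_cases hwD : (w : G) ∈ D
  · rw [v.vec_eq_one.2 hwD]
    exact ⟨1, one_mem _, one_mem _⟩
  · obtain ⟨g, hg, e⟩ := c.all_borel v w.2 hwD
    exact ⟨g, hg, (c.vec_mem_chamber v hg hwD).2 e⟩

/-- `V_c ≠ 1` -/
theorem chamber_ne_bot [Finite G] (hW : W ≠ D) {g : G} (hg : g ∈ P) : v.fix c.Dn (cj g R) ≠ ⊥ := by
  obtain ⟨w, hw, hwD, e⟩ := c.exists_vec v hW
  intro hb
  have h1 : v.vec ⟨w, hw⟩ ∈ v.fix c.Dn (cj (1 : G) R) :=
    (c.vec_mem_chamber v (one_mem _) (w := ⟨w, hw⟩) hwD).2 (by rw [cj_one]; exact e)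
  rw [cj_one] at h1
  have h2 := (v.act_mem_fix c.Dn (⟨g, hg⟩ : P)).2 h1
  have h3 : v.act c.Dn ⟨g, hg⟩ (v.vec ⟨w, hw⟩) ∈ v.fix c.Dn (cj g R) := h2
  rw [hb, mem_bot] at h3
  have h4 : v.vec ⟨w, hw⟩ = 1 := (v.act c.Dn ⟨g, hg⟩).injective (by rw [h3, map_one])
  exact hwD (v.vec_eq_one.1 h4)

/-- a nonzero vector of `V_c` fixed by `k ∈ P` forces `k` to fix the chamber `c` -/
theorem mem_of_act_eq [Finite G] {g k : G} (hg : g ∈ P) (hk : k ∈ P) {x : v.Vec} (hx1 : x ≠ 1)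
    (hx : x ∈ v.fix c.Dn (cj g R)) (hkx : v.act c.Dn ⟨k, hk⟩ x = x) : k ∈ cj g M := by
  obtain ⟨w, rfl⟩ := v.vec_surjective x
  have hwD : (w : G) ∉ D := v.vec_coe_ne_one.1 hx1
  have h1 := (c.vec_mem_chamber v hg hwD).1 hx
  have h2 := (v.act_fix_iff c.Dn c.PH ⟨k, hk⟩ w).1 hkx
  rw [← h1]
  exact ⟨c.PH hk, h2⟩

/-- **the fixed vectors of `S ≤ P`** are the union of the `V_c`, `c` a chamber fixed by `S` -/
theorem mem_fix_iff_chamber [Finite G] {S : Subgroup G} (hS : S ≤ P) {g : G} (hg : g ∈ P) {x : v.Vec} (hx1 : x ≠ 1)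
    (hx : x ∈ v.fix c.Dn (cj g R)) : x ∈ v.fix c.Dn S ↔ S ≤ cj g M := by
  obtain ⟨w, rfl⟩ := v.vec_surjective x
  have hwD : (w : G) ∉ D := v.vec_coe_ne_one.1 hx1
  have h1 := (c.vec_mem_chamber v hg hwD).1 hx
  rw [v.vec_mem_fix c.Dn c.PH, inf_eq_left.2 hS, ← h1]
  exact ⟨fun h2 => le_inf (hS.trans c.PH) h2, fun h2 => h2.trans inf_le_right⟩

end PanelB

end Cfsg.Agent.H284
end

-- part: H737/EPO/HSideB
section
/-!
# S5745 / S3499, OWN characteristic: from the `H`-side to helper284's `PanelB` (helper737)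
-/

set_option autoImplicit false
set_option linter.unusedSectionVars false

namespace Cfsg.Agent.H737.EPO

open Cfsg.Agent.H284 Cfsg.Agent.H209.EPX
open scoped Pointwise

section

variable {G Y : Type*} [Group G] [Finite G] [Group Y] [Finite Y] {H N M M' R D : Subgroup G} {k : ℕ}
  (e : N ≃* (Fin k → Y)) {p : ℕ} {I : Type*} (S : PSys Y p I)

/-- two point stabilisers are core free maximal subgroups -/
theorem mx_of_two (h : EP H) (hN : MinN N H) (hM : M ∈ EP.twoSet H) : MX H N M := by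
  obtain ⟨x, hx, rfl⟩ := hM
  refine ⟨inf_le_left, fun L h1 h2 => h.two x hx L h1 h2, fun h1 => hN.ne (h.F1 hN.le hN.nrm hx (h1.trans inf_le_right))⟩

/-- changing the coordinates by an inner automorphism of `N` -/
def chg {N : Subgroup G} (e : N ≃* (Fin k → Y)) (n : N) : N ≃* (Fin k → Y) := (MulAut.conj n⁻¹).trans e

theorem pk_chg (n : N) (F : Fin k → Subgroup Y) : pk (chg e n) F = cj (n : G) (pk e F) := by
  rw [cj_pk e n.2]
  ext x
  rw [mem_pk, mem_pk]
  refine and_congr_right fun hx => forall_congr' fun i => ?_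
  rw [mem_cj]
  have h1 : cp (chg e n) x i = (cp e (n : G) i)⁻¹ * cp e x i * cp e (n : G) i := by
    rw [cp_eq (chg e n) hx]
    show e (n⁻¹ * ⟨x, hx⟩ * n⁻¹⁻¹) i = _
    rw [inv_inv, map_mul, map_mul, map_inv, Pi.mul_apply, Pi.mul_apply, Pi.inv_apply, cp_eq e n.2, cp_eq e hx]
  rw [h1]

/-- `R` is a Sylow `p`-subgroup of `H` -/
structure SylIn (H R : Subgroup G) (p : ℕ) : Prop where
  le : R ≤ H
  pg : IsPGroup p R
  mx : ∀ Q : Subgroup G, Q ≤ H → IsPGroup p Q → R ≤ Q → Q = R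

theorem SylIn.conj [Fact p.Prime] (hR : SylIn H R p) {K : Subgroup G} (hK : K ≤ H) (hKp : IsPGroup p K) :
    ∃ n ∈ H, K ≤ cj n R := by
  let Us : Sylow p H :=
    { R.subgroupOf H with
      isPGroup' := hR.pg.comap_subtype
      is_maximal' := by
        intro Q hQ hle
        have h1 : Q.map H.subtype = R := by
          apply hR.mx
          · rintro _ ⟨y, _, rfl⟩; exact y.2
          · exact hQ.map _
          · intro x hx
            exact ⟨⟨x, hR.le hx⟩, hle hx, rfl⟩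
        ext y
        constructor
        · intro hy
          have h2 : (y : G) ∈ Q.map H.subtype := ⟨y, hy, rfl⟩
          rw [h1] at h2
          exact h2
        · intro hy
          exact hle hy }
  obtain ⟨Q, hQ⟩ := (hKp.comap_subtype (K := H)).exists_le_sylow
  obtain ⟨g, hg⟩ := MulAction.exists_smul_eq H Us Q
  refine ⟨g, g.2, fun x hx => ?_⟩
  have h1 : (⟨x, hK hx⟩ : H) ∈ (Q : Subgroup H) := hQ hx
  rw [← hg] at h1
  rw [mem_cj]
  have h2 : (⟨x, hK hx⟩ : H) ∈ MulAut.conj g • (Us : Subgroup H) := h1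
  rw [Subgroup.mem_pointwise_smul_iff_inv_smul_mem] at h2
  have h3 : (g⁻¹ * ⟨x, hK hx⟩ * g : H) ∈ (Us : Subgroup H) := by
    have : (MulAut.conj g)⁻¹ • (⟨x, hK hx⟩ : H) = g⁻¹ * ⟨x, hK hx⟩ * g := by
      rw [← map_inv, MulAut.smul_def, MulAut.conj_apply, inv_inv]
    rwa [this] at h2
  exact h3

theorem exists_sylIn [Fact p.Prime] {K : Subgroup G} (hK : K ≤ H) (hKp : IsPGroup p K) : ∃ R, K ≤ R ∧ SylIn H R p := by
  obtain ⟨Q, hQ⟩ := (hKp.comap_subtype (K := H)).exists_le_sylow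
  refine ⟨(Q : Subgroup H).map H.subtype, ?_, ?_, Q.isPGroup'.map _, ?_⟩
  · intro x hx
    exact ⟨⟨x, hK hx⟩, hQ hx, rfl⟩
  · rintro _ ⟨y, _, rfl⟩
    exact y.2
  · intro P hPH hP hle
    have h1 : P.subgroupOf H = Q := Q.is_maximal' hP.comap_subtype (fun y hy => hle ⟨y, hy, rfl⟩)
    rw [← h1, Subgroup.subgroupOf_map_subtype, inf_eq_left.2 hPH]

/-- **standardisation**: after a change of coordinates `R ∩ N = U` -/
theorem exists_std [Fact p.Prime] (e : N ≃* (Fin k → Y)) (hN : ∀ g ∈ H, ∀ n ∈ N, g * n * g⁻¹ ∈ N) (hNH : N ≤ H) (hR : SylIn H R p) :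
    ∃ e' : N ≃* (Fin k → Y), R ⊓ N = VV e' S fun _ => ∅ := by
  have hUN := VV_le e S (fun _ => ∅)
  obtain ⟨n, hn, h1⟩ := syl e S (K := R ⊓ N) inf_le_right (hR.pg.to_le inf_le_left)
  refine ⟨chg e ⟨n, hn⟩, ?_⟩
  have e1 : VV (chg e ⟨n, hn⟩) S (fun _ => ∅) = cj n (VV e S fun _ => ∅) := pk_chg e ⟨n, hn⟩ _
  rw [e1]
  apply Subgroup.eq_of_le_of_card_ge h1
  obtain ⟨x, hx, h2⟩ := hR.conj (hUN.trans hNH) (VV_isPGroup e S _)
  have h3 : cj x⁻¹ (VV e S fun _ => ∅) ≤ R ⊓ N := by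
    apply le_inf
    · rw [cj_le_iff, inv_inv]
      exact h2
    · rintro _ ⟨y, hy, rfl⟩
      exact hN x⁻¹ (inv_mem hx) y (hUN hy)
  have h4 := Subgroup.card_le_of_le h3
  rwa [card_cj] at h4 ⊢

theorem R_le_BH (hN : ∀ g ∈ H, ∀ n ∈ N, g * n * g⁻¹ ∈ N) (hRN : R ⊓ N = VV e S fun _ => ∅) {g : G}
    (hg : g ∈ H) (hgR : ∀ r ∈ R, g * r * g⁻¹ ∈ R) : g ∈ BH H e S := by
  rw [mem_BH]
  refine ⟨hg, cj_eq_of_nm fun a ha => ?_⟩
  rw [← hRN] at ha ⊢
  exact ⟨hgR a ha.1, hN g hg a ha.2⟩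

variable [Fact p.Prime] [IsSimpleGroup Y] (hY : ∃ a b : Y, a * b ≠ b * a)

include hY

/-- **`PanelB` from the `H`-side**, `P = P_K(H)`, `K` invariant, `uniq` as hypothesis -/
theorem panelB_of [Nonempty I] (h : EP H) (hN : MinN N H) (hR : SylIn H R p)
    (hRN : R ⊓ N = VV e S fun _ => ∅) (hM : M ∈ EP.twoSet H) (hRM : R ≤ M)
    {K : Fin k → Set I} (hK : Inv H e S K) (hK1 : ∀ i, K i ≠ Set.univ)
    (hDR : D ≤ R) (hVD : VV e S K ≤ D) (hDn : ∀ g ∈ PH H e S K, ∀ d ∈ D, g * d * g⁻¹ ∈ D)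
    (hPM : ¬ PH H e S K ≤ M)
    (hun : ∀ M' ∈ EP.twoSet H, R ≤ M' → ¬ PH H e S K ≤ M' → M' = M) : PanelB H R (PH H e S K) D M p where
  ep := h
  hp := Fact.out
  RH := hR.le
  Rp := hR.pg
  Rsyl := hR.mx
  tits M' hM' hRM' g hg hgR := by
    obtain ⟨L, -, -, -, -, h1⟩ := std e S hY hN (mx_of_two h hN hM') (by rw [← hRN]; exact inf_le_left.trans hRM')
    exact h1 (R_le_BH e S hN.nrm hRN hg hgR)
  PH := inf_le_left
  NR g hg hgR := BH_le_PH e S hK (R_le_BH e S hN.nrm hRN hg hgR)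
  M2 := hM
  RM := hRM
  PM := hPM
  uniq := hun
  DR := hDR
  Dn := hDn
  par M' hM' hDM' := by
    obtain ⟨a, ha, h1, -⟩ := par e S hY hN hK1 (mx_of_two h hN hM') (hVD.trans hDM')
    refine ⟨a, PP_le_PH e S hN.le K ha, le_trans ?_ h1⟩
    intro r hr
    exact R_le_BH e S hN.nrm hRN (hR.le hr) fun s hs => mul_mem (mul_mem hr hs) (inv_mem hr)

/-- **`PanelB` from the `H`-side**, `P = P_{Lᶜ}(H)`, `L` the type of `M` -/
theorem panelB [Nonempty I] (h : EP H) (hN : MinN N H) (hR : SylIn H R p)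
    (hRN : R ⊓ N = VV e S fun _ => ∅) (hM : M ∈ EP.twoSet H) (hRM : R ≤ M)
    {L : Fin k → Set I} (hL : Inv H e S L) (hL1 : ∀ i, L i ≠ Set.univ) (hML : M = PH H e S L)
    {i₀ : Fin k} (hi₀ : L i₀ ≠ ∅)
    (hDR : D ≤ R) (hVD : VV e S (fun i => (L i)ᶜ) ≤ D)
    (hDn : ∀ g ∈ PH H e S (fun i => (L i)ᶜ), ∀ d ∈ D, g * d * g⁻¹ ∈ D) :
    PanelB H R (PH H e S fun i => (L i)ᶜ) D M p := by
  have hLc := Inv.compl e S hN.nrm hL
  have hK1 : ∀ i, (L i)ᶜ ≠ Set.univ := inv_ne_univ e S hY hN hLc (i := i₀) (by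
    rw [Ne, Set.compl_univ_iff]
    exact hi₀)
  refine panelB_of e S hY h hN hR hRN hM hRM hLc hK1 hDR hVD hDn ?_ fun M' hM' hRM' hP =>
    uniq e S hY hN (mx_of_two h hN hM) hL hML (mx_of_two h hN hM') (by rw [← hRN]; exact inf_le_left.trans hRM') hP
  rw [hML, PH_le_iff e S hN.nrm hN.le hL]
  intro h1
  apply hL1 i₀
  rw [Set.eq_univ_iff_forall]
  intro a
  by_contra ha
  exact ha (h1 i₀ ha)

end

end Cfsg.Agent.H737.EPO
end

-- part: H737/EPO/Res
section
/-!
# S5745 / S3499, OWN characteristic: residues (helper737)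

* `Rk S` : the rank one facts of a parabolic system; `rk_ofRGD`;
* `PP_desc`, `PP_trans`, `PP_index` : the same in `N ≅ Y^k`.
-/

set_option autoImplicit false
set_option linter.unusedSectionVars false

namespace Cfsg.Agent.H737.EPO

open Cfsg.Agent.H284 Cfsg.Agent.H209.EPX
open scoped Pointwise

/-- rank one facts -/
structure Rk {Y : Type*} [Group Y] {p : ℕ} {I : Type*} (S : PSys Y p I) : Prop where
  desc : ∀ {J : Set I} {g : Y}, g ∈ S.P J → g ∉ S.P ∅ → ∃ i ∈ J, ∀ u ∈ S.V ∅, g⁻¹ * u * g ∈ S.P ∅ → u ∈ S.V {i}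
  trans : ∀ {j : I} {x y : Y}, x ∈ S.P {j} → x ∉ S.P ∅ → y ∈ S.P {j} → y ∉ S.P ∅ →
    ∃ u ∈ S.V ∅, y⁻¹ * u * x ∈ S.P ∅
  ne : ∀ j : I, S.V {j} ≠ S.V ∅

/-- index of the stabiliser of a point, two orbits -/
theorem index_two {Y : Type*} [Group Y] [Finite Y] {A B U V : Subgroup Y} (hUA : U ≤ A) {x : Y} (hx : x ∈ A)
    (hxB : x ∉ B) (hUB : U ≤ B) (htr : ∀ y ∈ A, y ∉ B → ∃ u ∈ U, y⁻¹ * u * x ∈ B)
    (hst : ∀ u ∈ U, x⁻¹ * u * x ∈ B ↔ u ∈ V) : B.relIndex A = 1 + V.relIndex U := by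
  classical
  have hout : ∀ (q : U ⧸ V.subgroupOf U) (u : U), (QuotientGroup.mk u : U ⧸ V.subgroupOf U) = q →
      ((q.out : U) : Y)⁻¹ * u ∈ V := by
    intro q u hq
    have h1 : (QuotientGroup.mk q.out : U ⧸ V.subgroupOf U) = QuotientGroup.mk u := by
      rw [QuotientGroup.out_eq', hq]
    have h2 : (q.out)⁻¹ * u ∈ V.subgroupOf U := QuotientGroup.eq.1 h1
    exact h2
  let f : Option (U ⧸ V.subgroupOf U) → A ⧸ B.subgroupOf A := fun o =>
    match o with
    | none => QuotientGroup.mk 1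
    | some q => QuotientGroup.mk ⟨(q.out : U) * x, mul_mem (hUA q.out.2) hx⟩
  have hf : Function.Bijective f := by
    constructor
    · intro a b hab
      cases a with
      | none =>
        cases b with
        | none => rfl
        | some q =>
          exfalso
          have h0 : ((1 : A))⁻¹ * ⟨(q.out : U) * x, mul_mem (hUA q.out.2) hx⟩ ∈ B.subgroupOf A := QuotientGroup.eq.1 hab
          have h1 : (1 : Y)⁻¹ * ((q.out : U) * x) ∈ B := h0
          apply hxB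
          have := mul_mem (inv_mem (hUB q.out.2)) h1
          simpa using this
      | some q =>
        cases b with
        | none =>
          exfalso
          have h0 : (⟨(q.out : U) * x, mul_mem (hUA q.out.2) hx⟩ : A)⁻¹ * 1 ∈ B.subgroupOf A := QuotientGroup.eq.1 hab
          have h1 : ((q.out : U) * x : Y)⁻¹ * 1 ∈ B := h0
          apply hxB
          have := mul_mem (inv_mem (hUB q.out.2)) (inv_mem h1)
          simpa using this
        | some q' =>
          have h0 : (⟨(q.out : U) * x, mul_mem (hUA q.out.2) hx⟩ : A)⁻¹ * ⟨(q'.out : U) * x, mul_mem (hUA q'.out.2) hx⟩ ∈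
            B.subgroupOf A := QuotientGroup.eq.1 hab
          have h1 : ((q.out : U) * x : Y)⁻¹ * ((q'.out : U) * x) ∈ B := h0
          have h2 : ((q.out : U) : Y)⁻¹ * (q'.out : U) ∈ V := by
            apply (hst _ (mul_mem (inv_mem q.out.2) q'.out.2)).1
            have : ((q.out : U) * x : Y)⁻¹ * ((q'.out : U) * x) = x⁻¹ * (((q.out : U) : Y)⁻¹ * (q'.out : U)) * x := by group
            rwa [← this]
          have h3 : (QuotientGroup.mk q.out : U ⧸ V.subgroupOf U) = QuotientGroup.mk q'.out := QuotientGroup.eq.2 h2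
          rw [QuotientGroup.out_eq', QuotientGroup.out_eq'] at h3
          rw [h3]
    · intro q
      induction q using QuotientGroup.induction_on with
      | H y =>
        by_cases hy : (y : Y) ∈ B
        · refine ⟨none, ?_⟩
          show QuotientGroup.mk 1 = QuotientGroup.mk y
          rw [QuotientGroup.eq]
          show ((1 : A)⁻¹ * y : A) ∈ B.subgroupOf A
          rw [Subgroup.mem_subgroupOf]
          simpa only [_root_.inv_one, _root_.one_mul] using hy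
        · obtain ⟨u, hu, h1⟩ := htr y y.2 hy
          refine ⟨some (QuotientGroup.mk ⟨u, hu⟩), ?_⟩
          show QuotientGroup.mk _ = QuotientGroup.mk y
          rw [QuotientGroup.eq, Subgroup.mem_subgroupOf]
          have h2 := hout (QuotientGroup.mk ⟨u, hu⟩) ⟨u, hu⟩ rfl
          set o : U := (QuotientGroup.mk ⟨u, hu⟩ : U ⧸ V.subgroupOf U).out with ho
          show ((o : Y) * x)⁻¹ * y ∈ B
          have h3 : x⁻¹ * ((o : Y)⁻¹ * u) * x ∈ B := (hst _ (mul_mem (inv_mem o.2) hu)).2 h2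
          have e1 : ((o : Y) * x)⁻¹ * y = x⁻¹ * ((o : Y)⁻¹ * u) * x * (((y : Y)⁻¹ * u * x)⁻¹) := by group
          rw [e1]
          exact mul_mem h3 (inv_mem h1)
  rw [Subgroup.relIndex, Subgroup.relIndex, Subgroup.index, Subgroup.index, ← Nat.card_congr (Equiv.ofBijective f hf),
    Finite.card_option, add_comm]

theorem p_index {Y : Type*} [Group Y] [Finite Y] {p : ℕ} [Fact p.Prime] {U V : Subgroup Y} (hU : IsPGroup p U)
    (hVU : V ≤ U) (hne : V ≠ U) : ∃ a, 1 ≤ a ∧ V.relIndex U = p ^ a := by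
  obtain ⟨m, hm⟩ := IsPGroup.iff_card.1 hU
  have h1 : V.relIndex U ∣ p ^ m := by
    rw [← hm]
    exact Subgroup.relIndex_dvd_card _ _
  obtain ⟨a, -, ha⟩ := (Nat.dvd_prime_pow (Fact.out : p.Prime)).1 h1
  refine ⟨a, ?_, ha⟩
  by_contra h2
  have h3 : a = 0 := by omega
  rw [h3, pow_zero, Subgroup.relIndex_eq_one] at ha
  exact hne (le_antisymm hVU ha)

/-! ### Root group data -/

section RGD

open CoxeterSystem Cfsg.Agent.ChevalleyStructure.CoxeterGeom Cfsg.Agent.Tits.Roots Cfsg.Agent.Tits.Core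
  Cfsg.Agent.Tits.RootComb Cfsg.Agent.Tits.Exchange Cfsg.Agent.Nodes.Reps Cfsg.Agent.Nodes.BNOf
  Cfsg.Agent.Nodes.StabComb Cfsg.Agent.Nodes.Bruhat Cfsg.Agent.Nodes.OppDec Cfsg.Agent.Nodes.LeviDec
  Cfsg.Agent.Nodes.Coroot Cfsg.Agent.KFacts.RgdPar Cfsg.Agent.KFacts.RgdSL Cfsg.Agent.KFacts.RgdVJ
  Cfsg.Agent.KFacts.RgdCharP

variable {I W Y : Type*} [Fintype I] [DecidableEq I] [Group W] [Group Y] {M : CoxeterMatrix I}
  {cs : CoxeterSystem M W} {A : I → I → ℤ} {h : IsCartan M A} {p : ℕ} {T : Subgroup Y} {n : I → Y}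
  {X : (I → ℤ) → Subgroup Y}

theorem VJ_empty : VJ cs h X (∅ : Set I) = RGD.Sup X (RGD.Pos cs h) := by
  unfold VJ
  rw [H470.EPK.NotJ_empty]

theorem NotJ_singleton (i : I) : RGD.Pos cs h \ {sr i} = NotJ cs h ({i} : Set I) := by
  ext x
  constructor
  · rintro ⟨⟨h1, h2⟩, h3⟩
    rcases mem_PosJ_or_NotJ ({i} : Set I) h1 h2 with h4 | h4
    · exfalso
      apply h3
      have h5 : x ∈ ({sr i} : Set (I → ℤ)) := by
        obtain ⟨k, hk, hk0⟩ := exists_coeff h1 h2 (i := i) (fun e => h3 e)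
        exfalso
        exact hk0.ne' (h4.2.2 k (fun e => hk e))
      exact h5
    · exact h4
  · rintro ⟨h1, h2, k, hk, hk0⟩
    refine ⟨⟨h1, h2⟩, fun e => ?_⟩
    rw [Set.mem_singleton_iff] at e
    rw [e, sr_ne (by rintro rfl; exact hk rfl)] at hk0
    exact lt_irrefl _ hk0

section

variable (R : RGD cs h p T n X)

include R

theorem desc_rgd [Finite W] {J : Set I} {g : Y} (hg : g ∈ PJ cs h T X J) (hgB : g ∉ RGD.B cs h T X) :
    ∃ i ∈ J, ∀ u ∈ RGD.Sup X (RGD.Pos cs h), g⁻¹ * u * g ∈ RGD.B cs h T X → u ∈ VJ cs h X {i} := by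
  obtain ⟨w, hwJ, b₁, hb₁, k, hk, b₂, hb₂, rfl⟩ := (mem_PJ_iff_cell R).1 hg
  have hw : w⁻¹ ≠ 1 := by
    intro h1
    apply hgB
    rw [inv_eq_one] at h1
    rw [h1] at hk
    exact mul_mem (mul_mem hb₁ (RGD.T_le_B hk.mem_of_one)) hb₂
  obtain ⟨i, hi⟩ := cs.exists_rightDescent_of_ne_one hw
  have h3 : rep cs h w⁻¹ (sr i) ≤ 0 := (lt_iff cs h _ i).1 hi
  have hiJ : i ∈ J := by
    by_contra hiJ
    have h4 := (NotJ.act (h := h) (inv_mem hwJ) (sr_mem_NotJ hiJ)).2.1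
    exact ((isRoot_sr cs h i).act w⁻¹).not_pos_neg h4 h3
  refine ⟨i, hiJ, fun u hu h1 => ?_⟩
  have h2 : b₁⁻¹ * u * b₁ ∈ RGD.Sup X (RGD.Pos cs h) := by
    have h4 : b₁⁻¹ ∈ Subgroup.normalizer (RGD.Sup X (RGD.Pos cs h) : Set Y) := by
      have h5 := KFacts.RgdEx.normalizer_U R
      have h6 : b₁⁻¹ ∈ Subgroup.normalizer (RGD.Sup X (RGD.Pos cs h) : Set Y) ⊓ GG cs h T X := by
        rw [h5]; exact inv_mem hb₁
      exact h6.1
    have := (Subgroup.mem_normalizer_iff.1 h4 u).1 hu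
    rwa [inv_inv] at this
  have h4 : k⁻¹ * (b₁⁻¹ * u * b₁) * k ∈ RGD.B cs h T X := by
    have e1 : k⁻¹ * (b₁⁻¹ * u * b₁) * k = b₂ * ((b₁ * k * b₂)⁻¹ * u * (b₁ * k * b₂)) * b₂⁻¹ := by group
    rw [e1]
    exact mul_mem (mul_mem hb₂ h1) (inv_mem hb₂)
  have h5 := mem_PW_of_conj R hk h2 h4
  have h6 : RGD.Sup X (PW cs h w⁻¹) ≤ VJ cs h X {i} := by
    unfold VJ
    rw [← NotJ_singleton]
    refine RGD.Sup_mono ?_
    rintro x ⟨h7, h8, h9⟩
    refine ⟨⟨h7, h8⟩, fun e => ?_⟩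
    rw [Set.mem_singleton_iff] at e
    rw [e] at h9
    exact ((isRoot_sr cs h i).act w⁻¹).not_pos_neg h9 h3
  have h7 := (Subgroup.mem_normalizer_iff.1 (PJ_le_normalizer_VJ R {i} (B_le_PJ hb₁)) _).1 (h6 h5)
  have e1 : b₁ * (b₁⁻¹ * u * b₁) * b₁⁻¹ = u := by group
  rwa [e1] at h7

theorem trans_rgd [Finite W] {j : I} {x y : Y} (hx : x ∈ PJ cs h T X {j}) (hxB : x ∉ RGD.B cs h T X)
    (hy : y ∈ PJ cs h T X {j}) (hyB : y ∉ RGD.B cs h T X) :
    ∃ u ∈ RGD.Sup X (RGD.Pos cs h), y⁻¹ * u * x ∈ RGD.B cs h T X := by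
  -- every element of `P_j - B` is `u n_j b` with `u ∈ U`
  have key : ∀ z ∈ PJ cs h T X {j}, z ∉ RGD.B cs h T X → ∃ u ∈ RGD.Sup X (RGD.Pos cs h), ∃ b ∈ RGD.B cs h T X,
      z = u * n j * b := by
    intro z hz hzB
    obtain ⟨w, hwJ, b₁, hb₁, k, hk, b₂, hb₂, rfl⟩ := (mem_PJ_iff_cell R).1 hz
    rcases KFacts.RgdDiag.mem_WJ_singleton hwJ with h1 | h1
    · exfalso
      apply hzB
      rw [h1] at hk
      exact mul_mem (mul_mem hb₁ (RGD.T_le_B hk.mem_of_one)) hb₂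
    · rw [h1] at hk
      obtain ⟨t, ht, u, hu, rfl⟩ := R.mem_B.1 hb₁
      have h2 : t * u * t⁻¹ ∈ RGD.Sup X (RGD.Pos cs h) :=
        (Subgroup.mem_normalizer_iff.1 (R.T_le_normalizer_U ht) u).1 hu
      have h3 : (n j)⁻¹ * (t * k) ∈ T := by
        have h4 : Rp cs R.nsys (cs.simple j) (t * k) := by
          have := (rp_of_mem (cs := cs) (hN := R.nsys) ht).mul hk
          rwa [one_mul] at this
        have h5 := (rp_simple cs R.nsys j).inv.mul h4
        rw [inv_mul_cancel] at h5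
        exact h5.mem_of_one
      refine ⟨t * u * t⁻¹, h2, (n j)⁻¹ * (t * k) * b₂, mul_mem (RGD.T_le_B h3) hb₂, ?_⟩
      group
  obtain ⟨u, hu, b, hb, rfl⟩ := key x hx hxB
  obtain ⟨u', hu', b', hb', rfl⟩ := key y hy hyB
  refine ⟨u' * u⁻¹, mul_mem hu' (inv_mem hu), ?_⟩
  have e1 : (u' * n j * b')⁻¹ * (u' * u⁻¹) * (u * n j * b) = b'⁻¹ * b := by group
  rw [e1]
  exact mul_mem (inv_mem hb') hb

theorem relIndex_VJ [Finite W] [Finite Y] (i : I) :
    (VJ cs h X {i}).relIndex (RGD.Sup X (RGD.Pos cs h)) = Nat.card (X (sr i)) := by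
  have h1 : VJ cs h X {i} ≤ RGD.Sup X (RGD.Pos cs h) := VJ_le_U _
  have h2 : X (sr i) ⊓ VJ cs h X {i} = ⊥ := by
    have h3 := UJ_inf_VJ R {i}
    rwa [KFacts.RgdDiag.UJ_singleton] at h3
  have hc : Nat.card (X (sr i)) * Nat.card (VJ cs h X {i}) = Nat.card (RGD.Sup X (RGD.Pos cs h)) := by
    have e : Function.Bijective (fun z : X (sr i) × VJ cs h X {i} =>
        (⟨(z.1 : Y) * z.2, mul_mem (RGD.le_Sup (S := RGD.Pos cs h) ⟨isRoot_sr cs h i, sr_nonneg i⟩ z.1.2) (h1 z.2.2)⟩ :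
          RGD.Sup X (RGD.Pos cs h))) := by
      constructor
      · rintro ⟨a, b⟩ ⟨a', b'⟩ hab
        have h3 : (a : Y) * b = a' * b' := Subtype.ext_iff.1 hab
        have h4 : (a' : Y)⁻¹ * a = b' * (b : Y)⁻¹ := by
          rw [eq_mul_inv_iff_mul_eq, mul_assoc, h3, inv_mul_cancel_left]
        have h5 : (a' : Y)⁻¹ * a ∈ X (sr i) ⊓ VJ cs h X {i} :=
          Subgroup.mem_inf.2 ⟨mul_mem (inv_mem a'.2) a.2, by rw [h4]; exact mul_mem b'.2 (inv_mem b.2)⟩
        rw [h2, Subgroup.mem_bot] at h5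
        have h6 : a = a' := Subtype.ext (inv_mul_eq_one.1 h5).symm
        subst h6
        have h7 : b = b' := Subtype.ext (mul_left_cancel h3)
        rw [h7]
      · rintro ⟨u, hu⟩
        obtain ⟨a, ha, b, hb, rfl⟩ := (mem_U_iff R (J := {i})).1 hu
        rw [KFacts.RgdDiag.UJ_singleton] at ha
        exact ⟨(⟨a, ha⟩, ⟨b, hb⟩), rfl⟩
    rw [← Nat.card_prod]
    exact Nat.card_congr (Equiv.ofBijective _ e)
  have h3 := Subgroup.relIndex_mul_relIndex ⊥ (VJ cs h X {i}) (RGD.Sup X (RGD.Pos cs h)) bot_le h1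
  rw [Subgroup.relIndex_bot_left, Subgroup.relIndex_bot_left, ← hc, mul_comm] at h3
  exact Nat.eq_of_mul_eq_mul_right Nat.card_pos h3

/-- **the rank one facts of a root group datum** -/
theorem rk_ofRGD [Finite W] [Finite Y] [Fact p.Prime] (hBT : BT cs h p T X) (hG : GG cs h T X = ⊤)
    (hX : RGD.Sup X {x | IsRoot cs h x} = ⊤) (hconn : Conn M) : Rk (ofRGD R hBT hG hX hconn) where
  desc {J g} hg hgB := by
    have hgB' : g ∉ PJ cs h T X ∅ := hgB
    rw [PJ_empty R] at hgB'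
    obtain ⟨i, hi, h1⟩ := desc_rgd R hg hgB'
    refine ⟨i, hi, fun u hu h2 => ?_⟩
    have hu' : u ∈ VJ cs h X ∅ := hu
    have h2' : g⁻¹ * u * g ∈ PJ cs h T X ∅ := h2
    rw [VJ_empty] at hu'
    rw [PJ_empty R] at h2'
    exact h1 u hu' h2'
  trans {j x y} hx hxB hy hyB := by
    have hxB' : x ∉ PJ cs h T X ∅ := hxB
    have hyB' : y ∉ PJ cs h T X ∅ := hyB
    rw [PJ_empty R] at hxB' hyB'
    obtain ⟨u, hu, h1⟩ := trans_rgd R hx hxB' hy hyB'
    refine ⟨u, ?_, ?_⟩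
    · show u ∈ VJ cs h X ∅
      rw [VJ_empty]
      exact hu
    · show _ ∈ PJ cs h T X ∅
      rw [PJ_empty R]
      exact h1
  ne j := by
    intro e
    have e' : VJ cs h X {j} = VJ cs h X ∅ := e
    rw [VJ_empty] at e'
    have h1 := relIndex_VJ R j
    rw [e', Subgroup.relIndex_self] at h1
    have h2 := X_ne_bot R (isRoot_sr cs h j)
    exact h2 (Subgroup.card_eq_one.1 h1.symm)

theorem relIndex_ofRGD [Finite W] [Finite Y] [Fact p.Prime] (hBT : BT cs h p T X) (hG : GG cs h T X = ⊤)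
    (hX : RGD.Sup X {x | IsRoot cs h x} = ⊤) (hconn : Conn M) (i : I) :
    ((ofRGD R hBT hG hX hconn).V {i}).relIndex ((ofRGD R hBT hG hX hconn).V ∅) = Nat.card (X (sr i)) := by
  show (VJ cs h X {i}).relIndex (VJ cs h X ∅) = _
  rw [VJ_empty]
  exact relIndex_VJ R i

end

end RGD

/-! ### Rank one facts in `N ≅ Y^k` -/

section N

variable {G Y : Type*} [Group G] [Finite G] [Group Y] [Finite Y] {H N : Subgroup G} {k : ℕ}
  (e : N ≃* (Fin k → Y)) {p : ℕ} {I : Type*} {S : PSys Y p I} (hS : Rk S)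

/-- the type consisting of the node `j` of the `i`-th factor -/
def sgl (i : Fin k) (j : I) : Fin k → Set I := fun i' => {j' | i' = i ∧ j' = j}

theorem sgl_same (i : Fin k) (j : I) : sgl i j i = {j} := by
  ext x
  simp [sgl]

theorem sgl_ne {i i' : Fin k} (h : i' ≠ i) (j : I) : sgl i j i' = (∅ : Set I) := by
  ext x
  simp [sgl, h]

theorem sgl_le_iff {i : Fin k} {j : I} {K : Fin k → Set I} : (∀ i', sgl i j i' ⊆ K i') ↔ j ∈ K i := by
  constructor
  · intro h
    apply h i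
    rw [sgl_same]; rfl
  · intro h i'
    by_cases hi : i' = i
    · subst hi
      rw [sgl_same]
      simpa using h
    · rw [sgl_ne hi]
      exact Set.empty_subset _

include hS

theorem PP_desc {K : Fin k → Set I} {g : G} (hg : g ∈ PP e S K) (hgB : g ∉ PP e S fun _ => ∅) :
    ∃ i, ∃ j ∈ K i, ∀ u ∈ VV e S (fun _ => ∅), g⁻¹ * u * g ∈ PP e S (fun _ => ∅) → u ∈ VV e S (sgl i j) := by
  have hgN := PP_le e S _ hg
  have hg' := (mem_pk e).1 hg
  obtain ⟨i, hi⟩ : ∃ i, cp e g i ∉ S.P ∅ := by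
    by_contra hcon
    push Not at hcon
    exact hgB ((mem_pk e).2 ⟨hgN, hcon⟩)
  obtain ⟨j, hj, h1⟩ := hS.desc (hg'.2 i) hi
  refine ⟨i, j, hj, fun u hu h2 => ?_⟩
  have hu' := (mem_pk e).1 hu
  refine (mem_pk e).2 ⟨hu'.1, fun i' => ?_⟩
  by_cases hi' : i' = i
  · subst hi'
    rw [sgl_same]
    apply h1 _ (hu'.2 i')
    have h3 := ((mem_pk e).1 h2).2 i'
    rwa [cp_mul e (mul_mem (inv_mem hgN) hu'.1) hgN, cp_mul e (inv_mem hgN) hu'.1, cp_inv e hgN] at h3
  · rw [sgl_ne hi']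
    exact hu'.2 i'

theorem PP_trans {i : Fin k} {j : I} {x y : G} (hx : x ∈ PP e S (sgl i j)) (hxB : x ∉ PP e S fun _ => ∅)
    (hy : y ∈ PP e S (sgl i j)) (hyB : y ∉ PP e S fun _ => ∅) :
    ∃ u ∈ VV e S (fun _ => ∅), y⁻¹ * u * x ∈ PP e S (fun _ => ∅) := by
  have key : ∀ z ∈ PP e S (sgl i j), z ∉ PP e S (fun _ => ∅) → cp e z i ∈ S.P {j} ∧ cp e z i ∉ S.P ∅ ∧
      ∀ i', i' ≠ i → cp e z i' ∈ S.P ∅ := by
    intro z hz hzB
    have hz' := (mem_pk e).1 hz
    have h1 : ∀ i', i' ≠ i → cp e z i' ∈ S.P ∅ := fun i' hi' => by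
      have := hz'.2 i'
      rwa [sgl_ne hi'] at this
    refine ⟨by have := hz'.2 i; rwa [sgl_same] at this, fun h2 => hzB ((mem_pk e).2 ⟨hz'.1, fun i' => ?_⟩), h1⟩
    by_cases hi' : i' = i
    · subst hi'; exact h2
    · exact h1 i' hi'
  obtain ⟨hx1, hx2, hx3⟩ := key x hx hxB
  obtain ⟨hy1, hy2, hy3⟩ := key y hy hyB
  obtain ⟨u, hu, h1⟩ := hS.trans hx1 hx2 hy1 hy2
  have hxN := PP_le e S _ hx
  have hyN := PP_le e S _ hy
  refine ⟨sg e i u, (sg_mem_pk e).2 hu, (mem_pk e).2 ⟨mul_mem (mul_mem (inv_mem hyN) (sg_mem e i u)) hxN, fun i' => ?_⟩⟩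
  rw [cp_mul e (mul_mem (inv_mem hyN) (sg_mem e i u)) hxN, cp_mul e (inv_mem hyN) (sg_mem e i u), cp_inv e hyN]
  by_cases hi' : i' = i
  · subst hi'
    rwa [cp_sg]
  · rw [cp_sg_ne e hi', mul_one]
    exact mul_mem (inv_mem (hy3 i' hi')) (hx3 i' hi')

/-- the stabiliser in `U` of a chamber of a panel -/
theorem PP_stab {i : Fin k} {j : I} {x : G} (hx : x ∈ PP e S (sgl i j)) (hxB : x ∉ PP e S fun _ => ∅) {u : G}
    (hu : u ∈ VV e S fun _ => ∅) : x⁻¹ * u * x ∈ PP e S (fun _ => ∅) ↔ u ∈ VV e S (sgl i j) := by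
  constructor
  · intro h1
    obtain ⟨i', j', hj', h2⟩ := PP_desc e hS hx hxB
    have h3 : i' = i ∧ j' = j := hj'
    rw [← h3.1, ← h3.2]
    exact h2 u hu h1
  · intro h1
    have h2 := PP_nm e S (inv_mem hx) h1
    rw [inv_inv] at h2
    exact VV_le_PP' e S _ _ h2

theorem exists_not_mem {i : Fin k} {j : I} : ∃ x ∈ PP e S (sgl i j), x ∉ PP e S fun _ => ∅ := by
  by_contra hcon
  push Not at hcon
  have h1 := (PP_le_iff e S).1 hcon
  exact (sgl_le_iff.1 h1).elim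

/-- the number of chambers of a panel -/
theorem PP_index (i : Fin k) (j : I) :
    (PP e S fun _ => ∅).relIndex (PP e S (sgl i j)) = 1 + (VV e S (sgl i j)).relIndex (VV e S fun _ => ∅) := by
  obtain ⟨x, hx, hxB⟩ := exists_not_mem e hS (i := i) (j := j)
  have h0 : PP e S (fun _ => ∅) ≤ PP e S (sgl i j) := (PP_le_iff e S).2 fun _ => Set.empty_subset _
  refine index_two ((VV_le_PP e S _).trans h0) hx hxB (VV_le_PP e S _) (fun y hy hyB => ?_) (fun u hu => PP_stab e hS hx hxB hu)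
  exact PP_trans e hS hx hxB hy hyB

omit hS in
/-- back to `Y` -/
theorem VV_index (i : Fin k) (j : I) :
    (VV e S (sgl i j)).relIndex (VV e S fun _ => ∅) = (S.V {j}).relIndex (S.V ∅) := by
  let f : N →* Y := (Pi.evalMonoidHom (fun _ => Y) i).comp e.toMonoidHom
  have hf : ∀ x : N, f x = cp e (x : G) i := fun x => by rw [cp_eq e x.2]; rfl
  have h1 : ((VV e S fun _ => ∅).subgroupOf N).map f = S.V ∅ := by
    apply le_antisymm
    · rintro _ ⟨x, hx, rfl⟩
      rw [hf]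
      exact ((mem_pk e).1 hx).2 i
    · intro t ht
      refine ⟨⟨sg e i t, sg_mem e i t⟩, (sg_mem_pk e).2 ht, ?_⟩
      rw [hf, cp_sg]
  have h2 := Subgroup.relIndex_comap (S.V {j}) f ((VV e S fun _ => ∅).subgroupOf N)
  rw [h1] at h2
  rw [← h2]
  have h3 : ∀ A B : Subgroup G, B ≤ N → (A.subgroupOf N).relIndex (B.subgroupOf N) = A.relIndex B := by
    intro A B hB
    rw [Subgroup.relIndex_subgroupOf hB]
  rw [← h3 _ _ (VV_le e S _)]
  have h4 : ∀ A A' B : Subgroup N, A ⊓ B = A' ⊓ B → A.relIndex B = A'.relIndex B := by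
    intro A A' B h
    rw [← Subgroup.inf_relIndex_right A, h, Subgroup.inf_relIndex_right]
  apply h4
  ext x
  constructor
  · rintro ⟨h5, h6⟩
    refine ⟨?_, h6⟩
    show f x ∈ S.V {j}
    rw [hf]
    have := ((mem_pk e).1 h5).2 i
    rwa [sgl_same] at this
  · rintro ⟨h5, h6⟩
    have h5' : f x ∈ S.V {j} := h5
    rw [hf] at h5'
    refine ⟨(mem_pk e).2 ⟨x.2, fun i' => ?_⟩, h6⟩
    by_cases hi' : i' = i
    · subst hi'
      rw [sgl_same]; exact h5'
    · rw [sgl_ne hi']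
      exact ((mem_pk e).1 h6).2 i'

end N

end Cfsg.Agent.H737.EPO
end

-- part: H470/EPO/Panel
section
/-!
# The panel lemma (helper470, for S5745 / S3499, own characteristic)

`W` a finite elementary abelian `p`-group which is the union of nontrivial subgroups `V c` (`c` in a set of
`p ^ a + 1` elements), pairwise with trivial intersection, permuted by a group such that the stabiliser of `c`
centralises `V c` and is transitive on the other points.  Then `p ^ a = 2` and `|W| = 4`.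
-/

set_option autoImplicit false
set_option linter.unusedSectionVars false

namespace Cfsg.Agent.H470.EPO

open MulAction

/-- The hypotheses, for a faithful action of a finite group `B`. -/
structure Pan (p a : ℕ) (B W P : Type*) [Group B] [CommGroup W] [MulAction B P] [MulDistribMulAction B W]
    (V : P → Subgroup W) : Prop where
  exp : ∀ w : W, w ^ p = 1
  ha : 1 ≤ a
  card : Nat.card P = p ^ a + 1
  eqv : ∀ (b : B) (c : P) (v : W), v ∈ V c → b • v ∈ V (b • c)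
  cent : ∀ (b : B) (c : P) (v : W), b • c = c → v ∈ V c → b • v = v
  cover : ∀ w : W, ∃ c, w ∈ V c
  disj : ∀ (c d : P) (w : W), c ≠ d → w ∈ V c → w ∈ V d → w = 1
  ne : ∀ c, ∃ v ∈ V c, v ≠ 1
  two : ∀ c d d' : P, d ≠ c → d' ≠ c → ∃ b : B, b • c = c ∧ b • d = d'

namespace Pan

/-- `m (q + 1) = q + p ^ s`, `m = p ^ b`, `q = p ^ a`, `a, b ≥ 1`: then `a = b` -/
theorem arith {p a b s : ℕ} (hp : p.Prime) (ha : 1 ≤ a) (hb : 1 ≤ b)
    (h : p ^ b * (p ^ a + 1) = p ^ a + p ^ s) : a = b ∧ s = 2 * a := by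
  have hp2 := hp.two_le
  have hpos : ∀ k, 0 < p ^ k := fun k => pow_pos hp.pos k
  rcases lt_trichotomy a b with hab | hab | hab
  · exfalso
    obtain ⟨c, rfl⟩ := Nat.exists_eq_add_of_lt hab
    -- p^(a+c+1) (q+1) = p^a + p^s
    have h1 : p ^ (a + c + 1) = p ^ a * p ^ (c + 1) := by rw [← pow_add]; rfl
    have hs : a < s := by
      by_contra hcon
      push Not at hcon
      have h2 : p ^ s ≤ p ^ a := Nat.pow_le_pow_right hp.pos hcon
      have h3 : p ^ a * 2 ≤ p ^ (a + c + 1) := by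
        rw [h1]
        refine Nat.mul_le_mul_left _ ?_
        calc 2 ≤ p := hp2
          _ = p ^ 1 := (pow_one p).symm
          _ ≤ p ^ (c + 1) := Nat.pow_le_pow_right hp.pos (by omega)
      have h4 : p ^ (a + c + 1) * 1 < p ^ (a + c + 1) * (p ^ a + 1) :=
        Nat.mul_lt_mul_of_pos_left (by have := hpos a; omega) (hpos _)
      omega
    obtain ⟨e, rfl⟩ := Nat.exists_eq_add_of_lt hs
    have h2 : p ^ (a + e + 1) = p ^ a * p ^ (e + 1) := by rw [← pow_add]; rfl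
    rw [h1, h2] at h
    have h3 : p ^ a * (p ^ (c + 1) * (p ^ a + 1)) = p ^ a * (1 + p ^ (e + 1)) := by
      rw [← mul_assoc, h]; ring
    have h4 := Nat.eq_of_mul_eq_mul_left (hpos a) h3
    have h5 : p ∣ 1 := by
      have h6 : p ∣ p ^ (e + 1) := dvd_pow_self p (by omega)
      have h7 : p ∣ 1 + p ^ (e + 1) := by
        rw [← h4]
        exact Dvd.dvd.mul_right (dvd_pow_self p (by omega)) _
      exact (Nat.dvd_add_left h6).1 h7
    exact hp.one_lt.ne' (Nat.dvd_one.1 h5)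
  · subst hab
    refine ⟨rfl, ?_⟩
    have h1 : p ^ a * p ^ a = p ^ s := by
      have : p ^ a * (p ^ a + 1) = p ^ a * p ^ a + p ^ a := by ring
      omega
    rw [← pow_add] at h1
    have := Nat.pow_right_injective hp2 h1
    omega
  · exfalso
    obtain ⟨c, rfl⟩ := Nat.exists_eq_add_of_lt hab
    have h1 : p ^ (b + c + 1) = p ^ b * p ^ (c + 1) := by rw [← pow_add]; rfl
    have hs : b ≤ s := by
      by_contra hcon
      push Not at hcon
      obtain ⟨e, rfl⟩ := Nat.exists_eq_add_of_lt hcon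
      have h2 : p ^ (s + e + 1) = p ^ s * p ^ (e + 1) := by rw [← pow_add]; rfl
      have h3 : p ^ s * (p ^ (e + 1) * (p ^ (s + e + 1 + c + 1) + 1)) = p ^ s * (p ^ (e + 1) * p ^ (c + 1) + 1) := by
        have h4 : p ^ (s + e + 1 + c + 1) = p ^ (s + e + 1) * p ^ (c + 1) := by rw [← pow_add]; rfl
        rw [← mul_assoc, ← h2, h, h4, h2]; ring
      have h4 := Nat.eq_of_mul_eq_mul_left (hpos s) h3
      have h5 : p ∣ 1 := by
        have h6 : p ∣ p ^ (e + 1) * p ^ (c + 1) := Dvd.dvd.mul_right (dvd_pow_self p (by omega)) _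
        have h7 : p ∣ p ^ (e + 1) * p ^ (c + 1) + 1 := by
          rw [← h4]
          exact Dvd.dvd.mul_right (dvd_pow_self p (by omega)) _
        exact (Nat.dvd_add_right h6).1 h7
      exact hp.one_lt.ne' (Nat.dvd_one.1 h5)
    obtain ⟨e, rfl⟩ := Nat.exists_eq_add_of_le hs
    have h2 : p ^ (b + e) = p ^ b * p ^ e := pow_add _ _ _
    have h3 : p ^ b * (p ^ (b + c + 1) + 1) = p ^ b * (p ^ (c + 1) + p ^ e) := by
      rw [h, h1, h2]; ring
    have h4 := Nat.eq_of_mul_eq_mul_left (hpos b) h3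
    -- p^(b+c+1) + 1 = p^(c+1) + p^e
    have h5 : e = 0 := by
      by_contra h0
      have h6 : p ∣ p ^ (c + 1) + p ^ e := Nat.dvd_add (dvd_pow_self p (by omega)) (dvd_pow_self p h0)
      rw [← h4] at h6
      have h7 : p ∣ p ^ (b + c + 1) := dvd_pow_self p (by omega)
      exact hp.one_lt.ne' (Nat.dvd_one.1 ((Nat.dvd_add_right h7).1 h6))
    subst h5
    rw [pow_zero] at h4
    have h6 : p ^ (b + c + 1) = p ^ (c + 1) := by omega
    have := Nat.pow_right_injective hp2 h6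
    omega

variable {p a : ℕ} {B W P : Type*} [Group B] [CommGroup W] [MulAction B P] [MulDistribMulAction B W]
  {V : P → Subgroup W} [Fact p.Prime] [Finite W] [Finite P]

variable (H : Pan p a B W P V)

include H

theorem q_two : 2 ≤ p ^ a := by
  have hp := (Fact.out : p.Prime)
  calc 2 ≤ p := hp.two_le
    _ = p ^ 1 := (pow_one p).symm
    _ ≤ p ^ a := Nat.pow_le_pow_right hp.pos H.ha

theorem exists_third (c d : P) : ∃ e, e ≠ c ∧ e ≠ d := by
  classical
  have := Fintype.ofFinite P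
  by_contra hcon
  push Not at hcon
  have h1 : (Finset.univ : Finset P) ⊆ {c, d} := by
    intro e _
    by_cases h2 : e = c
    · simp [h2]
    · simp [hcon e h2]
  have h2 := Finset.card_le_card h1
  rw [Finset.card_univ, ← Nat.card_eq_fintype_card, H.card] at h2
  have h3 : ({c, d} : Finset P).card ≤ 2 := Finset.card_le_two
  have := H.q_two
  omega

theorem trans (c d : P) : ∃ b : B, b • c = d := by
  by_cases hcd : c = d
  · exact ⟨1, by rw [one_smul, hcd]⟩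
  · obtain ⟨e, he1, he2⟩ := H.exists_third c d
    obtain ⟨b, -, hb⟩ := H.two e c d he1.symm he2.symm
    exact ⟨b, hb⟩

theorem mem_iff (b : B) (c : P) (v : W) : b • v ∈ V (b • c) ↔ v ∈ V c := by
  constructor
  · intro h1
    have h2 := H.eqv b⁻¹ _ _ h1
    rwa [inv_smul_smul, inv_smul_smul] at h2
  · exact H.eqv b c v

theorem card_V (c d : P) : Nat.card (V c) = Nat.card (V d) := by
  obtain ⟨b, rfl⟩ := H.trans c d
  refine Nat.card_congr ⟨fun v => ⟨b • (v : W), H.eqv b c v v.2⟩, fun v => ⟨b⁻¹ • (v : W), ?_⟩, ?_, ?_⟩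
  · have := H.eqv b⁻¹ _ _ v.2
    rwa [inv_smul_smul] at this
  · intro v
    simp
  · intro v
    simp

theorem card_W (c : P) : Nat.card W - 1 = Nat.card P * (Nat.card (V c) - 1) := by
  classical
  have := Fintype.ofFinite P
  have := Fintype.ofFinite W
  have e1 : {w : W // w ≠ 1} ≃ Σ d : P, {v : V d // v ≠ 1} := by
    refine Equiv.ofBijective (fun w => ⟨(H.cover w.1).choose, ⟨⟨w.1, (H.cover w.1).choose_spec⟩, fun h1 => w.2 (by
      simpa only [_root_.ne_eq, _root_.OneMemClass.coe_one] using congrArg Subtype.val h1)⟩⟩) ⟨?_, ?_⟩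
    · intro w w' hww
      have h1 := congrArg (fun s : (Σ d : P, {v : V d // v ≠ 1}) => ((s.2.1 : V s.1) : W)) hww
      exact Subtype.ext h1
    · rintro ⟨d, ⟨⟨v, hv⟩, hv1⟩⟩
      have hv1' : v ≠ 1 := fun h1 => hv1 (Subtype.ext h1)
      refine ⟨⟨v, hv1'⟩, ?_⟩
      have h2 : (H.cover v).choose = d := by
        by_contra h3
        exact hv1' (H.disj _ _ v h3 (H.cover v).choose_spec hv)
      generalize_proofs q1 q2 at *
      have key : ∀ (d' : P) (hd : d' = d) (q : v ∈ V d') (q' : (⟨v, q⟩ : V d') ≠ 1),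
          (⟨d', ⟨⟨v, q⟩, q'⟩⟩ : Σ d : P, {v : V d // v ≠ 1}) = ⟨d, ⟨⟨v, hv⟩, hv1⟩⟩ := by
        rintro d' rfl q q'
        rfl
      exact key _ h2 _ _
  have h2 := Nat.card_congr e1
  rw [Nat.card_sigma] at h2
  have h3 : ∀ d : P, Nat.card {v : V d // v ≠ 1} = Nat.card (V c) - 1 := by
    intro d
    have h4 : Nat.card {v : V d // v ≠ 1} = Nat.card (V d) - 1 := by
      have := Fintype.ofFinite (V d)
      rw [Nat.card_eq_fintype_card, Nat.card_eq_fintype_card, Fintype.card_subtype_compl, Fintype.card_subtype_eq]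
    rw [h4, H.card_V d c]
  simp_rw [h3] at h2
  rw [Finset.sum_const, Finset.card_univ, smul_eq_mul, ← Nat.card_eq_fintype_card] at h2
  rw [← h2]
  have := Fintype.ofFinite W
  rw [Nat.card_eq_fintype_card, Nat.card_eq_fintype_card, Fintype.card_subtype_compl, Fintype.card_subtype_eq]

theorem cards (c : P) : Nat.card (V c) = p ^ a ∧ Nat.card W = p ^ a * p ^ a := by
  have hp := (Fact.out : p.Prime)
  have hWp : IsPGroup p W := fun w => ⟨1, by rw [pow_one]; exact H.exp w⟩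
  obtain ⟨s, hs⟩ := IsPGroup.iff_card.1 hWp
  obtain ⟨b, hb⟩ := IsPGroup.iff_card.1 (hWp.to_subgroup (V c))
  have hb1 : 1 ≤ b := by
    by_contra h0
    have h0' : b = 0 := by omega
    rw [h0', pow_zero] at hb
    obtain ⟨v, hv, hv1⟩ := H.ne c
    rw [Subgroup.card_eq_one] at hb
    rw [hb] at hv
    exact hv1 (Subgroup.mem_bot.1 hv)
  have h1 := H.card_W c
  rw [H.card, hs, hb] at h1
  have h2 : 0 < p ^ s := pow_pos hp.pos s
  have h3 : 0 < p ^ b := pow_pos hp.pos b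
  have h4 : p ^ b * (p ^ a + 1) = p ^ a + p ^ s := by
    obtain ⟨k, hk⟩ : ∃ k, p ^ b = k + 1 := ⟨p ^ b - 1, by omega⟩
    rw [hk] at h1 ⊢
    rw [Nat.add_sub_cancel] at h1
    have : (k + 1) * (p ^ a + 1) = (p ^ a + 1) * k + (p ^ a + 1) := by ring
    omega
  obtain ⟨h5, h6⟩ := arith hp H.ha hb1 h4
  rw [hb, hs, ← h5, h6, two_mul, pow_add]
  exact ⟨rfl, rfl⟩

/-- an element fixing two points acts trivially -/
theorem triv {b : B} {c d : P} (hcd : c ≠ d) (hc : b • c = c) (hd : b • d = d) (w : W) : b • w = w := by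
  have hcomp : (V c).IsComplement' (V d) := by
    refine Subgroup.isComplement'_of_card_mul_and_disjoint ?_ ?_
    · rw [(H.cards c).1, (H.cards d).1, (H.cards c).2]
    · rw [Subgroup.disjoint_def]
      intro x hx hx'
      exact H.disj c d x hcd hx hx'
  obtain ⟨⟨x, y⟩, hxy⟩ := hcomp.2 w
  have hxy' : (x : W) * y = w := hxy
  rw [← hxy', smul_mul', H.cent b c x hc x.2, H.cent b d y hd y.2]

variable [Finite B] [FaithfulSMul B W]

theorem one_of_two {b : B} {c d : P} (hcd : c ≠ d) (hc : b • c = c) (hd : b • d = d) : b = 1 :=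
  FaithfulSMul.eq_of_smul_eq_smul (α := W) fun w => by rw [H.triv hcd hc hd w, one_smul]

theorem card_stab (c : P) : Nat.card (stabilizer B c) = p ^ a := by
  classical
  have := Fintype.ofFinite P
  obtain ⟨d, hd, -⟩ := H.exists_third c c
  have h1 : Nat.card (stabilizer B c) = Nat.card {e : P // e ≠ c} := by
    refine Nat.card_congr (Equiv.ofBijective (fun b => ⟨(b : B) • d, fun h2 => hd ?_⟩) ⟨?_, ?_⟩)
    · have h3 : (b : B) • d = (b : B) • c := by rw [h2, b.2]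
      exact smul_left_cancel _ h3
    · intro b b' hbb
      have h2 : (b : B) • d = (b' : B) • d := congrArg Subtype.val hbb
      have h3 : (b' : B)⁻¹ * b = 1 := by
        refine H.one_of_two hd ?_ ?_
        · rw [mul_smul, h2, inv_smul_smul]
        · have h4 : (b : B) • c = c := b.2
          have h5 : (b' : B) • c = c := b'.2
          have h6 : (b' : B)⁻¹ • c = c := (inv_mem b'.2 : (b' : B)⁻¹ ∈ stabilizer B c)
          rw [mul_smul, h4, h6]
      exact Subtype.ext (inv_mul_eq_one.1 h3).symm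
    · rintro ⟨e, he⟩
      obtain ⟨b, hb1, hb2⟩ := H.two c d e hd he
      exact ⟨⟨b, hb1⟩, Subtype.ext hb2⟩
  rw [h1, Nat.card_eq_fintype_card, Fintype.card_subtype_compl, Fintype.card_subtype_eq, ← Nat.card_eq_fintype_card,
    H.card]
  omega

theorem card_B : Nat.card B = (p ^ a + 1) * p ^ a := by
  have := Fintype.ofFinite P
  have hne : Nonempty P := by
    rw [← Finite.card_pos_iff, H.card]
    omega
  obtain ⟨c⟩ := hne
  have h1 := Nat.card_congr (orbitEquivQuotientStabilizer B c)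
  have h2 := Subgroup.card_eq_card_quotient_mul_card_subgroup (stabilizer B c)
  rw [H.card_stab, ← h1] at h2
  have h3 : orbit B c = Set.univ := Set.eq_univ_of_forall fun d => by
    obtain ⟨b, hb⟩ := H.trans c d
    exact ⟨b, hb⟩
  rw [h2, h3, Nat.card_congr (Equiv.Set.univ P), H.card]

/-- the fixed point free elements -/
def Fp (B P : Type*) [Group B] [MulAction B P] : Set B := {b | ∀ c : P, b • c ≠ c}

theorem card_Fp : Nat.card (Fp B P) = p ^ a := by
  classical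
  have := Fintype.ofFinite P
  have := Fintype.ofFinite B
  have hne : Nonempty P := by
    rw [← Finite.card_pos_iff, H.card]
    omega
  obtain ⟨c₀⟩ := hne
  -- nonidentity elements with a fixed point
  have e1 : {b : B // b ≠ 1 ∧ b ∉ Fp B P} ≃ Σ c : P, {b : stabilizer B c // b ≠ 1} := by
    have hex : ∀ b : {b : B // b ≠ 1 ∧ b ∉ Fp B P}, ∃ c : P, b.1 • c = c := by
      rintro ⟨b, hb1, hb2⟩
      unfold Fp at hb2
      simp only [Set.mem_ofPred_eq, ne_eq, not_forall, not_not] at hb2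
      exact hb2
    refine Equiv.ofBijective (fun b => ⟨(hex b).choose, ⟨⟨b.1, (hex b).choose_spec⟩, fun h1 => b.2.1 (by
      simpa only [_root_.ne_eq, _root_.OneMemClass.coe_one] using congrArg Subtype.val h1)⟩⟩) ⟨?_, ?_⟩
    · intro w w' hww
      have h1 := congrArg (fun s : (Σ d : P, {b : stabilizer B d // b ≠ 1}) => ((s.2.1 : stabilizer B s.1) : B)) hww
      exact Subtype.ext h1
    · rintro ⟨d, ⟨⟨v, hv⟩, hv1⟩⟩
      have hv1' : v ≠ 1 := fun h1 => hv1 (Subtype.ext h1)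
      have hv' : v • d = d := hv
      refine ⟨⟨v, hv1', fun h2 => h2 d hv'⟩, ?_⟩
      have h2 : (hex ⟨v, hv1', fun h2 => h2 d hv'⟩).choose = d := by
        by_contra h3
        exact hv1' (H.one_of_two h3 (hex ⟨v, hv1', fun h2 => h2 d hv'⟩).choose_spec hv')
      have key : ∀ (d' : P) (_ : d' = d) (q : v ∈ stabilizer B d') (q' : (⟨v, q⟩ : stabilizer B d') ≠ 1),
          (⟨d', ⟨⟨v, q⟩, q'⟩⟩ : Σ d : P, {v : stabilizer B d // v ≠ 1}) = ⟨d, ⟨⟨v, hv⟩, hv1⟩⟩ := by
        rintro d' rfl q q'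
        rfl
      exact key _ h2 _ _
  have h2 := Nat.card_congr e1
  rw [Nat.card_sigma] at h2
  have h3 : ∀ d : P, Nat.card {v : stabilizer B d // v ≠ 1} = p ^ a - 1 := by
    intro d
    have := Fintype.ofFinite (stabilizer B d)
    rw [Nat.card_eq_fintype_card, Fintype.card_subtype_compl, Fintype.card_subtype_eq, ← Nat.card_eq_fintype_card,
      H.card_stab]
  simp_rw [h3] at h2
  rw [Finset.sum_const, Finset.card_univ, smul_eq_mul, ← Nat.card_eq_fintype_card, H.card] at h2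
  have h1F : (1 : B) ∉ Fp B P := fun h4 => h4 c₀ (one_smul _ _)
  have h4 : Nat.card B = Nat.card (Fp B P) + Nat.card {b : B // b ≠ 1 ∧ b ∉ Fp B P} + 1 := by
    rw [Nat.card_eq_fintype_card, Nat.card_eq_fintype_card, Nat.card_eq_fintype_card]
    have h5 : (Finset.univ : Finset B) = insert 1 ((Finset.univ.filter (· ∈ Fp B P)) ∪
        (Finset.univ.filter (fun b : B => b ≠ 1 ∧ b ∉ Fp B P))) := by
      ext b
      simp only [Finset.mem_univ, Finset.mem_insert, Finset.mem_union, Finset.mem_filter, true_and, true_iff]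
      tauto
    rw [← Finset.card_univ, h5, Finset.card_insert_of_notMem, Finset.card_union_of_disjoint]
    · rw [Fintype.card_subtype, Fintype.card_subtype]
    · rw [Finset.disjoint_filter]
      intro b _ h6 h7
      exact h7.2 h6
    · simp only [Finset.mem_union, Finset.mem_filter, Finset.mem_univ, true_and, not_or]
      exact ⟨h1F, fun h6 => h6.1 rfl⟩
  rw [h2, H.card_B] at h4
  obtain ⟨k, hk⟩ : ∃ k, p ^ a = k + 1 := ⟨p ^ a - 1, by have := H.q_two; omega⟩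
  rw [hk, Nat.add_sub_cancel] at h4
  rw [hk]
  have : (k + 1 + 1) * (k + 1) = (k + 1 + 1) * k + (k + 1 + 1) := by ring
  omega

/-- the stabiliser of `c` is transitive on the fixed point free elements -/
theorem conj_Fp (c : P) {e f : B} (he : e ∈ Fp B P) (hf : f ∈ Fp B P) :
    ∃ x ∈ stabilizer B c, x * e * x⁻¹ = f := by
  classical
  have hF : ∀ x : B, x * e * x⁻¹ ∈ Fp B P := by
    intro x d h1
    apply he (x⁻¹ • d)
    have h2 : x⁻¹ • (x * e * x⁻¹) • d = x⁻¹ • d := by rw [h1]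
    rwa [mul_smul, mul_smul, inv_smul_smul] at h2
  let φ : stabilizer B c → Fp B P := fun x => ⟨x * e * (x : B)⁻¹, hF x⟩
  have hinj : Function.Injective φ := by
    intro x y hxy
    have h1 : (x : B) * e * (x : B)⁻¹ = y * e * (y : B)⁻¹ := congrArg Subtype.val hxy
    have hz : ((y : B)⁻¹ * x) * e = e * ((y : B)⁻¹ * x) := by
      have h2 : (y : B)⁻¹ * (x * e * (x : B)⁻¹) * x = (y : B)⁻¹ * (y * e * (y : B)⁻¹) * x := by rw [h1]
      simpa only [mul_assoc, _root_.inv_mul_cancel, _root_.mul_one, _root_.inv_mul_cancel_left] using h2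
    have hzc : ((y : B)⁻¹ * x) • c = c := (mul_mem (inv_mem y.2) x.2 : (y : B)⁻¹ * x ∈ stabilizer B c)
    have h3 : (y : B)⁻¹ * x = 1 := by
      refine H.one_of_two (Ne.symm (he c)) hzc ?_
      rw [← mul_smul, hz, mul_smul, hzc]
    exact Subtype.ext (inv_mul_eq_one.1 h3).symm
  have hbij : Function.Bijective φ := by
    have := Fintype.ofFinite B
    have := Fintype.ofFinite (stabilizer B c)
    have := Fintype.ofFinite (Fp B P)
    rw [Fintype.bijective_iff_injective_and_card]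
    refine ⟨hinj, ?_⟩
    rw [← Nat.card_eq_fintype_card, ← Nat.card_eq_fintype_card, H.card_stab, H.card_Fp]
  obtain ⟨x, hx⟩ := hbij.2 ⟨f, hf⟩
  exact ⟨x, x.2, congrArg Subtype.val hx⟩

theorem fix_eq {y : B} (hy : y ≠ 1) {c : P} (hc : y • c = c) {w : W} (hw : y • w = w) : w ∈ V c := by
  by_cases h1 : w = 1
  · rw [h1]; exact one_mem _
  obtain ⟨d, hd⟩ := H.cover w
  have h2 := H.eqv y d w hd
  rw [hw] at h2
  by_cases h3 : d = c
  · rwa [h3] at hd
  have h4 : y • d = d := by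
    by_contra h4
    exact h1 (H.disj _ _ w h4 h2 hd)
  exact absurd (H.one_of_two h3 h4 hc) hy

theorem fpf {e : B} (he : e ∈ Fp B P) {w : W} (hw : e • w = w) : w = 1 := by
  by_contra h1
  obtain ⟨d, hd⟩ := H.cover w
  have h2 := H.eqv e d w hd
  rw [hw] at h2
  exact h1 (H.disj _ _ w (he d) h2 hd)

/-- the Frobenius kernel: `p ^ a + 1` is a prime `r` -/
theorem prime_q : ∃ E : Subgroup B, (Nat.card E = p ^ a + 1) ∧ (Nat.card E).Prime ∧ E.Normal ∧
    ∀ e ∈ E, e ≠ 1 → e ∈ Fp B P := by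
  classical
  have hp := (Fact.out : p.Prime)
  have hne : Nonempty P := by
    rw [← Finite.card_pos_iff, H.card]
    omega
  obtain ⟨c₀⟩ := hne
  have hq2 := H.q_two
  -- an element of prime order `r`, `r ≠ p`, is fixed point free
  have hFp : ∀ (r : ℕ), r.Prime → r ≠ p → ∀ (k : ℕ) (e : B), orderOf e = r ^ k → e ≠ 1 → e ∈ Fp B P := by
    intro r hr hrp k e he he1 c hc
    have h1 : e ∈ stabilizer B c := hc
    have h2 : orderOf e ∣ p ^ a := by
      rw [← H.card_stab c, ← Subgroup.orderOf_mk e h1]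
      exact orderOf_dvd_natCard _
    have h3 : (r ^ k).Coprime (p ^ a) := Nat.Coprime.pow _ _ ((Nat.coprime_primes hr hp).2 hrp)
    rw [he] at h2
    have h4 := Nat.Coprime.eq_one_of_dvd h3 h2
    rw [h4] at he
    exact he1 (orderOf_eq_one_iff.1 he)
  have hnp : ∀ r : ℕ, r.Prime → r ∣ p ^ a + 1 → r ≠ p := by
    rintro r hr h1 rfl
    have h2 : r ∣ r ^ a := dvd_pow_self r (by have := H.ha; omega)
    exact hr.one_lt.ne' (Nat.dvd_one.1 ((Nat.dvd_add_right h2).1 h1))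
  obtain ⟨r, hr, hrq⟩ := Nat.exists_prime_and_dvd (show p ^ a + 1 ≠ 1 by omega)
  have : Fact r.Prime := ⟨hr⟩
  have hex : ∀ s : ℕ, s.Prime → s ∣ p ^ a + 1 → ∃ e ∈ Fp B P, orderOf e = s := by
    intro s hs hsq
    have : Fact s.Prime := ⟨hs⟩
    obtain ⟨e, he⟩ := exists_prime_orderOf_dvd_card' (G := B) s (by rw [H.card_B]; exact Dvd.dvd.mul_right hsq _)
    refine ⟨e, hFp s hs (hnp s hs hsq) 1 e (by rw [he, pow_one]) ?_, he⟩
    rintro rfl
    rw [orderOf_one] at he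
    exact hs.one_lt.ne he
  obtain ⟨e₀, he₀, hre₀⟩ := hex r hr hrq
  have hall : ∀ f ∈ Fp B P, orderOf f = r := by
    intro f hf
    obtain ⟨x, -, hx⟩ := H.conj_Fp c₀ he₀ hf
    rw [← hx, ← hre₀]
    exact orderOf_injective (MulAut.conj x).toMonoidHom (MulAut.conj x).injective e₀
  have huniq : ∀ s : ℕ, s.Prime → s ∣ p ^ a + 1 → s = r := by
    intro s hs hsq
    obtain ⟨f, hf, hf2⟩ := hex s hs hsq
    rw [← hf2, hall f hf]
  have hpow : p ^ a + 1 = r ^ (p ^ a + 1).factorization r := by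
    have h1 : p ^ a + 1 = r ^ (p ^ a + 1).primeFactorsList.length :=
      Nat.eq_prime_pow_of_unique_prime_dvd (by omega) (fun {d} hd hdq => huniq d hd hdq)
    set l := (p ^ a + 1).primeFactorsList.length with hl
    rw [h1, hr.factorization_pow, Finsupp.single_eq_same]
  -- the Sylow `r`-subgroup
  obtain ⟨S⟩ : Nonempty (Sylow r B) := inferInstance
  have hrp := hnp r hr hrq
  have hcS : Nat.card S = p ^ a + 1 := by
    rw [Sylow.card_eq_multiplicity, H.card_B, Nat.factorization_mul (by omega) (by positivity), Finsupp.add_apply]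
    have h1 : (p ^ a).factorization r = 0 := by
      rw [Nat.factorization_eq_zero_iff]
      right; left
      intro h2
      exact hrp ((Nat.prime_dvd_prime_iff_eq hr hp).1 (hr.dvd_of_dvd_pow h2))
    rw [h1, add_zero, ← hpow]
  have hSF : ∀ e ∈ (S : Subgroup B), e ≠ 1 → e ∈ Fp B P := by
    intro e he he1
    obtain ⟨k, hk⟩ := (IsPGroup.iff_orderOf.1 S.isPGroup') ⟨e, he⟩
    rw [Subgroup.orderOf_mk] at hk
    exact hFp r hr hrp k e hk he1
  have hFS : ∀ f ∈ Fp B P, f ∈ (S : Subgroup B) := by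
    -- cardinality
    have h1 : {e : B | e ∈ (S : Subgroup B) ∧ e ≠ 1} ⊆ Fp B P := fun e he => hSF e he.1 he.2
    have h2 : {e : B | e ∈ (S : Subgroup B) ∧ e ≠ 1} = Fp B P := by
      refine Set.eq_of_subset_of_ncard_le h1 ?_ (Set.toFinite _)
      have h3 : (Fp B P).ncard = p ^ a := by
        rw [← Nat.card_coe_set_eq]
        exact H.card_Fp
      have h4 : ((S : Subgroup B) : Set B).ncard = p ^ a + 1 := by
        rw [← Nat.card_coe_set_eq]
        exact hcS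
      have h5 : {e : B | e ∈ (S : Subgroup B) ∧ e ≠ 1} = ((S : Subgroup B) : Set B) \ {1} :=
        Set.ext fun e => Iff.rfl
      rw [h3, h5, Set.ncard_sdiff_singleton_of_mem (one_mem _), h4]
      omega
    intro f hf
    rw [← h2] at hf
    exact hf.1
  have hnorm : (S : Subgroup B).Normal := by
    constructor
    intro e he g
    by_cases h1 : e = 1
    · rw [h1]; simp [one_mem]
    · apply hFS
      intro d h2
      apply hSF e he h1 (g⁻¹ • d)
      have h3 : g⁻¹ • (g * e * g⁻¹) • d = g⁻¹ • d := by rw [h2]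
      rwa [mul_smul, mul_smul, inv_smul_smul] at h3
  have hSnt : Nontrivial (S : Subgroup B) := by
    rw [← Finite.one_lt_card_iff_nontrivial]
    have : Nat.card (S : Subgroup B) = p ^ a + 1 := hcS
    omega
  -- commutative
  have hcomm : ∀ x y : (S : Subgroup B), x * y = y * x := by
    haveI := S.isPGroup'.center_nontrivial
    obtain ⟨z, hz⟩ := exists_ne (1 : Subgroup.center (S : Subgroup B))
    have hz1 : ((z : (S : Subgroup B)) : B) ≠ 1 := fun h1 => hz (Subtype.ext (Subtype.ext h1))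
    have hzF := hSF _ (z : (S : Subgroup B)).2 hz1
    intro x y
    by_cases hx1 : (x : B) = 1
    · have : x = 1 := Subtype.ext hx1
      rw [this, one_mul, mul_one]
    obtain ⟨g, -, hg⟩ := H.conj_Fp c₀ hzF (hSF x x.2 hx1)
    have h1 : g⁻¹ * y * g ∈ (S : Subgroup B) := by
      have := hnorm.conj_mem y y.2 g⁻¹
      rwa [inv_inv] at this
    have h2 := Subgroup.mem_center_iff.1 z.2 ⟨_, h1⟩
    have h3 : g⁻¹ * y * g * ((z : (S : Subgroup B)) : B) = ((z : (S : Subgroup B)) : B) * (g⁻¹ * y * g) :=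
      congrArg Subtype.val h2
    apply Subtype.ext
    show (x : B) * y = y * x
    rw [← hg]
    have h4 : g * (g⁻¹ * y * g * ((z : (S : Subgroup B)) : B)) * g⁻¹ =
      g * (((z : (S : Subgroup B)) : B) * (g⁻¹ * y * g)) * g⁻¹ := by rw [h3]
    simpa only [mul_assoc, _root_.mul_inv_cancel, _root_.mul_one, _root_.mul_inv_cancel_left] using h4.symm
  -- cyclic
  have hcyc : IsCyclic (S : Subgroup B) := by
    haveI : Nontrivial W := by
      obtain ⟨v, -, hv⟩ := H.ne c₀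
      exact ⟨v, 1, hv⟩
    refine Solvable.FixedPointFree.isCyclic_of_comm' hcomm
      ((MulDistribMulAction.toMulAut B W).comp (S : Subgroup B).subtype) ?_
    intro x hx v hv
    exact H.fpf (hSF x x.2 fun h1 => hx (Subtype.ext h1)) hv
  have hcard : Nat.card S = r := by
    obtain ⟨g, hg⟩ := hcyc.exists_generator
    have h1 : orderOf g = Nat.card (S : Subgroup B) := orderOf_eq_card_of_forall_mem_zpowers hg
    have hg1 : (g : B) ≠ 1 := by
      intro h2
      have h3 : g = 1 := Subtype.ext h2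
      rw [h3, orderOf_one] at h1
      have : Nat.card (S : Subgroup B) = p ^ a + 1 := hcS
      omega
    have h2 := hall _ (hSF g g.2 hg1)
    rw [Subgroup.orderOf_coe] at h2
    show Nat.card (S : Subgroup B) = r
    rw [← h1, h2]
  exact ⟨S, hcS, by rw [show Nat.card (S : Subgroup B) = r from hcard]; exact hr, hnorm, hSF⟩

theorem main : p = 2 ∧ a = 1 := by
  classical
  have hp := (Fact.out : p.Prime)
  have hne : Nonempty P := by
    rw [← Finite.card_pos_iff, H.card]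
    omega
  obtain ⟨c⟩ := hne
  obtain ⟨E, hE1, hE2, hE3, hE4⟩ := H.prime_q
  have ha := H.ha
  have hq2 := H.q_two
  have hp2 : p = 2 := by
    rcases hp.eq_two_or_odd' with h1 | h1
    · exact h1
    · exfalso
      rw [hE1] at hE2
      have h2 : Even (p ^ a + 1) := (h1.pow).add_one
      have h3 := (Nat.Prime.even_iff hE2).1 h2
      omega
  refine ⟨hp2, ?_⟩
  by_contra ha1
  have ha2 : 2 ≤ a := by omega
  -- the stabiliser is cyclic
  haveI : Fact (Nat.card E).Prime := ⟨hE2⟩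
  have hEc : IsCyclic E := isCyclic_of_prime_card rfl
  have hEnt : Nontrivial E := by
    rw [← Finite.one_lt_card_iff_nontrivial]
    exact hE2.one_lt
  obtain ⟨e, he⟩ := exists_ne (1 : E)
  have heF : (e : B) ∈ Fp B P := hE4 e e.2 fun h1 => he (Subtype.ext h1)
  have hcyc : IsCyclic (stabilizer B c) := by
    haveI := hE3
    let ψ : stabilizer B c →* MulAut E := (MulAut.conjNormal (H := E)).comp (stabilizer B c).subtype
    have hinj : Function.Injective ψ := by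
      rw [injective_iff_map_eq_one]
      intro x hx
      have h1 : ψ x e = e := by rw [hx]; rfl
      have h2 : (x : B) * e * (x : B)⁻¹ = e := by
        have := congrArg Subtype.val h1
        simpa only [ψ, MulAut.conjNormal_apply, _root_.MonoidHom.coe_comp, _root_.Subgroup.coe_subtype, _root_.Function.comp_apply] using this
      have h3 : (x : B) * e = e * x := mul_inv_eq_iff_eq_mul.1 h2
      have hxc : (x : B) • c = c := x.2
      apply Subtype.ext
      refine H.one_of_two (Ne.symm (heF c)) hxc ?_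
      rw [← mul_smul, h3, mul_smul, hxc]
    haveI : IsCyclic (MulAut E) := by
      haveI : IsCyclic (ZMod (Nat.card E))ˣ := ZMod.isCyclic_units_prime hE2
      exact isCyclic_of_injective (IsCyclic.mulAutMulEquiv E).toMonoidHom (IsCyclic.mulAutMulEquiv E).injective
    exact isCyclic_of_injective ψ hinj
  obtain ⟨g, hg⟩ := hcyc.exists_generator
  have hog : orderOf g = 2 ^ a := by
    rw [orderOf_eq_card_of_forall_mem_zpowers hg, H.card_stab, hp2]
  set y : B := (g : B) with hy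
  have hoy : orderOf y = 2 ^ a := by rw [hy, Subgroup.orderOf_coe, hog]
  have hyc : y • c = c := g.2
  have hy1 : y ≠ 1 := by
    intro h1
    rw [h1, orderOf_one] at hoy
    have : 2 ^ a > 1 := Nat.one_lt_two_pow (by omega)
    omega
  have hy2 : y ^ 2 ≠ 1 := by
    intro h1
    have h2 := orderOf_dvd_of_pow_eq_one h1
    rw [hoy] at h2
    have h3 := Nat.le_of_dvd (by norm_num) h2
    have : 2 ^ 2 ≤ 2 ^ a := Nat.pow_le_pow_right (by norm_num) ha2
    omega
  have hy2c : y ^ 2 • c = c := by rw [pow_two, mul_smul, hyc, hyc]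
  have hexp : ∀ w : W, w * w = 1 := fun w => by
    have := H.exp w
    rwa [hp2, pow_two] at this
  have hsq : ∀ (z : B) (w : W), z • (z • w * w⁻¹) * (z • w * w⁻¹)⁻¹ = (z ^ 2) • w * w⁻¹ := by
    intro z w
    have h1 : (z • w)⁻¹ = z • w := inv_eq_of_mul_eq_one_left (hexp _)
    have h2 : w⁻¹ = w := inv_eq_of_mul_eq_one_left (hexp _)
    rw [mul_inv, inv_inv, h1, h2, smul_mul', pow_two, mul_smul]
    have h3 : z • z • w * z • w * (z • w * w) = z • z • w * (z • w * z • w) * w := by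
      simp only [mul_assoc]
    rw [h3, hexp, mul_one]
  let D : W → W := fun w => y • w * w⁻¹
  have hD2 : ∀ w, D (D w) = 1 → D w = 1 := by
    intro w hw
    have h1 : (y ^ 2) • w * w⁻¹ = 1 := by rw [← hsq y w]; exact hw
    have h2 : y ^ 2 • w = w := mul_inv_eq_one.1 h1
    have h3 := H.fix_eq hy2 hy2c h2
    exact mul_inv_eq_one.2 (H.cent y c w hyc h3)
  have hDn : ∀ (n : ℕ) (w : W), D^[n + 1] w = 1 → D w = 1 := by
    intro n
    induction n with
    | zero => intro w hw; exact hw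
    | succ n ih =>
      intro w hw
      apply ih
      rw [Function.iterate_succ_apply' D (n + 1) w, Function.iterate_succ_apply' D n w] at hw
      rw [Function.iterate_succ_apply' D n w]
      exact hD2 _ hw
  have hDp : ∀ (k : ℕ) (w : W), D^[2 ^ k] w = (y ^ 2 ^ k) • w * w⁻¹ := by
    intro k
    induction k with
    | zero => intro w; simp [D]
    | succ k ih =>
      intro w
      have h1 : 2 ^ (k + 1) = 2 ^ k + 2 ^ k := by ring
      rw [h1, Function.iterate_add_apply, ih w, ih, hsq, ← pow_mul, ← h1, pow_succ]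
  have htriv : ∀ w : W, w ∈ V c := by
    intro w
    have h1 : D^[2 ^ a] w = 1 := by
      rw [hDp, ← hoy, pow_orderOf_eq_one, one_smul, mul_inv_cancel]
    obtain ⟨m, hm⟩ : ∃ m, 2 ^ a = m + 1 := ⟨2 ^ a - 1, by have := Nat.one_le_two_pow (n := a); omega⟩
    rw [hm] at h1
    exact H.fix_eq hy1 hyc (mul_inv_eq_one.1 (hDn m w h1))
  obtain ⟨d, hd, -⟩ := H.exists_third c c
  obtain ⟨v, hv, hv1⟩ := H.ne d
  exact hv1 (H.disj d c v hd hv (htriv v))

end Pan

/-- **the panel lemma** -/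
theorem panel {p a : ℕ} [Fact p.Prime] {A W P : Type*} [Group A] [CommGroup W] [Finite W] [Finite P]
    (ρ : A →* MulAut W) (σ : A →* Equiv.Perm P) (V : P → Subgroup W) (hexp : ∀ w : W, w ^ p = 1) (ha : 1 ≤ a)
    (hcard : Nat.card P = p ^ a + 1) (eqv : ∀ (g : A) (c : P) (v : W), v ∈ V c → ρ g v ∈ V (σ g c))
    (cent : ∀ (g : A) (c : P) (v : W), σ g c = c → v ∈ V c → ρ g v = v) (cover : ∀ w : W, ∃ c, w ∈ V c)
    (disj : ∀ (c d : P) (w : W), c ≠ d → w ∈ V c → w ∈ V d → w = 1) (ne : ∀ c, ∃ v ∈ V c, v ≠ 1)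
    (two : ∀ c d d' : P, d ≠ c → d' ≠ c → ∃ g : A, σ g c = c ∧ σ g d = d') :
    p = 2 ∧ a = 1 ∧ Nat.card W = 4 ∧ ∀ c, Nat.card (V c) = 2 := by
  classical
  have hK : ρ.ker ≤ σ.ker := by
    intro g hg
    rw [MonoidHom.mem_ker] at hg ⊢
    ext c
    obtain ⟨v, hv, hv1⟩ := ne c
    have h1 := eqv g c v hv
    rw [hg] at h1
    by_contra h2
    exact hv1 (disj _ _ v h2 h1 hv)
  let ρ' : A ⧸ ρ.ker →* MulAut W := QuotientGroup.kerLift ρ
  let σ' : A ⧸ ρ.ker →* Equiv.Perm P := QuotientGroup.lift ρ.ker σ hK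
  letI i1 : MulAction (A ⧸ ρ.ker) P := MulAction.compHom P σ'
  letI i2 : MulDistribMulAction (A ⧸ ρ.ker) W := MulDistribMulAction.compHom W ρ'
  have e1 : ∀ (g : A) (c : P), (QuotientGroup.mk g : A ⧸ ρ.ker) • c = σ g c := fun _ _ => rfl
  have e2 : ∀ (g : A) (v : W), (QuotientGroup.mk g : A ⧸ ρ.ker) • v = ρ g v := fun _ _ => rfl
  have hfin : Finite (A ⧸ ρ.ker) := Finite.of_injective ρ' (QuotientGroup.kerLift_injective ρ)
  have hfaith : FaithfulSMul (A ⧸ ρ.ker) W := ⟨fun {x y} hxy => QuotientGroup.kerLift_injective ρ (by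
    ext v
    exact hxy v)⟩
  have H : Pan p a (A ⧸ ρ.ker) W P V :=
    { exp := hexp
      ha := ha
      card := hcard
      eqv := by
        rintro ⟨g⟩ c v hv
        exact eqv g c v hv
      cent := by
        rintro ⟨g⟩ c v hc hv
        exact cent g c v hc hv
      cover := cover
      disj := disj
      ne := ne
      two := by
        intro c d d' h1 h2
        obtain ⟨g, hg⟩ := two c d d' h1 h2
        exact ⟨QuotientGroup.mk g, hg⟩ }
  obtain ⟨h1, h2⟩ := H.main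
  have hne : Nonempty P := by
    rw [← Finite.card_pos_iff, hcard]
    omega
  refine ⟨h1, h2, ?_, fun c => ?_⟩
  · obtain ⟨c⟩ := hne
    rw [(H.cards c).2, h1, h2]
    norm_num
  · rw [(H.cards c).1, h1, h2]
    norm_num

end Cfsg.Agent.H470.EPO
end

-- part: H284/EPO/PanelEnd
section
/-!
# The end of case (B): the panel lemma applied to a residue (helper284)

A residue of the chamber set `P/(P ∩ M)` is given by `Pj ≤ P` and `Vj ≤ P` with
`Vj ≤ g M g⁻¹ ↔ g ∈ Pj M` for `g ∈ P` (typically `Pj` a parabolic, `Vj = O_p(Pj)`).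
-/

set_option autoImplicit false
set_option linter.unusedSectionVars false

namespace Cfsg.Agent.H284

open MulAction Subgroup

variable {G : Type*} [Group G]

namespace PanelB

variable {H R P D M W : Subgroup G} {p : ℕ} (c : PanelB H R P D M p) (v : VecB H P D W p)

include c

theorem chamber_congr [Finite G] {g k : G} (hg : g ∈ P) (hk : k ∈ P) (h : g⁻¹ * k ∈ M) :
    v.fix c.Dn (cj g R) = v.fix c.Dn (cj k R) := by
  rw [← c.fix_M v hg, (c.cj_M_eq_iff hg hk).2 h, c.fix_M v hk]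

/-- **the panel lemma for a residue** -/
theorem panel_end [Finite G] (hW : W ≠ D) {Pj Vj : Subgroup G} (hPj : Pj ≤ P) (hVj : Vj ≤ P)
    (hV : ∀ g ∈ P, Vj ≤ cj g M ↔ ∃ h ∈ Pj, h⁻¹ * g ∈ M) {a : ℕ} (ha : 1 ≤ a) (hidx : M.relIndex Pj = p ^ a + 1)
    (two : ∀ g ∈ Pj, ∀ k ∈ Pj, g ∉ M → k ∉ M → ∃ m ∈ Pj ⊓ M, k⁻¹ * (m * g) ∈ M) :
    p = 2 ∧ a = 1 ∧ Nat.card (v.fix c.Dn Vj) = 4 ∧ Nat.card (v.fix c.Dn R) = 2 := by
  classical
  have := Fact.mk c.hp
  have hmemV : ∀ x : v.Vec, x ∈ v.fix c.Dn Vj → x ≠ 1 → ∃ g ∈ Pj, x ∈ v.fix c.Dn (cj g R) := by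
    intro x hx hx1
    obtain ⟨g, hg, hxg⟩ := c.exists_chamber v x
    obtain ⟨h, hh, hhg⟩ := (hV g hg).1 ((c.mem_fix_iff_chamber v hVj hg hx1 hxg).1 hx)
    exact ⟨h, hh, by rw [c.chamber_congr v (hPj hh) hg hhg]; exact hxg⟩
  have hVmem : ∀ g ∈ Pj, v.fix c.Dn (cj g R) ≤ v.fix c.Dn Vj := by
    intro g hg x hx
    by_cases hx1 : x = 1
    · rw [hx1]; exact one_mem _
    · exact (c.mem_fix_iff_chamber v hVj (hPj hg) hx1 hx).2
        ((hV g (hPj hg)).2 ⟨g, hg, by rw [inv_mul_cancel]; exact one_mem _⟩)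
  have hact : ∀ k : Pj, ∀ x : v.Vec, x ∈ v.fix c.Dn Vj → v.act c.Dn ⟨k, hPj k.2⟩ x ∈ v.fix c.Dn Vj := by
    intro k x hx
    by_cases hx1 : x = 1
    · rw [hx1, map_one]; exact one_mem _
    · obtain ⟨g, hg, hxg⟩ := hmemV x hx hx1
      have h1 := (v.act_mem_fix c.Dn (⟨k, hPj k.2⟩ : P)).2 hxg
      have h2 : cj ((⟨k, hPj k.2⟩ : P) : G) (cj g R) = cj ((k : G) * g) R := by rw [cj_mul]
      rw [h2] at h1
      exact hVmem _ (Pj.mul_mem k.2 hg) h1
  let ρ₀ : Pj → v.fix c.Dn Vj →* v.fix c.Dn Vj := fun k =>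
    { toFun := fun x => ⟨v.act c.Dn ⟨k, hPj k.2⟩ x, hact k x.1 x.2⟩
      map_one' := Subtype.ext (map_one _)
      map_mul' := fun x y => Subtype.ext (map_mul _ _ _) }
  have hρ₀ : ∀ (k : Pj) (x : v.fix c.Dn Vj), ((ρ₀ k x : v.fix c.Dn Vj) : v.Vec) = v.act c.Dn ⟨k, hPj k.2⟩ x :=
    fun _ _ => rfl
  have hρmul : ∀ (k l : Pj) (x : v.fix c.Dn Vj), ρ₀ (k * l) x = ρ₀ k (ρ₀ l x) := by
    intro k l x
    apply Subtype.ext
    rw [hρ₀, hρ₀, hρ₀, ← MulAut.mul_apply, ← map_mul]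
    rfl
  have hρone : ∀ x : v.fix c.Dn Vj, ρ₀ 1 x = x := by
    intro x
    apply Subtype.ext
    rw [hρ₀]
    have e : (⟨((1 : Pj) : G), hPj (1 : Pj).2⟩ : P) = 1 := rfl
    rw [e, map_one, MulAut.one_apply]
  let ρ : Pj →* MulAut (v.fix c.Dn Vj) :=
    { toFun := fun k =>
        { ρ₀ k with
          invFun := ρ₀ k⁻¹
          left_inv := fun x => by
            show ρ₀ k⁻¹ (ρ₀ k x) = x
            rw [← hρmul, inv_mul_cancel, hρone]
          right_inv := fun x => by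
            show ρ₀ k (ρ₀ k⁻¹ x) = x
            rw [← hρmul, mul_inv_cancel, hρone] }
      map_one' := MulEquiv.ext hρone
      map_mul' := fun k l => MulEquiv.ext (hρmul k l) }
  have hρ : ∀ (k : Pj) (x : v.fix c.Dn Vj), ((ρ k x : v.fix c.Dn Vj) : v.Vec) = v.act c.Dn ⟨k, hPj k.2⟩ x :=
    fun _ _ => rfl
  let V : (Pj ⧸ M.subgroupOf Pj) → Subgroup (v.fix c.Dn Vj) :=
    fun q => (v.fix c.Dn (cj (q.out : G) R)).subgroupOf (v.fix c.Dn Vj)
  have hVq : ∀ (q : Pj ⧸ M.subgroupOf Pj) (x : v.fix c.Dn Vj), x ∈ V q ↔ (x : v.Vec) ∈ v.fix c.Dn (cj (q.out : G) R) :=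
    fun _ _ => Iff.rfl
  have hmk : ∀ (g : Pj) (x : v.fix c.Dn Vj), x ∈ V (QuotientGroup.mk g) ↔ (x : v.Vec) ∈ v.fix c.Dn (cj (g : G) R) := by
    intro g x
    rw [hVq]
    have h2 : (QuotientGroup.mk (QuotientGroup.mk g : Pj ⧸ M.subgroupOf Pj).out : Pj ⧸ M.subgroupOf Pj) =
        QuotientGroup.mk g := QuotientGroup.out_eq' _
    have h3 := QuotientGroup.eq.1 h2
    rw [c.chamber_congr v (hPj (Subtype.property _)) (hPj g.2) h3]
  have key := Cfsg.Agent.H470.EPO.panel (p := p) (a := a) ρ (MulAction.toPermHom Pj (Pj ⧸ M.subgroupOf Pj)) V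
    (fun x => Subtype.ext (by
      rw [Subgroup.coe_pow]
      exact v.pow_eq_one _)) ha hidx ?_ ?_ ?_ ?_ ?_ ?_
  · obtain ⟨h1, h2, h3, h4⟩ := key
    refine ⟨h1, h2, h3, ?_⟩
    have h5 := h4 (QuotientGroup.mk 1)
    rw [← h5]
    apply Nat.card_congr
    refine Equiv.ofBijective (fun x => ⟨⟨x.1, ?_⟩, ?_⟩) ⟨?_, ?_⟩
    · have := hVmem 1 (one_mem _)
      rw [cj_one] at this
      exact this x.2
    · rw [hmk]
      show x.1 ∈ v.fix c.Dn (cj ((1 : Pj) : G) R)
      rw [Subgroup.coe_one, cj_one]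
      exact x.2
    · intro x y h6
      exact Subtype.ext (congrArg (fun z : V (QuotientGroup.mk 1) => ((z.1 : v.fix c.Dn Vj) : v.Vec)) h6)
    · rintro ⟨⟨y, hy⟩, hy'⟩
      rw [hmk] at hy'
      have hy2 : y ∈ v.fix c.Dn (cj ((1 : Pj) : G) R) := hy'
      rw [Subgroup.coe_one, cj_one] at hy2
      exact ⟨⟨y, hy2⟩, rfl⟩
  · intro g q x hx
    have e : (MulAction.toPermHom Pj (Pj ⧸ M.subgroupOf Pj)) g q = QuotientGroup.mk (g * q.out) := by
      show g • q = _
      conv_lhs => rw [← q.out_eq']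
      rfl
    rw [e, hmk, hρ]
    have h1 := (v.act_mem_fix c.Dn (⟨g, hPj g.2⟩ : P)).2 ((hVq _ _).1 hx)
    have h2 : cj ((⟨g, hPj g.2⟩ : P) : G) (cj (q.out : G) R) = cj ((g * q.out : Pj) : G) R := by
      rw [Subgroup.coe_mul, cj_mul]
    rw [h2] at h1
    exact h1
  · intro g q x hgq hx
    apply Subtype.ext
    rw [hρ]
    have h1 := (hVq _ _).1 hx
    rw [← c.fix_M v (hPj q.out.2)] at h1
    apply h1
    show (g : G) ∈ cj (q.out : G) M
    have h2 : g • q = q := hgq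
    have h3 : (QuotientGroup.mk (g * q.out) : Pj ⧸ M.subgroupOf Pj) = QuotientGroup.mk q.out := by
      have h5 : g • (QuotientGroup.mk q.out : Pj ⧸ M.subgroupOf Pj) = QuotientGroup.mk q.out := by
        rw [QuotientGroup.out_eq']
        exact h2
      exact h5
    have h6 := QuotientGroup.eq.1 h3.symm
    have h4 : ((q.out : Pj) : G)⁻¹ * ((g * q.out : Pj) : G) ∈ M := h6
    rw [mem_cj]
    rw [Subgroup.coe_mul, ← mul_assoc] at h4
    exact h4
  · intro x
    by_cases hx1 : x = 1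
    · exact ⟨QuotientGroup.mk 1, by rw [hx1]; exact one_mem _⟩
    · obtain ⟨g, hg, hxg⟩ := hmemV x.1 x.2 (fun e => hx1 (Subtype.ext e))
      exact ⟨QuotientGroup.mk ⟨g, hg⟩, (hmk _ _).2 hxg⟩
  · intro q q' x hqq h1 h2
    apply Subtype.ext
    have h3 : (q.out : G)⁻¹ * (q'.out : G) ∉ M := by
      intro h4
      apply hqq
      have h5 : (QuotientGroup.mk q.out : Pj ⧸ M.subgroupOf Pj) = QuotientGroup.mk q'.out := QuotientGroup.eq.2 h4
      rwa [QuotientGroup.out_eq', QuotientGroup.out_eq'] at h5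
    have h4 := c.chamber_inf v (hPj q.out.2) (hPj q'.out.2) h3
    have h5 : (x : v.Vec) ∈ v.fix c.Dn (cj (q.out : G) R) ⊓ v.fix c.Dn (cj (q'.out : G) R) := ⟨h1, h2⟩
    rw [h4, mem_bot] at h5
    exact h5
  · intro q
    have h1 := c.chamber_ne_bot v hW (hPj q.out.2)
    obtain ⟨x, hx, hx1⟩ := (Subgroup.bot_or_exists_ne_one _).resolve_left h1
    exact ⟨⟨x, hVmem _ q.out.2 hx⟩, hx, fun e => hx1 (Subtype.ext_iff.1 e)⟩
  · intro q d d' hd hd'
    have hoe : ∀ (x y : Pj ⧸ M.subgroupOf Pj), ((x.out : Pj) : G)⁻¹ * (y.out : Pj) ∈ M → x = y := by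
      intro x y h4
      have h5 : (QuotientGroup.mk x.out : Pj ⧸ M.subgroupOf Pj) = QuotientGroup.mk y.out := QuotientGroup.eq.2 h4
      rwa [QuotientGroup.out_eq', QuotientGroup.out_eq'] at h5
    have h1 : (q.out : G)⁻¹ * (d.out : G) ∉ M := fun h4 => hd (hoe _ _ h4).symm
    have h2 : (q.out : G)⁻¹ * (d'.out : G) ∉ M := fun h4 => hd' (hoe _ _ h4).symm
    obtain ⟨m, ⟨hmP, hmM⟩, hm⟩ := two _ (Pj.mul_mem (Pj.inv_mem q.out.2) d.out.2) _
      (Pj.mul_mem (Pj.inv_mem q.out.2) d'.out.2) h1 h2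
    have hsm : ∀ (g : Pj) (x y : Pj ⧸ M.subgroupOf Pj), ((y.out : Pj) : G)⁻¹ * ((g : G) * (x.out : Pj)) ∈ M →
        g • x = y := by
      intro g x y h4
      have h5 : (QuotientGroup.mk y.out : Pj ⧸ M.subgroupOf Pj) = QuotientGroup.mk (g * x.out) := QuotientGroup.eq.2 h4
      rw [QuotientGroup.out_eq'] at h5
      have h6 : g • (QuotientGroup.mk x.out : Pj ⧸ M.subgroupOf Pj) = y := h5.symm
      rwa [QuotientGroup.out_eq'] at h6
    refine ⟨q.out * ⟨m, hmP⟩ * q.out⁻¹, hsm _ _ _ ?_, hsm _ _ _ ?_⟩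
    · show ((q.out : Pj) : G)⁻¹ * ((q.out : Pj) * m * ((q.out : Pj) : G)⁻¹ * (q.out : Pj)) ∈ M
      have e : ((q.out : Pj) : G)⁻¹ * ((q.out : Pj) * m * ((q.out : Pj) : G)⁻¹ * (q.out : Pj)) = m := by group
      rw [e]
      exact hmM
    · show ((d'.out : Pj) : G)⁻¹ * ((q.out : Pj) * m * ((q.out : Pj) : G)⁻¹ * (d.out : Pj)) ∈ M
      have e : ((d'.out : Pj) : G)⁻¹ * ((q.out : Pj) * m * ((q.out : Pj) : G)⁻¹ * (d.out : Pj)) =
          (((q.out : Pj) : G)⁻¹ * (d'.out : Pj))⁻¹ * (m * (((q.out : Pj) : G)⁻¹ * (d.out : Pj))) := by group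
      rw [e]
      exact hm

end PanelB

end Cfsg.Agent.H284
end

-- part: H737/EPO/Node
section
/-!
# S5745 / S3499, OWN characteristic: the end of case (B) (helper737)

`P = P_K(H)`, `M = P_L(H)`. Every node `j ∈ K - L` has a panel with 3 chambers, there is only one such node, and
`1 + |P_J : P_J ∩ M|` is a power of 2 for all `J ⊆ K`.
-/

set_option autoImplicit false
set_option linter.unusedSectionVars false

namespace Cfsg.Agent.H737.EPO

open Cfsg.Agent.H284 Cfsg.Agent.H209.EPX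
open scoped Pointwise

section

variable {G Y : Type*} [Group G] [Finite G] [Group Y] [Finite Y] {H N M R D W : Subgroup G} {k : ℕ}
  (e : N ≃* (Fin k → Y)) {p : ℕ} {I : Type*} {S : PSys Y p I} (hS : Rk S) [Fact p.Prime]
  (hN : ∀ g ∈ H, ∀ n ∈ N, g * n * g⁻¹ ∈ N) (hNH : N ≤ H) {L K : Fin k → Set I} (hL : Inv H e S L)
  (hML : M = PH H e S L) (hRN : R ⊓ N = VV e S fun _ => ∅)

include hN hNH hL hML

/-- the chambers of a residue -/
theorem residue_iff {J : Fin k → Set I} {g : G} (hg : g ∈ PH H e S K) :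
    VV e S J ≤ cj g M ↔ ∃ x ∈ PP e S J, x⁻¹ * g ∈ M := by
  constructor
  · intro h1
    obtain ⟨a, ha, b, hb, rfl⟩ := mem_PH_fac e S hN hNH hg
    have hbM : b ∈ M := by rw [hML]; exact BH_le_PH e S hL hb
    rw [cj_mul, cj_eq_self hbM] at h1
    have haN := PP_le e S _ ha
    have h2 : VV e S J ≤ cj a (PP e S L) := by
      rw [← PH_inf e S hNH L, ← hML, cj_inf]
      refine le_inf h1 ?_
      rw [cj_eq_self haN]
      exact VV_le e S J
    obtain ⟨x, hx, y, hy, rfl⟩ := PP_dec e S haN h2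
    refine ⟨x, hx, ?_⟩
    have e1 : x⁻¹ * (x * y * b) = y * b := by group
    rw [e1]
    exact mul_mem (by rw [hML]; exact PP_le_PH e S hNH L hy) hbM
  · rintro ⟨x, hx, h1⟩
    have e1 : g = x * (x⁻¹ * g) := by group
    rw [e1, cj_mul, cj_eq_self h1]
    have h2 : cj x (VV e S J) = VV e S J := cj_eq_of_nm fun a ha => PP_nm e S hx ha
    rw [← h2]
    apply cj_mono
    rw [hML]
    exact (VV_le_PP' e S J L).trans (PP_le_PH e S hNH L)

theorem M_relIndex (J : Fin k → Set I) :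
    M.relIndex (PP e S J) = (PP e S fun i => L i ∩ J i).relIndex (PP e S J) := by
  rw [← Subgroup.inf_relIndex_right M]
  congr 1
  rw [← PP_inf, ← PH_inf e S hNH L, ← hML]
  ext x
  constructor
  · rintro ⟨h1, h2⟩
    exact ⟨⟨h1, PP_le e S J h2⟩, h2⟩
  · rintro ⟨⟨h1, -⟩, h2⟩
    exact ⟨h1, h2⟩

variable (c : PanelB H R (PH H e S K) D M p) (v : VecB H (PH H e S K) D W p) (hW : W ≠ D)

include c

theorem PP_le_P {J : Fin k → Set I} (hJK : ∀ i, J i ⊆ K i) : PP e S J ≤ PH H e S K :=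
  ((PP_le_iff e S).2 hJK).trans (PP_le_PH e S hNH K)

include hS hW

/-- **a node of `K - L`: the panel has 3 chambers** -/
theorem node_two {i : Fin k} {j : I} (hjK : j ∈ K i) (hjL : j ∉ L i) :
    p = 2 ∧ (VV e S (sgl i j)).relIndex (VV e S fun _ => ∅) = 2 ∧ Nat.card (v.fix c.Dn (VV e S (sgl i j))) = 4 ∧
      Nat.card (v.fix c.Dn R) = 2 := by
  have hJK : ∀ i', sgl i j i' ⊆ K i' := sgl_le_iff.2 hjK
  have hPj := PP_le_P e hN hNH hL hML c hJK
  have hLJ : (fun i' => L i' ∩ sgl i j i') = fun _ => ∅ := by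
    funext i'
    by_cases hi' : i' = i
    · subst hi'
      rw [sgl_same, Set.inter_singleton_eq_empty]
      exact hjL
    · rw [sgl_ne hi', Set.inter_empty]
  have hne : VV e S (sgl i j) ≠ VV e S fun _ => ∅ := by
    intro e1
    apply hS.ne j
    apply le_antisymm (S.V_le_U _)
    intro t ht
    have h1 : sg e i t ∈ VV e S (sgl i j) := by
      rw [e1]; exact (sg_mem_pk e).2 ht
    have h2 := (sg_mem_pk e).1 h1
    rwa [sgl_same] at h2
  obtain ⟨a, ha, hidx⟩ := p_index (VV_isPGroup e S _) (VV_le_VV e S (sgl i j)) hne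
  have hM1 : ∀ x ∈ PP e S (sgl i j), x ∉ M → x ∉ PP e S fun _ => ∅ := by
    intro x _ hxM hxB
    apply hxM
    rw [hML]
    exact PP_le_PH e S hNH L ((PP_le_iff e S).2 (fun _ => Set.empty_subset _) hxB)
  obtain ⟨h1, h2, h3, h4⟩ := c.panel_end v hW hPj ((VV_le_PP e S _).trans hPj)
    (fun g hg => residue_iff e hN hNH hL hML hg) ha (by
      rw [M_relIndex e hN hNH hL hML, hLJ, PP_index e hS, hidx, add_comm]) (by
      intro g hg g' hg' hgM hg'M
      obtain ⟨u, hu, h1⟩ := PP_trans e hS hg (hM1 g hg hgM) hg' (hM1 g' hg' hg'M)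
      have hle : PP e S (fun _ => ∅) ≤ M := by
        rw [hML]
        exact ((PP_le_iff e S).2 fun _ => Set.empty_subset _).trans (PP_le_PH e S hNH L)
      refine ⟨u, ⟨VV_le_PP' e S _ _ hu, hle (VV_le_PP e S _ hu)⟩, ?_⟩
      rw [← mul_assoc]
      exact hle h1)
  have h5 : p ^ a = 2 := by rw [h2, pow_one]; exact h1
  exact ⟨h1, hidx.trans h5, h3, h4⟩

include v

omit hS hW in
/-- the chamber of a nonzero vector fixed by `V_J` -/
theorem exists_ch {J : Fin k → Set I} (hJK : ∀ i, J i ⊆ K i) {z : v.Vec} (hz1 : z ≠ 1)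
    (hz : z ∈ v.fix c.Dn (VV e S J)) : ∃ x ∈ PP e S J, z ∈ v.fix c.Dn (cj x R) := by
  have hPj := PP_le_P e hN hNH hL hML c hJK
  obtain ⟨g, hg, h1⟩ := c.exists_chamber v z
  have h2 := (c.mem_fix_iff_chamber v ((VV_le_PP e S _).trans hPj) hg hz1 h1).1 hz
  obtain ⟨x, hx, h3⟩ := (residue_iff e hN hNH hL hML hg).1 h2
  exact ⟨x, hx, by rwa [c.chamber_congr v (hPj hx) hg h3]⟩

include hRN

omit hS hW in
theorem UU_le_R : VV e S (fun _ => ∅) ≤ R := by rw [← hRN]; exact inf_le_left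

omit hS hW in
theorem fixR_le (J : Fin k → Set I) : v.fix c.Dn R ≤ v.fix c.Dn (VV e S J) :=
  v.fix_anti c.Dn ((VV_le_VV e S J).trans (UU_le_R e hN hNH hL hML hRN c v))

omit hS hW in
theorem fix_of_mem_M {x : G} (hx : x ∈ PH H e S K) (hxM : x ∈ M) {z : v.Vec} (hz : z ∈ v.fix c.Dn (cj x R)) :
    z ∈ v.fix c.Dn R := by
  have h1 := c.chamber_congr v (one_mem _) hx (by rwa [inv_one, one_mul])
  rw [cj_one] at h1
  rwa [h1]

/-- **there is only one node in `K - L`** -/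
theorem node_unique {i i' : Fin k} {j j' : I} (hjK : j ∈ K i) (hjL : j ∉ L i) (hjK' : j' ∈ K i') (hjL' : j' ∉ L i') :
    i = i' ∧ j = j' := by
  classical
  by_contra hne
  obtain ⟨h2, hq, h4, hR2⟩ := node_two e hS hN hNH hL hML c v hW hjK hjL
  obtain ⟨-, hq', h4', -⟩ := node_two e hS hN hNH hL hML c v hW hjK' hjL'
  -- the rank two type
  let J2 : Fin k → Set I := fun t => sgl i j t ∪ sgl i' j' t
  have hJK : ∀ t, sgl i j t ⊆ K t := sgl_le_iff.2 hjK
  have hJK' : ∀ t, sgl i' j' t ⊆ K t := sgl_le_iff.2 hjK'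
  have hJ2K : ∀ t, J2 t ⊆ K t := fun t => Set.union_subset (hJK t) (hJK' t)
  have hdisj : ∀ t, sgl i j t ∩ sgl i' j' t = ∅ := by
    intro t
    ext s
    simp only [sgl, Set.mem_inter_iff, Set.mem_ofPred_eq, Set.mem_empty_iff_false, iff_false]
    rintro ⟨⟨h5, h6⟩, h7, h8⟩
    exact hne ⟨h5.symm.trans h7, h6.symm.trans h8⟩
  have hLJ2 : (fun t => L t ∩ J2 t) = fun _ => ∅ := by
    funext t
    ext s
    simp only [J2, sgl, Set.mem_inter_iff, Set.mem_union, Set.mem_ofPred_eq, Set.mem_empty_iff_false, iff_false]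
    rintro ⟨h5, h6 | h6⟩
    · obtain ⟨rfl, rfl⟩ := h6
      exact hjL h5
    · obtain ⟨rfl, rfl⟩ := h6
      exact hjL' h5
  have hBM : PP e S (fun _ => ∅) ≤ M := by
    rw [hML]
    exact ((PP_le_iff e S).2 fun _ => Set.empty_subset _).trans (PP_le_PH e S hNH L)
  have hMJ2 : ∀ y ∈ PP e S J2, y ∈ M → y ∈ PP e S fun _ => ∅ := by
    intro y hy hyM
    rw [← hLJ2, ← PP_inf, ← PH_inf e S hNH L, ← hML]
    exact ⟨⟨hyM, PP_le e S _ hy⟩, hy⟩
  have hP : ∀ {J : Fin k → Set I}, (∀ t, J t ⊆ K t) → PP e S J ≤ PH H e S K := fun h =>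
    PP_le_P e hN hNH hL hML c h
  have hle1 : PP e S (sgl i j) ≤ PP e S J2 := (PP_le_iff e S).2 fun t => Set.subset_union_left
  have hle2 : PP e S (sgl i' j') ≤ PP e S J2 := (PP_le_iff e S).2 fun t => Set.subset_union_right
  -- claim A
  have claimA : ∀ z, z ∈ v.fix c.Dn (VV e S (sgl i j)) → z ∈ v.fix c.Dn (VV e S (sgl i' j')) → z ∈ v.fix c.Dn R := by
    intro z hz hz'
    by_cases hz1 : z = 1
    · rw [hz1]; exact one_mem _
    obtain ⟨x, hx, h5⟩ := exists_ch e hN hNH hL hML c v hJK hz1 hz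
    obtain ⟨y, hy, h6⟩ := exists_ch e hN hNH hL hML c v hJK' hz1 hz'
    have h7 : x⁻¹ * y ∈ M := by
      by_contra h8
      have h9 := c.chamber_inf v (hP hJK hx) (hP hJK' hy) h8
      have h10 : z ∈ v.fix c.Dn (cj x R) ⊓ v.fix c.Dn (cj y R) := ⟨h5, h6⟩
      rw [h9, Subgroup.mem_bot] at h10
      exact hz1 h10
    have h8 := hMJ2 _ (mul_mem (inv_mem (hle1 hx)) (hle2 hy)) h7
    have h9 : y ∈ PP e S (sgl i j) := by
      have e1 : y = x * (x⁻¹ * y) := by group
      rw [e1]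
      exact mul_mem hx ((PP_le_iff e S).2 (fun _ => Set.empty_subset _) h8)
    have h10 : y ∈ PP e S fun _ => ∅ := by
      have h11 : y ∈ PP e S (sgl i j) ⊓ PP e S (sgl i' j') := ⟨h9, hy⟩
      rw [PP_inf] at h11
      have h12 : (fun t => sgl i j t ∩ sgl i' j' t) = fun _ => ∅ := funext hdisj
      rwa [h12] at h11
    exact fix_of_mem_M e hN hNH hL hML hRN c v (hP hJK' hy) (hBM h10) h6
  -- elements of `U`
  have hUP : ∀ u ∈ VV e S (fun _ => ∅), u ∈ PH H e S K := fun u hu =>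
    hP (J := fun _ => ∅) (fun _ => Set.empty_subset _) (VV_le_PP e S _ hu)
  -- the action of `U` on `C_V(V_j)`
  have key : ∀ (i₁ : Fin k) (j₁ : I), (∀ t, sgl i₁ j₁ t ⊆ K t) → Nat.card (v.fix c.Dn (VV e S (sgl i₁ j₁))) = 4 →
      ∀ x : v.Vec, x ∈ v.fix c.Dn (VV e S (sgl i₁ j₁)) → x ∉ v.fix c.Dn R →
      ∀ (u : G) (hu : u ∈ VV e S fun _ => ∅), x⁻¹ * v.act c.Dn ⟨u, hUP u hu⟩ x ∈ v.fix c.Dn R := by
    intro i₁ j₁ hJ₁ hc₁ x hx hxR u hu
    have h5 : v.act c.Dn ⟨u, hUP u hu⟩ x ∈ v.fix c.Dn (VV e S (sgl i₁ j₁)) := by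
      have h6 := (v.act_mem_fix c.Dn (⟨u, hUP u hu⟩ : PH H e S K)).2 hx
      have h7 : cj ((⟨u, hUP u hu⟩ : PH H e S K) : G) (VV e S (sgl i₁ j₁)) = VV e S (sgl i₁ j₁) :=
        cj_eq_of_nm fun a ha => PP_nm e S (VV_le_PP' e S _ _ hu) ha
      rwa [h7] at h6
    have h6 : v.act c.Dn ⟨u, hUP u hu⟩ x ∉ v.fix c.Dn R := by
      intro h7
      apply hxR
      have h8 : v.act c.Dn ⟨u, hUP u hu⟩ (v.act c.Dn ⟨u, hUP u hu⟩ x) = v.act c.Dn ⟨u, hUP u hu⟩ x :=
        (v.mem_fix c.Dn).1 h7 ⟨u, hUP u hu⟩ (UU_le_R e hN hNH hL hML hRN c v hu)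
      have h9 := (v.act c.Dn ⟨u, hUP u hu⟩).injective h8
      rwa [h9] at h7
    have hidx : ((v.fix c.Dn R).subgroupOf (v.fix c.Dn (VV e S (sgl i₁ j₁)))).index = 2 := by
      have h7 := Subgroup.relIndex_mul_relIndex ⊥ (v.fix c.Dn R) (v.fix c.Dn (VV e S (sgl i₁ j₁))) bot_le
        (fixR_le e hN hNH hL hML hRN c v _)
      rw [Subgroup.relIndex_bot_left, Subgroup.relIndex_bot_left, hR2, hc₁] at h7
      have h8 : (v.fix c.Dn R).relIndex (v.fix c.Dn (VV e S (sgl i₁ j₁))) = 2 := by omega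
      exact h8
    have h7 := Subgroup.mul_mem_iff_of_index_two hidx (a := ⟨x, hx⟩⁻¹) (b := ⟨_, h5⟩)
    have h8 : ((⟨x, hx⟩⁻¹ * ⟨_, h5⟩ : v.fix c.Dn (VV e S (sgl i₁ j₁))) : v.Vec) ∈ v.fix c.Dn R := by
      have h9 := h7.2 (by
        rw [Subgroup.mem_subgroupOf, Subgroup.mem_subgroupOf]
        constructor
        · intro h10
          exact absurd ((v.fix c.Dn R).inv_mem_iff.1 h10) hxR
        · intro h10
          exact absurd h10 h6)
      exact h9
    exact h8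
  -- two vectors
  have hex : ∀ (i₁ : Fin k) (j₁ : I), Nat.card (v.fix c.Dn (VV e S (sgl i₁ j₁))) = 4 →
      ∃ x, x ∈ v.fix c.Dn (VV e S (sgl i₁ j₁)) ∧ x ∉ v.fix c.Dn R := by
    intro i₁ j₁ hc₁
    by_contra hcon
    push Not at hcon
    have h5 : v.fix c.Dn (VV e S (sgl i₁ j₁)) ≤ v.fix c.Dn R := hcon
    have h6 := Subgroup.card_le_of_le h5
    rw [hc₁, hR2] at h6
    omega
  obtain ⟨x₁, hx₁, hx₁R⟩ := hex i j h4
  obtain ⟨x₂, hx₂, hx₂R⟩ := hex i' j' h4'
  obtain ⟨r, hr, hr1⟩ : ∃ r, r ∈ v.fix c.Dn R ∧ ∀ s, s ∈ v.fix c.Dn R → s = 1 ∨ s = r := by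
    obtain ⟨a, b, hab, h5⟩ := Nat.card_eq_two_iff.1 hR2
    have h6 : ∀ s : v.fix c.Dn R, s = a ∨ s = b := fun s => by
      have : s ∈ ({a, b} : Set (v.fix c.Dn R)) := by rw [h5]; trivial
      simpa using this
    rcases h6 1 with h7 | h7
    · refine ⟨b, b.2, fun s hs => ?_⟩
      rcases h6 ⟨s, hs⟩ with h8 | h8
      · left
        have := h8.trans h7.symm
        exact Subtype.ext_iff.1 this
      · right
        exact Subtype.ext_iff.1 h8
    · refine ⟨a, a.2, fun s hs => ?_⟩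
      rcases h6 ⟨s, hs⟩ with h8 | h8
      · right
        exact Subtype.ext_iff.1 h8
      · left
        have := h8.trans h7.symm
        exact Subtype.ext_iff.1 this
  set z := x₁ * x₂ with hz
  have hz₁ : x₂ = x₁⁻¹ * z := by rw [hz]; group
  have hz₂ : x₁ = z * x₂⁻¹ := by rw [hz]; group
  have hzne : z ≠ 1 := by
    intro h5
    apply hx₂R
    apply claimA _ _ hx₂
    rw [hz₁, h5, mul_one]
    exact inv_mem hx₁
  have hzJ2 : z ∈ v.fix c.Dn (VV e S J2) := by
    refine mul_mem (v.fix_anti c.Dn ?_ hx₁) (v.fix_anti c.Dn ?_ hx₂)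
    · exact VV_anti e S fun t => Set.subset_union_left
    · exact VV_anti e S fun t => Set.subset_union_right
  have hzu : ∀ (u : G) (hu : u ∈ VV e S fun _ => ∅), z⁻¹ * v.act c.Dn ⟨u, hUP u hu⟩ z ∈ v.fix c.Dn R := by
    intro u hu
    have h5 := key i j hJK h4 x₁ hx₁ hx₁R u hu
    have h6 := key i' j' hJK' h4' x₂ hx₂ hx₂R u hu
    have e1 : z⁻¹ * v.act c.Dn ⟨u, hUP u hu⟩ z =
        (x₁⁻¹ * v.act c.Dn ⟨u, hUP u hu⟩ x₁) * (x₂⁻¹ * v.act c.Dn ⟨u, hUP u hu⟩ x₂) := by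
      rw [hz, map_mul, mul_inv]
      exact mul_mul_mul_comm _ _ _ _
    rw [e1]
    exact mul_mem h5 h6
  obtain ⟨x, hx, hzx⟩ := exists_ch e hN hNH hL hML c v hJ2K hzne hzJ2
  -- `z ∈ C_V(V_ν)`, `ν` one of the two nodes
  have hfin : z ∈ v.fix c.Dn (VV e S (sgl i j)) ∨ z ∈ v.fix c.Dn (VV e S (sgl i' j')) := by
    by_cases hxB : x ∈ PP e S fun _ => ∅
    · left
      exact fixR_le e hN hNH hL hML hRN c v _ (fix_of_mem_M e hN hNH hL hML hRN c v (hP hJ2K hx) (hBM hxB) hzx)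
    obtain ⟨i₁, j₁, hj₁, h5⟩ := PP_desc e hS hx hxB
    -- the stabiliser of `z` in `U` is in `V_ν`
    have hst : ∀ (u : G) (hu : u ∈ VV e S fun _ => ∅), v.act c.Dn ⟨u, hUP u hu⟩ z = z → u ∈ VV e S (sgl i₁ j₁) := by
      intro u hu h6
      have h7 := c.mem_of_act_eq v (hP hJ2K hx) (hUP u hu) hzne hzx h6
      rw [mem_cj] at h7
      exact h5 u hu (hMJ2 _ (mul_mem (mul_mem (inv_mem hx) (VV_le_PP' e S _ _ hu)) hx) h7)
    have hν : (i₁ = i ∧ j₁ = j) ∨ (i₁ = i' ∧ j₁ = j') := hj₁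
    have hq₁ : (VV e S (sgl i₁ j₁)).relIndex (VV e S fun _ => ∅) = 2 := by
      rcases hν with ⟨rfl, rfl⟩ | ⟨rfl, rfl⟩
      · exact hq
      · exact hq'
    have hzν : z ∈ v.fix c.Dn (VV e S (sgl i₁ j₁)) := by
      -- `u₀ ∈ U - V_ν`
      obtain ⟨u₀, hu₀, hu₀'⟩ : ∃ u₀ ∈ VV e S (fun _ => ∅), u₀ ∉ VV e S (sgl i₁ j₁) := by
        by_contra hcon
        push Not at hcon
        have h6 : VV e S (fun _ => ∅) ≤ VV e S (sgl i₁ j₁) := hcon
        rw [Subgroup.relIndex_eq_one.2 h6] at hq₁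
        omega
      have h7 : z⁻¹ * v.act c.Dn ⟨u₀, hUP u₀ hu₀⟩ z = r := by
        rcases hr1 _ (hzu u₀ hu₀) with h8 | h8
        · exact absurd (hst u₀ hu₀ (inv_mul_eq_one.1 h8).symm) hu₀'
        · exact h8
      intro g hg
      have hgU : (g : G) ∈ VV e S fun _ => ∅ := VV_le_VV e S _ hg
      have hge : (⟨(g : G), hUP g hgU⟩ : PH H e S K) = g := rfl
      by_contra hgz
      have h8 : z⁻¹ * v.act c.Dn g z = r := by
        rcases hr1 _ (hzu g hgU) with h9 | h9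
        · exact absurd (inv_mul_eq_one.1 h9).symm hgz
        · exact h9
      have h9 : v.act c.Dn g z = v.act c.Dn ⟨u₀, hUP u₀ hu₀⟩ z := by
        have := h8.trans h7.symm
        exact mul_left_cancel this
      have h10 : v.act c.Dn (g⁻¹ * ⟨u₀, hUP u₀ hu₀⟩) z = z := by
        have h11 : v.act c.Dn (g⁻¹ * ⟨u₀, hUP u₀ hu₀⟩) z = v.act c.Dn g⁻¹ (v.act c.Dn ⟨u₀, hUP u₀ hu₀⟩ z) := by
          rw [(v.act c.Dn).map_mul]; rfl
        have h12 : v.act c.Dn g⁻¹ (v.act c.Dn g z) = z := by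
          rw [← MulAut.mul_apply, ← (v.act c.Dn).map_mul, inv_mul_cancel, (v.act c.Dn).map_one]; rfl
        rw [h11, ← h9, h12]
      have h11 := hst ((g : G)⁻¹ * u₀) (mul_mem (inv_mem hgU) hu₀) h10
      apply hu₀'
      have e1 : u₀ = (g : G) * ((g : G)⁻¹ * u₀) := by group
      rw [e1]
      exact mul_mem hg h11
    rcases hν with ⟨rfl, rfl⟩ | ⟨rfl, rfl⟩
    · exact Or.inl hzν
    · exact Or.inr hzν
  rcases hfin with h5 | h5
  · apply hx₂R
    apply claimA _ _ hx₂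
    rw [hz₁]
    exact mul_mem (inv_mem hx₁) h5
  · apply hx₁R
    apply claimA _ hx₁
    rw [hz₂]
    exact mul_mem h5 (inv_mem hx₂)

end

end Cfsg.Agent.H737.EPO
end

-- part: H737/EPO/OwnB
section
/-!
# S5745 / S3499, OWN characteristic: case (B) assembled (helper737)
-/

set_option autoImplicit false
set_option linter.unusedSectionVars false

namespace Cfsg.Agent.H737.EPO

open Cfsg.Agent.H284 Cfsg.Agent.H209.EPX
open scoped Pointwise

/-- the output of the `G`-side (helper470's `exists_DQ`) -/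
def DQ {G Y : Type*} [Group G] [Group Y] (H : Subgroup G) {N : Subgroup G} {k p : ℕ} {I : Type*}
    (e : N ≃* (Fin k → Y)) (S : PSys Y p I) (J : Fin k → Set I) : Prop :=
  ∃ D Q : Subgroup G, VV e S J ≤ D ∧ D ≤ PH H e S J ∧ IsPGroup p D ∧
    (∀ g ∈ PH H e S J, ∀ d ∈ D, g * d * g⁻¹ ∈ D) ∧ IsPGroup p Q ∧
    (∀ g ∈ PH H e S J, ∀ w ∈ Q, g * w * g⁻¹ ∈ Q) ∧ D ≤ Q ∧ Q ⊓ H = D ∧ Q ≠ D

section

variable {G Y : Type*} [Group G] [Finite G] [Group Y] [Finite Y] {H N M R D W : Subgroup G} {k : ℕ}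
  (e : N ≃* (Fin k → Y)) {p : ℕ} {I : Type*} {S : PSys Y p I} [Fact p.Prime]

/-- a normal `p`-subgroup of `P ≥ R`, `R` Sylow in `H`, is in `R` -/
theorem le_R_of_normal {P : Subgroup G} (hR : SylIn H R p) (hPH : P ≤ H) (hRP : R ≤ P) (hDP : D ≤ P) (hD : IsPGroup p D)
    (hDn : ∀ g ∈ P, ∀ d ∈ D, g * d * g⁻¹ ∈ D) : D ≤ R := by
  have h1 : R ≤ Subgroup.normalizer (D : Set G) := by
    intro r hr
    rw [Subgroup.mem_normalizer_iff_map_conj_eq]
    exact cj_eq_of_nm (hDn r (hRP hr))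
  have h2 : IsPGroup p (R ⊔ D : Subgroup G) := hR.pg.to_sup_of_normal_right' hD h1
  have h3 := hR.mx (R ⊔ D) (sup_le hR.le (hDP.trans hPH)) h2 le_sup_left
  rw [← h3]
  exact le_sup_right

/-- **a two point stabiliser above `R`** -/
theorem exists_M {P Q : Subgroup G} (hR : SylIn H R p) (hRP : R ≤ P) (hDR : D ≤ R) (hQ : IsPGroup p Q)
    (hQn : ∀ g ∈ P, ∀ w ∈ Q, g * w * g⁻¹ ∈ Q) (hQH : Q ⊓ H = D) (hQD : Q ≠ D) :
    ∃ M ∈ EP.twoSet H, R ≤ M := by
  have h1 : R ≤ Subgroup.normalizer (Q : Set G) := by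
    intro r hr
    rw [Subgroup.mem_normalizer_iff_map_conj_eq]
    exact cj_eq_of_nm (hQn r (hRP hr))
  have h2 : IsPGroup p (R ⊔ Q : Subgroup G) := hR.pg.to_sup_of_normal_right' hQ h1
  have h3 : R ≠ R ⊔ Q := by
    intro h4
    apply hQD
    rw [← hQH]
    exact (inf_eq_left.2 ((le_sup_right.trans h4.ge).trans hR.le)).symm
  obtain ⟨y, hyQ, hyR, hyn⟩ := exists_norm_lt (Fact.out : p.Prime) h2 le_sup_left h3.symm
  obtain ⟨w, hw, r, hr, rfl⟩ := mem_sup_norm (M := R) (N := Q) (fun m hm n hn => hQn m (hRP hm) n hn) hyQ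
  have hwR : ∀ s ∈ R, w * s * w⁻¹ ∈ R := by
    intro s hs
    have h4 := hyn (r⁻¹ * s * r) (mul_mem (mul_mem (inv_mem hr) hs) hr)
    have e1 : w * r * (r⁻¹ * s * r) * (w * r)⁻¹ = w * s * w⁻¹ := by group
    rwa [e1] at h4
  have hwH : w ∉ H := by
    intro h4
    apply hyR
    have h5 : w ∈ Q ⊓ H := ⟨hw, h4⟩
    rw [hQH] at h5
    exact mul_mem (hDR h5) hr
  refine ⟨H ⊓ cj w H, ⟨w, hwH, rfl⟩, le_inf hR.le ?_⟩
  have h5 : cj w R = R := cj_eq_of_nm hwR
  rw [← h5]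
  exact cj_mono hR.le

variable [IsSimpleGroup Y] (hY : ∃ a b : Y, a * b ≠ b * a)

/-- `V_J ≠ 1` for proper types -/
theorem VV_ne_bot {J : Fin k → Set I} {i : Fin k} (hi : J i ≠ Set.univ) : VV e S J ≠ ⊥ := by
  intro h1
  have h2 : S.V (J i) = ⊥ := by
    rw [Subgroup.eq_bot_iff_forall]
    intro t ht
    have h3 : sg e i t ∈ VV e S J := (sg_mem_pk e).2 ht
    rw [h1, Subgroup.mem_bot] at h3
    have := cp_sg e i t
    rw [h3, cp_one] at this
    exact this.symm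
  -- `V_{J} = 1` normal: then `P_{J} = Y` by maximality of `V`
  have h3 : (⊥ : Subgroup Y) = cj (1 : Y) (S.V (J i)) := by rw [h2, cj_one]
  have h4 : ∀ g : Y, g ∈ S.P (J i) := by
    intro g
    have h5 : S.V (J i) ≤ cj g (S.P ∅) := by rw [h2]; exact bot_le
    obtain ⟨a, ha, b, hb, rfl⟩ := S.dec h5
    exact mul_mem ha (S.P_mono (Set.empty_subset _) hb)
  apply hi
  apply S.P_inj
  rw [S.P_univ, eq_top_iff]
  exact fun g _ => h4 g

include hY

/-- **CASE (B)**: relative rank at least two. -/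
theorem own_B [Nonempty I] (hS : Rk S) (h : EP H) (hN : MinN N H) (hR : SylIn H R p)
    (hRN : R ⊓ N = VV e S fun _ => ∅) (hDQ : ∀ J : Fin k → Set I, VV e S J ≠ ⊥ → DQ H e S J)
    {J₀ : Fin k → Set I} (hJ₀ : Inv H e S J₀) {i₀ i₁ : Fin k} (h0 : J₀ i₀ ≠ ∅) (h1 : J₀ i₁ ≠ Set.univ) :
    p = 2 ∧ k = 1 ∧ (∃ M ∈ EP.twoSet H, R ≤ M) ∧ ∀ M ∈ EP.twoSet H, R ≤ M → ∃ j : I,
      (S.V {j}).relIndex (S.V ∅) = 2 ∧ Inv H e S (fun _ => {j}) ∧ M = PH H e S (fun _ => {j}ᶜ) := by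
  -- the two point stabilisers above `R`
  have hRBH : R ≤ BH H e S := fun r hr => R_le_BH e S hN.nrm hRN (hR.le hr) fun s hs =>
    mul_mem (mul_mem hr hs) (inv_mem hr)
  have key : ∀ M ∈ EP.twoSet H, R ≤ M → p = 2 ∧ k = 1 ∧ ∃ j : I, (S.V {j}).relIndex (S.V ∅) = 2 ∧
      Inv H e S (fun _ => {j}) ∧ M = PH H e S (fun _ => {j}ᶜ) := by
    intro M hM hRM
    have hMX := mx_of_two h hN hM
    obtain ⟨L, hL1, -, hLi, hML, -⟩ := std e S hY hN hMX (by rw [← hRN]; exact inf_le_left.trans hRM)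
    -- `L ≠ ∅`
    have hLne : ∃ i, L i ≠ ∅ := by
      by_contra hcon
      push Not at hcon
      have hLe : L = fun _ => ∅ := funext hcon
      rw [hLe] at hML
      rcases hMX.max (PH H e S J₀) (by
        rw [hML]
        exact (PH_le_iff e S hN.nrm hN.le hJ₀).2 fun _ => Set.empty_subset _) inf_le_left with h2 | h2
      · apply h0
        rw [hML] at h2
        have h3 : Inv H e S (fun _ => ∅) := by rw [← hLe]; exact hLi
        have h4 := (PH_le_iff e S hN.nrm hN.le h3).1 h2.le i₀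
        exact Set.subset_empty_iff.1 h4
      · apply h1
        apply univ_of_PP e S
        rw [← PH_inf e S hN.le, h2]
        exact inf_eq_right.2 hN.le
    obtain ⟨i₂, hi₂⟩ := hLne
    set K : Fin k → Set I := fun i => (L i)ᶜ with hK
    have hKi : Inv H e S K := Inv.compl e S hN.nrm hLi
    have hK1 : ∀ i, K i ≠ Set.univ := inv_ne_univ e S hY hN hKi (i := i₂) (by
      rw [hK]
      simp only [Ne, Set.compl_univ_iff]
      exact hi₂)
    obtain ⟨D, Q, hVD, hDP, hDp, hDn, hQp, hQn, hDQ', hQH, hQD⟩ := hDQ K (VV_ne_bot e (hK1 i₂))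
    have hRP : R ≤ PH H e S K := hRBH.trans (BH_le_PH e S hKi)
    have hDR : D ≤ R := le_R_of_normal hR inf_le_left hRP hDP hDp hDn
    have c := panelB e S hY h hN hR hRN hM hRM hLi hL1 hML (i₀ := i₂) hi₂ hDR hVD hDn
    obtain ⟨W, -, hWD, v⟩ := exists_vecB (Fact.out : p.Prime) hDn hQp hQn hDQ' hQH hQD
    obtain ⟨j, hj⟩ : ∃ j, j ∉ L i₂ := by
      by_contra hcon
      push Not at hcon
      exact hL1 i₂ (Set.eq_univ_of_forall hcon)
    obtain ⟨h2, h3, -, -⟩ := node_two e hS hN.nrm hN.le hLi hML c v hWD (i := i₂) (j := j) hj hj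
    have huniq : ∀ i' j', j' ∉ L i' → i₂ = i' ∧ j = j' := fun i' j' hj' =>
      node_unique e hS hN.nrm hN.le hLi hML hRN c v hWD hj hj hj' hj'
    have hk : k = 1 := by
      have h4 : ∀ i', i₂ = i' := by
        intro i'
        obtain ⟨j', hj'⟩ : ∃ j', j' ∉ L i' := by
          by_contra hcon
          push Not at hcon
          exact hL1 i' (Set.eq_univ_of_forall hcon)
        exact (huniq i' j' hj').1
      have h5 : Subsingleton (Fin k) := ⟨fun a b => (h4 a).symm.trans (h4 b)⟩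
      have h6 := Fintype.card_le_one_iff_subsingleton.2 h5
      rw [Fintype.card_fin] at h6
      have := i₂.pos
      omega
    have hLj : L = fun _ => {j}ᶜ := by
      funext i
      ext a
      constructor
      · intro ha haj
        rw [Set.mem_singleton_iff] at haj
        rw [haj] at ha
        have hi : i₂ = i := by
          have h5 : Subsingleton (Fin k) := by rw [hk]; infer_instance
          exact Subsingleton.elim _ _
        rw [← hi] at ha
        exact hj ha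
      · intro ha
        by_contra ha'
        exact ha (huniq i a ha').2.symm
    refine ⟨h2, hk, j, by rw [← VV_index e i₂ j]; exact h3, ?_, by rw [hML, hLj]⟩
    have h7 : K = fun _ => {j} := by
      rw [hK, hLj]
      funext i
      exact compl_compl _
    rw [← h7]
    exact hKi
  -- existence
  obtain ⟨M, hM, hRM⟩ : ∃ M ∈ EP.twoSet H, R ≤ M := by
    have hinv0 : Inv H e S (fun _ => ∅) := fun x hx => BH_cj_B e S hN.nrm hx
    obtain ⟨D, Q, hVD, hDP, hDp, hDn, hQp, hQn, hDQ', hQH, hQD⟩ := hDQ (fun _ => ∅)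
      (VV_ne_bot e (i := i₀) Set.empty_ne_univ)
    have hRP : R ≤ PH H e S (fun _ => ∅) := hRBH.trans (BH_le_PH e S hinv0)
    exact exists_M hR hRP (le_R_of_normal hR inf_le_left hRP hDP hDp hDn) hQp hQn hQH hQD
  obtain ⟨h2, h3, -⟩ := key M hM hRM
  exact ⟨h2, h3, ⟨M, hM, hRM⟩, fun M' hM' hRM' => (key M' hM' hRM').2.2⟩

end

end Cfsg.Agent.H737.EPO
end

private theorem dce_ed8384e65609 : _root_.True := by
  try have : _root_.True := by simp only [_root_.Cfsg.Agent.H737.EPO.sgl.eq_1]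
  try have : _root_.True := by simp only [_root_.Cfsg.Agent.H284.VecB.fix.congr_simp]
  try have : _root_.True := by simp only [_root_.Cfsg.Agent.H737.EPO.PP.eq_1]
  exact _root_.True.intro
end

-- part: H737/EPO/RelOne
section
prune_inst 0x10107d0407221000001800002000005030000102004800012040020200408400a001880198e0051200100844003a806810100020c030000020008800011c0481140020c280081000210000406004000000000000000000000000000000000000200000000
set_option linter.all false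
open scoped Cfsg.Agent.FastGrp

/-!
# S5745 / S3499, OWN characteristic: relative rank one (helper737)

If the only invariant type different from `I` is `∅`, then for all the nodes `j` the parabolic subgroup `P_j` is not
invariant, and the vectors of `D = O_p` over `V_j` are a panel of `P_j`, so `p = 2` and `|U : V_j| = 2`.
-/

set_option autoImplicit false
set_option linter.unusedSectionVars false

namespace Cfsg.Agent.H737.EPO

open Cfsg.Agent.H284 Cfsg.Agent.H209.EPX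
open scoped Pointwise

section

variable {G Y : Type*} [Group G] [Finite G] [Group Y] [Finite Y] {H N R D W : Subgroup G} {k : ℕ}
  (e : N ≃* (Fin k → Y)) {p : ℕ} {I : Type*} {S : PSys Y p I} [Fact p.Prime]

variable [IsSimpleGroup Y] (hY : ∃ a b : Y, a * b ≠ b * a)

include hY

/-- the stabiliser of a vector over `V_J`, in relative rank one -/
theorem vec_stab [Nonempty I] (h : EP H) (hN : MinN N H)
    (hrel : ∀ L : Fin k → Set I, Inv H e S L → (∀ i, L i ≠ Set.univ) → L = fun _ => ∅) {J : Fin k → Set I}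
    (hJ : ∀ i, J i ≠ Set.univ) (hVD : VV e S J ≤ D) (hDP : D ≤ PH H e S J) (v : VecB H (PH H e S J) D W p) {w : G}
    (hw : w ∈ W) (hwD : w ∉ D) : ∃ a ∈ PP e S J, (H ⊓ cj w H) ⊓ N = cj a (PP e S fun _ => ∅) := by
  have hM : MX H N (H ⊓ cj w H) := mx_of_two h hN ⟨w, v.notMem_H hw hwD, rfl⟩
  have hDH : D ≤ H := hDP.trans inf_le_left
  have hDw : cj w D = D := cj_eq_of_nm (v.WD w hw)
  have hDM : D ≤ H ⊓ cj w H := by
    refine le_inf hDH ?_
    rw [← hDw]
    exact cj_mono hDH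
  obtain ⟨L, n, hn, hL, hMN⟩ := KL e S hY hN hM hJ (g := fun _ => 1) (fun i => by
    rw [cj_one]
    intro t ht
    exact hDM (hVD ((sg_mem_pk e).2 ht)))
  have hM' := hM.cj hN.nrm (inv_mem (hN.le hn))
  have hNn : cj n⁻¹ N = N := cj_eq_self (inv_mem hn)
  have hMN' : cj n⁻¹ (H ⊓ cj w H) ⊓ N = PP e S L := by
    have h1 : cj n⁻¹ (H ⊓ cj w H) ⊓ cj n⁻¹ N = PP e S L := by rw [← cj_inf, hMN, cj_inv_cj]
    rwa [hNn] at h1
  obtain ⟨L', hL'1, hL'2, hL'3, -, -⟩ := std e S hY hN hM' (by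
    refine (VV_le_PP' e S _ L).trans ?_
    rw [← hMN']
    exact inf_le_left)
  have hLL : L = L' := PP_inj e S (hMN'.symm.trans hL'2)
  have hL0 : L = fun _ => ∅ := by
    rw [hLL]
    exact hrel L' hL'3 hL'1
  rw [hL0] at hMN
  have hVJ : VV e S J ≤ cj n (PP e S fun _ => ∅) := by
    rw [← hMN]
    exact le_inf (hVD.trans hDM) (VV_le e S J)
  obtain ⟨a, ha, b, hb, rfl⟩ := PP_dec e S hn hVJ
  refine ⟨a, ha, ?_⟩
  rw [hMN, cj_mul, cj_eq_self hb]

/-- **relative rank one** -/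
theorem rel_one (hS : Rk S) (h : EP H) (hN : MinN N H)
    (hrel : ∀ L : Fin k → Set I, Inv H e S L → (∀ i, L i ≠ Set.univ) → L = fun _ => ∅) {i₀ : Fin k} {j₀ : I}
    (hJ : ∀ i, sgl i₀ j₀ i ≠ Set.univ) (hDQ : DQ H e S (sgl i₀ j₀)) :
    p = 2 ∧ (S.V {j₀}).relIndex (S.V ∅) = 2 := by
  classical
  have : Nonempty I := ⟨j₀⟩
  obtain ⟨D, Q, hVD, hDP, hDp, hDn, hQp, hQn, hDQ', hQH, hQD⟩ := hDQ
  obtain ⟨W, -, hWD, v⟩ := exists_vecB (Fact.out : p.Prime) hDn hQp hQn hDQ' hQH hQD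
  have hPH : PH H e S (sgl i₀ j₀) ≤ H := inf_le_left
  set P := PH H e S (sgl i₀ j₀) with hPdef
  set A := PP e S (sgl i₀ j₀) with hAdef
  set B := PP e S (fun _ => ∅) with hBdef
  have hAP : A ≤ P := PP_le_PH e S hN.le _
  have hAN : A ≤ N := PP_le e S _
  have hBA : B ≤ A := (PP_le_iff e S).2 fun _ => Set.empty_subset _
  have hst : ∀ w ∈ W, w ∉ D → ∃ a ∈ A, (H ⊓ cj w H) ⊓ N = cj a B := fun w hw hwD =>
    vec_stab e hY h hN hrel hJ hVD hDP v hw hwD
  have hcjA : ∀ a ∈ A, cj a B ≤ A := by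
    intro a ha
    rw [← cj_eq_self ha]
    exact cj_mono hBA
  -- fixed vectors of chambers
  have hfix : ∀ a ∈ A, ∀ w : W, v.vec w ∈ v.fix hDn (cj a B) ↔ cj a B ≤ cj (w : G) H := by
    intro a ha w
    rw [v.vec_mem_fix hDn hPH, inf_eq_left.2 ((hcjA a ha).trans hAP)]
  have hstab : ∀ a ∈ A, ∀ w : W, (w : G) ∉ D → (v.vec w ∈ v.fix hDn (cj a B) ↔ (H ⊓ cj (w : G) H) ⊓ N = cj a B) := by
    intro a ha w hwD
    rw [hfix a ha w]
    constructor
    · intro h1
      obtain ⟨b, hb, hbw⟩ := hst w w.2 hwD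
      have h2 : cj a B ≤ cj b B := by
        rw [← hbw]
        exact le_inf (le_inf (((hcjA a ha).trans hAN).trans hN.le) h1) ((hcjA a ha).trans hAN)
      rw [hbw]
      symm
      apply Subgroup.eq_of_le_of_card_ge h2
      rw [card_cj, card_cj]
    · intro h1
      rw [← h1]
      exact inf_le_left.trans inf_le_right
  have hcong : ∀ a ∈ A, ∀ b ∈ A, a⁻¹ * b ∈ B → cj a B = cj b B := by
    intro a _ b _ h1
    have e1 : b = a * (a⁻¹ * b) := by group
    rw [e1, cj_mul, cj_eq_self h1]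
  have hinj : ∀ a ∈ A, ∀ b ∈ A, cj a B = cj b B → a⁻¹ * b ∈ B := by
    intro a ha b hb h1
    apply norm_PP e S (mul_mem (inv_mem (hAN ha)) (hAN hb))
    rw [cj_mul, ← hBdef, ← h1, cj_inv_cj]
  let V : (A ⧸ B.subgroupOf A) → Subgroup v.Vec := fun q => v.fix hDn (cj (q.out : G) B)
  have hmk : ∀ g : A, V (QuotientGroup.mk g) = v.fix hDn (cj (g : G) B) := by
    intro g
    show v.fix hDn (cj (((QuotientGroup.mk g : A ⧸ B.subgroupOf A).out : A) : G) B) = _
    have h2 : (QuotientGroup.mk (QuotientGroup.mk g : A ⧸ B.subgroupOf A).out : A ⧸ B.subgroupOf A) =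
        QuotientGroup.mk g := QuotientGroup.out_eq' _
    have h3 := QuotientGroup.eq.1 h2
    rw [hcong _ (Subtype.property _) _ g.2 h3]
  obtain ⟨a, ha, hidx⟩ := p_index (p := p) (VV_isPGroup e S _) (VV_le_VV e S (sgl i₀ j₀)) (by
    intro e1
    apply hS.ne j₀
    apply le_antisymm (S.V_le_U _)
    intro t ht
    have h1 : sg e i₀ t ∈ VV e S (sgl i₀ j₀) := by
      rw [e1]; exact (sg_mem_pk e).2 ht
    have h2 := (sg_mem_pk e).1 h1
    rwa [sgl_same] at h2)
  have hact : ∀ g : A, (g : G) ∈ P := fun g => hAP g.2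
  let ρ : A →* MulAut v.Vec := (v.act hDn).comp (Subgroup.inclusion hAP)
  have hρ : ∀ (g : A) (x : v.Vec), ρ g x = v.act hDn ⟨g, hAP g.2⟩ x := fun _ _ => rfl
  -- a vector
  obtain ⟨w₀, hw₀, hw₀D⟩ : ∃ w ∈ W, w ∉ D := by
    by_contra hcon
    push Not at hcon
    exact hWD (le_antisymm hcon v.DW)
  obtain ⟨a₀, ha₀, ha₀w⟩ := hst w₀ hw₀ hw₀D
  have hoe : ∀ (x y : A ⧸ B.subgroupOf A), ((x.out : A) : G)⁻¹ * (y.out : A) ∈ B → x = y := by
    intro x y h4
    have h5 : (QuotientGroup.mk x.out : A ⧸ B.subgroupOf A) = QuotientGroup.mk y.out := QuotientGroup.eq.2 h4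
    rwa [QuotientGroup.out_eq', QuotientGroup.out_eq'] at h5
  have hsm : ∀ (g : A) (x y : A ⧸ B.subgroupOf A), ((y.out : A) : G)⁻¹ * ((g : G) * (x.out : A)) ∈ B →
      g • x = y := by
    intro g x y h4
    have h5 : (QuotientGroup.mk y.out : A ⧸ B.subgroupOf A) = QuotientGroup.mk (g * x.out) := QuotientGroup.eq.2 h4
    rw [QuotientGroup.out_eq'] at h5
    have h6 : g • (QuotientGroup.mk x.out : A ⧸ B.subgroupOf A) = y := h5.symm
    rwa [QuotientGroup.out_eq'] at h6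
  have key := Cfsg.Agent.H470.EPO.panel (p := p) (a := a) ρ (MulAction.toPermHom A (A ⧸ B.subgroupOf A)) V
    (fun x => v.pow_eq_one x) ha (by
      have h1 := PP_index e hS i₀ j₀
      rw [hidx] at h1
      rw [add_comm, ← h1]
      rfl) ?_ ?_ ?_ ?_ ?_ ?_
  · obtain ⟨h1, h2, -, -⟩ := key
    refine ⟨h1, ?_⟩
    rw [← VV_index e i₀ j₀, hidx, h2, pow_one]
    exact h1
  · intro g q x hx
    have e1 : (MulAction.toPermHom A (A ⧸ B.subgroupOf A)) g q = QuotientGroup.mk (g * q.out) := by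
      show g • q = _
      conv_lhs => rw [← q.out_eq']
      rfl
    rw [e1, hmk, hρ]
    have h1 := (v.act_mem_fix hDn (⟨g, hAP g.2⟩ : P)).2 hx
    have h2 : cj ((⟨g, hAP g.2⟩ : P) : G) (cj (q.out : G) B) = cj ((g * q.out : A) : G) B := by
      rw [Subgroup.coe_mul, cj_mul]
    rw [h2] at h1
    exact h1
  · intro g q x hgq hx
    rw [hρ]
    apply hx
    show (g : G) ∈ cj (q.out : G) B
    have h2 : g • q = q := hgq
    have h3 : (QuotientGroup.mk (g * q.out) : A ⧸ B.subgroupOf A) = QuotientGroup.mk q.out := by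
      have h5 : g • (QuotientGroup.mk q.out : A ⧸ B.subgroupOf A) = QuotientGroup.mk q.out := by
        rw [QuotientGroup.out_eq']
        exact h2
      exact h5
    have h6 := QuotientGroup.eq.1 h3.symm
    have h4 : ((q.out : A) : G)⁻¹ * ((g * q.out : A) : G) ∈ B := h6
    rw [mem_cj]
    rw [Subgroup.coe_mul, ← mul_assoc] at h4
    exact h4
  · intro x
    obtain ⟨w, rfl⟩ := v.vec_surjective x
    by_cases hwD : (w : G) ∈ D
    · refine ⟨QuotientGroup.mk 1, ?_⟩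
      rw [(v.vec_eq_one).2 hwD]
      exact one_mem _
    · obtain ⟨b, hb, hbw⟩ := hst w w.2 hwD
      refine ⟨QuotientGroup.mk ⟨b, hb⟩, ?_⟩
      rw [hmk]
      exact (hstab b hb w hwD).2 hbw
  · intro q q' x hqq h1 h2
    obtain ⟨w, rfl⟩ := v.vec_surjective x
    by_contra h3
    have hwD := (v.vec_coe_ne_one).1 h3
    have h4 := (hstab _ q.out.2 w hwD).1 h1
    have h5 := (hstab _ q'.out.2 w hwD).1 h2
    exact hqq (hoe _ _ (hinj _ q.out.2 _ q'.out.2 (h4.symm.trans h5)))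
  · intro q
    have hx : v.vec ⟨w₀, hw₀⟩ ∈ v.fix hDn (cj a₀ B) := (hstab a₀ ha₀ ⟨w₀, hw₀⟩ hw₀D).2 ha₀w
    have hg : (q.out : G) * a₀⁻¹ ∈ P := hAP (mul_mem q.out.2 (inv_mem ha₀))
    refine ⟨v.act hDn ⟨(q.out : G) * a₀⁻¹, hg⟩ (v.vec ⟨w₀, hw₀⟩), ?_, ?_⟩
    · have h1 := (v.act_mem_fix hDn (⟨(q.out : G) * a₀⁻¹, hg⟩ : P)).2 hx
      have h2 : cj ((⟨(q.out : G) * a₀⁻¹, hg⟩ : P) : G) (cj a₀ B) = cj (q.out : G) B := by
        rw [← cj_mul, inv_mul_cancel_right]
      rw [h2] at h1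
      exact h1
    · intro h1
      rw [map_eq_one_iff _ (MulEquiv.injective _)] at h1
      exact hw₀D ((v.vec_eq_one).1 h1)
  · intro q d d' hd hd'
    have h1 : (q.out : G)⁻¹ * (d.out : G) ∉ B := fun h4 => hd (hoe _ _ h4).symm
    have h2 : (q.out : G)⁻¹ * (d'.out : G) ∉ B := fun h4 => hd' (hoe _ _ h4).symm
    obtain ⟨u, hu, hm⟩ := PP_trans e hS (A.mul_mem (A.inv_mem q.out.2) d.out.2) h1
      (A.mul_mem (A.inv_mem q.out.2) d'.out.2) h2
    have huA : u ∈ A := VV_le_PP' e S _ _ hu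
    have huB : u ∈ B := VV_le_PP e S _ hu
    refine ⟨q.out * ⟨u, huA⟩ * q.out⁻¹, hsm _ _ _ ?_, hsm _ _ _ ?_⟩
    · show ((q.out : A) : G)⁻¹ * ((q.out : A) * u * ((q.out : A) : G)⁻¹ * (q.out : A)) ∈ B
      have e1 : ((q.out : A) : G)⁻¹ * ((q.out : A) * u * ((q.out : A) : G)⁻¹ * (q.out : A)) = u := by group
      rw [e1]
      exact huB
    · show ((d'.out : A) : G)⁻¹ * ((q.out : A) * u * ((q.out : A) : G)⁻¹ * (d.out : A)) ∈ B
      have e1 : ((d'.out : A) : G)⁻¹ * ((q.out : A) * u * ((q.out : A) : G)⁻¹ * (d.out : A)) =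
          (((q.out : A) : G)⁻¹ * (d'.out : A))⁻¹ * u * (((q.out : A) : G)⁻¹ * (d.out : A)) := by group
      rw [e1]
      exact hm

/-- **own characteristic, rank at least two** (any relative rank): `p = 2` and `|U : V_j| = 2` for a node `j` -/
theorem own_R [Nontrivial I] (hS : Rk S) (h : EP H) (hN : MinN N H) (hk : 0 < k) (hR : SylIn H R p)
    (hRN : R ⊓ N = VV e S fun _ => ∅) (hDQ : ∀ J : Fin k → Set I, VV e S J ≠ ⊥ → DQ H e S J) :
    p = 2 ∧ ∃ j : I, (S.V {j}).relIndex (S.V ∅) = 2 := by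
  by_cases hrel : ∀ L : Fin k → Set I, Inv H e S L → (∀ i, L i ≠ Set.univ) → L = fun _ => ∅
  · obtain ⟨j₀⟩ : Nonempty I := inferInstance
    have hJ : ∀ i, sgl (⟨0, hk⟩ : Fin k) j₀ i ≠ Set.univ := by
      intro i h1
      by_cases hi : i = ⟨0, hk⟩
      · subst hi
        rw [sgl_same] at h1
        obtain ⟨j₁, hj₁⟩ := exists_ne j₀
        have h2 : j₁ ∈ ({j₀} : Set I) := by rw [h1]; trivial
        exact hj₁ h2
      · rw [sgl_ne hi] at h1
        exact Set.empty_ne_univ h1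
    obtain ⟨h1, h2⟩ := rel_one e hY hS h hN hrel hJ (hDQ _ (VV_ne_bot e (hJ ⟨0, hk⟩)))
    exact ⟨h1, j₀, h2⟩
  · push Not at hrel
    obtain ⟨L, hL, hL1, hL0⟩ := hrel
    obtain ⟨i₀, h0⟩ : ∃ i, L i ≠ ∅ := by
      by_contra hcon
      push Not at hcon
      exact hL0 (funext hcon)
    obtain ⟨hp, -, ⟨M, hM, hRM⟩, hall⟩ := own_B e hY hS h hN hR hRN hDQ hL h0 (hL1 i₀)
    obtain ⟨j, hj, -⟩ := hall M hM hRM
    exact ⟨hp, j, hj⟩

end

end Cfsg.Agent.H737.EPO
end

-- part: H284/EP/TCrit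
section
prune_inst 0x100009000700100000000000a000007030000102004000000000000208400400000188019890051200c00484403e4068101000008000000000000000011805a1100120e200340c00310000002000000000000000000000000000000000000000200000000
set_option linter.all false
open scoped Cfsg.Agent.FastGrp

-- part: H284/EP/Crit
section
/-!
# Extremely primitive groups: counting criteria (helper284; facts of helper598, helper902, helper67)

* `EPA.line_bound`, `EPA.card_eq_sum` (lines), `EPA.LP` (local principle);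
* expectation criterion `expectation`;
* `PS`: the prime Sylow criterion.
-/

set_option autoImplicit false
set_option linter.unusedSectionVars false

namespace Cfsg.Agent.H284

open MulAction Subgroup

variable {G : Type*} [Group G] {Ω : Type*} [MulAction G Ω]

/-- the points fixed by `M` -/
def fixPts (Ω : Type*) [MulAction G Ω] (M : Subgroup G) : Set Ω := {c | M ≤ stabilizer G c}

theorem mem_fixPts {M : Subgroup G} {c : Ω} : c ∈ fixPts Ω M ↔ M ≤ stabilizer G c := Iff.rfl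

open Classical in
theorem ncard_fixPts [Fintype Ω] (M : Subgroup G) :
    (fixPts Ω M).ncard = (Finset.univ.filter fun c : Ω => M ≤ stabilizer G c).card := by
  rw [Set.ncard_eq_toFinset_card']
  congr 1
  ext c
  rw [Set.mem_toFinset, Finset.mem_filter]
  exact ⟨fun h => ⟨Finset.mem_univ _, h⟩, fun h => h.2⟩

theorem cj_le_cj {x : G} {H K : Subgroup G} : cj x H ≤ cj x K ↔ H ≤ K := by
  constructor
  · intro h
    have := cj_mono (x := x⁻¹) h
    rwa [cj_inv_cj, cj_inv_cj] at this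
  · exact cj_mono

theorem smul_mem_fixPts {M : Subgroup G} {c : Ω} {g : G} : g • c ∈ fixPts Ω (cj g M) ↔ c ∈ fixPts Ω M := by
  rw [mem_fixPts, mem_fixPts, stab_smul, cj_le_cj]

namespace EPA

/-- the lines through `a` whose group contains `D` -/
def linesD (D : Subgroup G) (a : Ω) : Set (Subgroup G) := {M | M ∈ lines G a ∧ D ≤ M}

theorem cj_mem_lines {a : Ω} {M : Subgroup G} (g : G) : cj g M ∈ lines G (g • a) ↔ M ∈ lines G a := by
  have key : ∀ (g : G) (a : Ω) (M : Subgroup G), M ∈ lines G a → cj g M ∈ lines G (g • a) := by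
    rintro g a _ ⟨b, hb, rfl⟩
    refine ⟨g • b, fun e => hb (smul_left_cancel g e), ?_⟩
    rw [cj_inf, stab_smul, stab_smul]
  constructor
  · intro h
    have := key g⁻¹ _ _ h
    rwa [inv_smul_smul, cj_inv_cj] at this
  · exact key g a M

theorem ncard_linesD [Finite G] (D : Subgroup G) (a : Ω) (g : G) :
    (linesD (cj g D) (g • a)).ncard = (linesD D a).ncard := by
  symm
  refine Set.ncard_congr (fun M _ => cj g M) ?_ ?_ ?_
  · rintro M ⟨h1, h2⟩
    exact ⟨(cj_mem_lines g).2 h1, cj_mono h2⟩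
  · intro M N _ _ e
    have : cj g⁻¹ (cj g M) = cj g⁻¹ (cj g N) := congrArg _ e
    rwa [cj_inv_cj, cj_inv_cj] at this
  · rintro M ⟨h1, h2⟩
    refine ⟨cj g⁻¹ M, ⟨?_, ?_⟩, cj_cj_inv _ _⟩
    · rw [← cj_mem_lines g, cj_cj_inv]
      exact h1
    · rw [← cj_le_cj (x := g), cj_cj_inv]
      exact h2

variable (h : EPA G Ω)

include h

/-- **line bound**: for a point `c` of `fix(D)` off the line `fix(M)`, `D ≤ M` -/
theorem line_bound [Finite G] [Finite Ω] [FaithfulSMul G Ω] {a : Ω} {M D : Subgroup G} (hM : M ∈ lines G a)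
    (hDM : D ≤ M) {c : Ω} (hc : D ≤ stabilizer G c) (hcM : ¬ M ≤ stabilizer G c) :
    (fixPts Ω M).ncard ≤ (linesD D c).ncard := by
  obtain ⟨b, hb, rfl⟩ := hM
  refine Set.ncard_le_ncard_of_injOn (fun d => stabilizer G c ⊓ stabilizer G d) ?_ ?_ (Set.toFinite _)
  · intro d hd
    refine ⟨⟨d, fun e => hcM (e ▸ hd), rfl⟩, le_inf hc (hDM.trans hd)⟩
  · intro d hd d' hd' e
    by_contra hne
    apply hcM
    have e' : stabilizer G c ⊓ stabilizer G d = stabilizer G c ⊓ stabilizer G d' := e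
    have h1 := h.line_eq (a := c) (b := d) (c := d) (d := d') (fun e => hcM (e ▸ hd)) hne inf_le_right
      (by rw [e']; exact inf_le_right)
    have h2 := h.line_eq hb hne hd hd'
    rw [← h2, h1]
    exact inf_le_left

/-- the points are `a` and the points `≠ a` of the lines through `a` -/
theorem card_eq_sum [Finite G] [Finite Ω] [FaithfulSMul G Ω] (a : Ω) :
    Nat.card Ω = 1 + ∑ᶠ M ∈ lines G a, ((fixPts Ω M).ncard - 1) := by
  classical
  have := Fintype.ofFinite Ω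
  have hfin : (lines G a).Finite := Set.toFinite _
  rw [finsum_mem_eq_finite_toFinset_sum _ hfin]
  have h1 : (Finset.univ.erase a : Finset Ω).card =
      ∑ M ∈ hfin.toFinset, ((Finset.univ.filter fun c : Ω => M ≤ stabilizer G c).erase a).card := by
    rw [← Finset.card_biUnion]
    · congr 1
      ext b
      rw [Finset.mem_erase, Finset.mem_biUnion]
      constructor
      · intro hb
        refine ⟨stabilizer G a ⊓ stabilizer G b, ?_, ?_⟩
        · rw [Set.Finite.mem_toFinset]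
          exact ⟨b, hb.1, rfl⟩
        · rw [Finset.mem_erase, Finset.mem_filter]
          exact ⟨hb.1, Finset.mem_univ _, inf_le_right⟩
      · rintro ⟨M, _, hM⟩
        rw [Finset.mem_erase] at hM
        exact ⟨hM.1, Finset.mem_univ _⟩
    · intro M hM N hN hMN
      rw [Function.onFun, Finset.disjoint_left]
      intro c hc hc'
      apply hMN
      rw [SetLike.mem_coe, Set.Finite.mem_toFinset] at hM hN
      rw [Finset.mem_erase, Finset.mem_filter] at hc hc'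
      obtain ⟨b, hb, rfl⟩ := hM
      obtain ⟨d, hd, rfl⟩ := hN
      rw [← h.stab_eq hb hc.1 hc.2.2, ← h.stab_eq hd hc'.1 hc'.2.2]
  have h2 : ∀ M ∈ hfin.toFinset, ((Finset.univ.filter fun c : Ω => M ≤ stabilizer G c).erase a).card =
      (fixPts Ω M).ncard - 1 := by
    intro M hM
    rw [Set.Finite.mem_toFinset] at hM
    obtain ⟨b, hb, rfl⟩ := hM
    rw [Finset.card_erase_of_mem]
    · congr 1
      rw [ncard_fixPts]
    · rw [Finset.mem_filter]
      exact ⟨Finset.mem_univ _, inf_le_left⟩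
  rw [← Finset.sum_congr rfl h2, ← h1, Finset.card_erase_of_mem (Finset.mem_univ a), Finset.card_univ,
    Nat.card_eq_fintype_card]
  have : 0 < Fintype.card Ω := Fintype.card_pos_iff.2 ⟨a⟩
  omega

end EPA

/-! ### group form -/

namespace EP

variable {H : Subgroup G}

/-- the two point stabilisers `H ∩ H^x` containing `D` -/
def twoSetD (H D : Subgroup G) : Set (Subgroup G) := {M | M ∈ twoSet H ∧ D ≤ M}

theorem twoSetD_eq (H D : Subgroup G) : EPA.linesD D ((1 : G) : G ⧸ H) = twoSetD H D := by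
  rw [EPA.linesD, twoSet_eq]
  rfl

theorem stab_coe (x : G) : stabilizer G (x : G ⧸ H) = cj x H := by
  have h1 : (x : G ⧸ H) = x • ((1 : G) : G ⧸ H) := by
    rw [MulAction.Quotient.smul_coe, smul_eq_mul, mul_one]
  rw [h1, stab_smul, MulAction.stabilizer_quotient]

/-- the number of points of `G/H` fixed by `M` -/
noncomputable def nfix (H M : Subgroup G) : ℕ := {c : G ⧸ H | ∀ m ∈ M, m • c = c}.ncard

theorem nfix_eq (H M : Subgroup G) : nfix H M = (fixPts (G ⧸ H) M).ncard := rfl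

variable (h : EP H)

include h

/-- `|G : H| = 1 + ∑_M (|fix M| - 1)` -/
theorem index_eq_sum [Finite G] : H.index = 1 + ∑ᶠ M ∈ twoSet H, (nfix H M - 1) := by
  have := h.faithful
  have h1 := h.toEPA.card_eq_sum ((1 : G) : G ⧸ H)
  rw [twoSet_eq] at h1
  exact h1

/-- **line bound** -/
theorem line_bound [Finite G] {M D : Subgroup G} (hM : M ∈ twoSet H) (hDM : D ≤ M) {y : G} (hy : D ≤ cj y H)
    (hyM : ¬ M ≤ cj y H) : nfix H M ≤ (twoSetD H (cj y⁻¹ D)).ncard := by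
  have := h.faithful
  have h1 := h.toEPA.line_bound (a := ((1 : G) : G ⧸ H)) (M := M) (D := D) (by rw [twoSet_eq]; exact hM) hDM
    (c := (y : G ⧸ H)) (by rw [stab_coe]; exact hy) (by rw [stab_coe]; exact hyM)
  have h2 := EPA.ncard_linesD (G := G) (Ω := G ⧸ H) D (y : G ⧸ H) y⁻¹
  rw [MulAction.Quotient.smul_coe, smul_eq_mul, inv_mul_cancel, twoSetD_eq] at h2
  rw [nfix_eq, h2]
  exact h1

end EP

end Cfsg.Agent.H284
end

-- part: H284/EP/TCrit
section
/-!
# Extremely primitive groups: the counting criteria in the `T`-form (helper284)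

`EPT A Γ` gives back an extremely primitive pair `EP H` in the group `𝒢 = Γ Inn(Q) ≤ Aut(Q)`; with it (LP), the line
bound and the number of lines are transferred to `A ≤ Q`.
-/

set_option autoImplicit false
set_option linter.unusedSectionVars false

namespace Cfsg.Agent.H284

open MulAction Subgroup

namespace EPT

variable {Q : Type*} [Group Q]

/-- the almost simple group `Γ Inn(Q)` -/
def GG (Γ : Subgroup (MulAut Q)) : Subgroup (MulAut Q) := Γ ⊔ (MulAut.conj : Q →* MulAut Q).range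

/-- `Γ` in `GG Γ` -/
def HH (Γ : Subgroup (MulAut Q)) : Subgroup (GG Γ) := Γ.subgroupOf (GG Γ)

theorem mem_HH {Γ : Subgroup (MulAut Q)} {g : GG Γ} : g ∈ HH Γ ↔ (g : MulAut Q) ∈ Γ := Iff.rfl

/-- `Q` in `GG Γ` -/
def jj (Γ : Subgroup (MulAut Q)) : Q →* GG Γ :=
  (MulAut.conj : Q →* MulAut Q).codRestrict (GG Γ) fun q => (le_sup_right : _ ≤ GG Γ) ⟨q, rfl⟩

theorem jj_conj (Γ : Subgroup (MulAut Q)) (g : GG Γ) (q : Q) : g * jj Γ q * g⁻¹ = jj Γ ((g : MulAut Q) q) := by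
  apply Subtype.ext
  show (g : MulAut Q) * MulAut.conj q * (g : MulAut Q)⁻¹ = MulAut.conj _
  exact aut_conj _ _

variable {A : Subgroup Q} {Γ : Subgroup (MulAut Q)} (h : EPT A Γ)

include h

theorem jj_mem {q : Q} : jj Γ q ∈ HH Γ ↔ q ∈ A := h.conj q

theorem jj_inj : Function.Injective (jj Γ) := by
  obtain ⟨x, hx⟩ := h.exists_notMem
  have hZ : center Q = ⊥ := by
    have hZA : center Q ≤ A := by
      intro z hz
      apply h.selfnorm
      intro a ha
      rw [mem_center_iff] at hz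
      rw [← hz a, mul_inv_cancel_right]
      exact ha
    apply h.F1 x hx (center Q) hZA
    · intro σ _ k hk
      rw [mem_center_iff] at hk ⊢
      intro g
      have h1 := hk (σ⁻¹ g)
      have h2 := congrArg σ h1
      rw [map_mul, map_mul, MulAut.apply_inv_self] at h2
      exact h2
    · intro z hz
      rw [mem_cj]
      have h1 := mem_center_iff.1 hz x
      rw [mul_assoc, ← h1, inv_mul_cancel_left]
      exact hZA hz
  rw [injective_iff_map_eq_one]
  intro q hq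
  have h1 : q ∈ center Q := by
    rw [mem_center_iff]
    intro g
    have h2 : MulAut.conj q = 1 := Subtype.ext_iff.1 hq
    have h3 : q * g * q⁻¹ = g := by
      have := congrArg (fun σ : MulAut Q => σ g) h2
      exact this
    rw [mul_inv_eq_iff_eq_mul] at h3
    exact h3.symm
  rw [hZ, mem_bot] at h1
  exact h1

omit h in
theorem exists_jj (g : GG Γ) : ∃ q : Q, ∃ a ∈ HH Γ, g = jj Γ q * a := by
  have hn : ∀ m ∈ Γ, ∀ n ∈ (MulAut.conj : Q →* MulAut Q).range, m * n * m⁻¹ ∈ (MulAut.conj : Q →* MulAut Q).range := by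
    rintro m _ _ ⟨q, rfl⟩
    exact ⟨m q, (aut_conj m q).symm⟩
  obtain ⟨_, ⟨q, rfl⟩, m, hm, e⟩ := mem_sup_norm hn g.2
  exact ⟨q, ⟨m, (le_sup_left : Γ ≤ GG Γ) hm⟩, hm, Subtype.ext e⟩

theorem stab_iff {g : GG Γ} (hg : g ∈ HH Γ) (x : Q) : g ∈ cj (jj Γ x) (HH Γ) ↔ x⁻¹ * (g : MulAut Q) x ∈ A := by
  rw [mem_cj, ← jj_mem h, map_mul, map_inv, ← jj_conj]
  have e1 : (jj Γ x)⁻¹ * (g * jj Γ x * g⁻¹) = (jj Γ x)⁻¹ * g * jj Γ x * g⁻¹ := by group
  rw [e1]
  exact (Subgroup.mul_mem_cancel_right (HH Γ) ((HH Γ).inv_mem hg)).symm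

omit h in
theorem exists_cj (x : GG Γ) : ∃ q : Q, cj x (HH Γ) = cj (jj Γ q) (HH Γ) ∧ (x ∈ HH Γ ↔ jj Γ q ∈ HH Γ) := by
  obtain ⟨q, a, ha, rfl⟩ := exists_jj x
  refine ⟨q, ?_, Subgroup.mul_mem_cancel_right _ ha⟩
  rw [cj_mul, cj_eq_self ha]

/-- **`EPT` gives an extremely primitive pair.** -/
theorem toEP : EP (HH Γ) := by
  obtain ⟨x₀, hx₀⟩ := h.exists_notMem
  refine ⟨⟨?_, ?_⟩, ?_, ?_, ?_⟩
  · intro e
    apply hx₀
    rw [← jj_mem h, e]
    exact mem_top _
  · intro L hL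
    have h1 : A < L.comap (jj Γ) := by
      refine lt_of_le_of_ne (fun a ha => hL.le ((jj_mem h).2 ha)) ?_
      intro e
      apply hL.not_ge
      intro g hg
      obtain ⟨q, a, ha, rfl⟩ := exists_jj g
      have h2 : q ∈ L.comap (jj Γ) := (Subgroup.mul_mem_cancel_right L (hL.le ha)).1 hg
      rw [← e] at h2
      exact (HH Γ).mul_mem ((jj_mem h).2 h2) ha
    have h2 := h.max.2 _ h1
    rw [Subgroup.eq_top_iff']
    intro g
    obtain ⟨q, a, ha, rfl⟩ := exists_jj g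
    refine L.mul_mem ?_ (hL.le ha)
    have : q ∈ L.comap (jj Γ) := by rw [h2]; exact mem_top _
    exact this
  · -- core
    set N := (HH Γ).normalCore with hN
    have hNn : N.Normal := Subgroup.normalCore_normal (HH Γ)
    have hcore : ∀ k ∈ N, k ∈ HH Γ := fun k hk => Subgroup.normalCore_le (HH Γ) hk
    clear_value N
    have h1 := h.F1' x₀ hx₀ (N.map (GG Γ).subtype) (by
      rintro _ ⟨k, hk, rfl⟩
      exact mem_HH.1 (hcore k hk)) (by
      rintro σ hσ _ ⟨k, hk, rfl⟩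
      exact ⟨(⟨σ, (le_sup_left : Γ ≤ GG Γ) hσ⟩ * k * ⟨σ, (le_sup_left : Γ ≤ GG Γ) hσ⟩⁻¹ :), hNn.conj_mem k hk _, rfl⟩) (by
      rintro _ ⟨k, hk, rfl⟩
      rw [Subgroup.subtype_apply, ← stab_iff h (hcore k hk), mem_cj]
      have := hNn.conj_mem k hk (jj Γ x₀)⁻¹
      rw [inv_inv] at this
      exact hcore _ this)
    rwa [Subgroup.map_eq_bot_iff_of_injective _ (GG Γ).subtype_injective] at h1
  · intro e
    obtain ⟨a, ha⟩ := Subgroup.ne_bot_iff_exists_ne_one.1 h.ne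
    have h1 : jj Γ a ∈ HH Γ := (jj_mem h).2 a.2
    rw [e, mem_bot] at h1
    exact ha (Subtype.ext (jj_inj h (h1.trans (map_one _).symm)))
  · intro x hx L h1 h2
    obtain ⟨q, e1, e2⟩ := exists_cj x
    rw [e1] at h1 ⊢
    have hq : q ∉ A := fun e => hx (e2.2 ((jj_mem h).2 e))
    have hLΓ : L.map (GG Γ).subtype ≤ Γ := by
      rintro _ ⟨k, hk, rfl⟩
      exact h2 hk
    rcases h.two q hq (L.map (GG Γ).subtype) hLΓ (by
      intro σ hσ hσx
      refine ⟨⟨σ, (le_sup_left : Γ ≤ GG Γ) hσ⟩, h1 ⟨hσ, ?_⟩, rfl⟩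
      exact (stab_iff h (g := ⟨σ, (le_sup_left : Γ ≤ GG Γ) hσ⟩) hσ q).2 hσx) with h3 | h3
    · right
      apply le_antisymm h2
      intro g hg
      have h4 : (g : MulAut Q) ∈ L.map (GG Γ).subtype := by rw [h3]; exact hg
      exact (Subgroup.mem_map_iff_mem (GG Γ).subtype_injective).1 h4
    · left
      apply le_antisymm _ h1
      intro g hg
      exact ⟨h2 hg, (stab_iff h (h2 hg) q).2 (h3 _ ⟨g, hg, rfl⟩)⟩

omit h in
/-- the subgroups `A ∩ A^x` -/
def M0set (A : Subgroup Q) : Set (Subgroup Q) := {M | ∃ x, x ∉ A ∧ M = A ⊓ cj x A}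

omit h in
/-- the subgroups `A ∩ A^x` containing `D` -/
def M0setD (A D : Subgroup Q) : Set (Subgroup Q) := {M | M ∈ M0set A ∧ D ≤ M}

theorem comap_cj (x : Q) : (cj (jj Γ x) (HH Γ)).comap (jj Γ) = cj x A := by
  ext q
  rw [mem_comap, mem_cj, mem_cj, ← map_inv, ← map_mul, ← map_mul, jj_mem h]

theorem comap_M (x : Q) : (HH Γ ⊓ cj (jj Γ x) (HH Γ)).comap (jj Γ) = A ⊓ cj x A := by
  rw [Subgroup.comap_inf, comap_cj h]
  congr 1
  ext q
  exact jj_mem h

theorem le_comap_iff {D : Subgroup Q} {M : Subgroup (GG Γ)} : D.map (jj Γ) ≤ M ↔ D ≤ M.comap (jj Γ) :=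
  Subgroup.map_le_iff_le_comap

/-- the correspondence between the two point stabilisers in `H` and the `A ∩ A^x` -/
theorem comap_bijOn [Finite Q] (D : Subgroup Q) :
    Set.BijOn (fun M : Subgroup (GG Γ) => M.comap (jj Γ)) (EP.twoSetD (HH Γ) (D.map (jj Γ))) (M0setD A D) := by
  have hEP := toEP h
  have hnorm : ∀ (M : Subgroup (GG Γ)) (m : GG Γ), m ∈ M → ∀ k ∈ M.comap (jj Γ), (m : MulAut Q) k ∈ M.comap (jj Γ) := by
    intro M m hm k hk
    rw [mem_comap, ← jj_conj]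
    exact M.mul_mem (M.mul_mem hm hk) (M.inv_mem hm)
  have key : ∀ x y : Q, x ∉ A → y ∉ A → A ⊓ cj x A = A ⊓ cj y A →
      HH Γ ⊓ cj (jj Γ y) (HH Γ) ≤ HH Γ ⊓ cj (jj Γ x) (HH Γ) := by
    intro x y hx _ he m hm
    refine ⟨(mem_inf.1 hm).1, (stab_iff h (mem_inf.1 hm).1 x).2 ?_⟩
    apply h.norm x hx (A ⊓ cj x A) le_rfl (fun σ hσ hσx k hk => h.stab_M0 hσ hσx hk) (h.M0 x hx) _ (mem_inf.1 hm).1
    intro k hk
    rw [he, ← comap_M h] at hk ⊢
    exact hnorm _ m hm k hk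
  refine ⟨?_, ?_, ?_⟩
  · rintro M ⟨⟨x, hx, rfl⟩, hD⟩
    obtain ⟨q, e1, e2⟩ := exists_cj x
    have hq : q ∉ A := fun e => hx (e2.2 ((jj_mem h).2 e))
    rw [e1] at hD
    refine ⟨⟨q, hq, ?_⟩, ?_⟩
    · show (HH Γ ⊓ cj x (HH Γ)).comap (jj Γ) = _
      rw [e1, comap_M h]
    · show D ≤ (HH Γ ⊓ cj x (HH Γ)).comap (jj Γ)
      rw [e1]
      exact (le_comap_iff h).1 hD
  · rintro M ⟨⟨x, hx, rfl⟩, -⟩ N ⟨⟨y, hy, rfl⟩, -⟩ he
    obtain ⟨p, e1, e2⟩ := exists_cj x
    obtain ⟨q, e3, e4⟩ := exists_cj y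
    have hp : p ∉ A := fun e => hx (e2.2 ((jj_mem h).2 e))
    have hq : q ∉ A := fun e => hy (e4.2 ((jj_mem h).2 e))
    have he' : (HH Γ ⊓ cj x (HH Γ)).comap (jj Γ) = (HH Γ ⊓ cj y (HH Γ)).comap (jj Γ) := he
    rw [e1, e3, comap_M h, comap_M h] at he'
    rw [e1, e3]
    exact le_antisymm (key q p hq hp he'.symm) (key p q hp hq he')
  · rintro _ ⟨⟨x, hx, rfl⟩, hD⟩
    refine ⟨HH Γ ⊓ cj (jj Γ x) (HH Γ), ⟨⟨jj Γ x, fun e => hx ((jj_mem h).1 e), rfl⟩, ?_⟩, comap_M h x⟩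
    rw [le_comap_iff h, comap_M h]
    exact hD

theorem ncard_twoSetD [Finite Q] (D : Subgroup Q) :
    (EP.twoSetD (HH Γ) (D.map (jj Γ))).ncard = (M0setD A D).ncard := by
  have h1 := comap_bijOn h D
  rw [← h1.image_eq, Set.InjOn.ncard_image h1.injOn]

theorem finite_GG [Finite Q] : Finite (GG Γ) := by
  have : Finite (MulAut Q) := inferInstance
  infer_instance

theorem map_cj (D : Subgroup Q) (c : Q) : cj (jj Γ c) (D.map (jj Γ)) = (cj c D).map (jj Γ) := by
  rw [cj, cj, Subgroup.map_map, Subgroup.map_map]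
  congr 1
  ext q
  show ((jj Γ c * jj Γ q * (jj Γ c)⁻¹ : GG Γ) : MulAut Q) _ = ((jj Γ (c * q * c⁻¹) : GG Γ) : MulAut Q) _
  rw [map_mul, map_mul, map_inv]

omit h in
/-- the number of points of the line of `M = A ∩ A^x`: the points `c = 1` and those with `A ∩ A^c = M` -/
noncomputable def nline (A M : Subgroup Q) : ℕ :=
  {c : Q ⧸ A | c = ((1 : Q) : Q ⧸ A) ∨ A ⊓ stabilizer Q c = M}.ncard

/-- **line bound**: `D ≤ M`, `D ≤ A^y`, `y` not on the line of `M` -/
theorem line_bound [Finite Q] {M D : Subgroup Q} (hM : M ∈ M0set A) (hDM : D ≤ M) {y : Q} (hyA : y ∉ A)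
    (hy : D ≤ cj y A) (hyM : A ⊓ cj y A ≠ M) : nline A M ≤ (M0setD A (cj y⁻¹ D)).ncard := by
  have := finite_GG h
  have hEP := toEP h
  obtain ⟨x, hx, rfl⟩ := hM
  have hxH : jj Γ x ∉ HH Γ := fun e => hx ((jj_mem h).1 e)
  have hbot : ∀ D : Subgroup Q, (⊥ : Subgroup Q) ≤ D := fun D => bot_le
  have hinj := (comap_bijOn h ⊥).injOn
  have hmemb : ∀ z : Q, z ∉ A → HH Γ ⊓ cj (jj Γ z) (HH Γ) ∈ EP.twoSetD (HH Γ) ((⊥ : Subgroup Q).map (jj Γ)) := by
    intro z hz
    refine ⟨⟨jj Γ z, fun e => hz ((jj_mem h).1 e), rfl⟩, ?_⟩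
    rw [Subgroup.map_bot]
    exact bot_le
  have hstab : ∀ z : Q, stabilizer Q (z : Q ⧸ A) = cj z A := fun z => EP.stab_coe z
  -- two points with the same `M0`
  have hsame : ∀ z : Q, z ∉ A → (HH Γ ⊓ cj (jj Γ x) (HH Γ) ≤ cj (jj Γ z) (HH Γ) ↔ A ⊓ cj z A = A ⊓ cj x A) := by
    intro z hz
    constructor
    · intro h1
      rcases hEP.two _ hxH (HH Γ ⊓ cj (jj Γ z) (HH Γ)) (le_inf inf_le_left h1) inf_le_left with h2 | h2
      · have h3 := congrArg (fun M : Subgroup (GG Γ) => M.comap (jj Γ)) h2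
        rw [comap_M h, comap_M h] at h3
        exact h3
      · exfalso
        exact hEP.not_le_cj (fun e => hz ((jj_mem h).1 e)) (inf_eq_left.1 h2)
    · intro h1
      have h2 : HH Γ ⊓ cj (jj Γ z) (HH Γ) = HH Γ ⊓ cj (jj Γ x) (HH Γ) := by
        apply hinj (hmemb z hz) (hmemb x hx)
        show (HH Γ ⊓ cj (jj Γ z) (HH Γ)).comap (jj Γ) = (HH Γ ⊓ cj (jj Γ x) (HH Γ)).comap (jj Γ)
        rw [comap_M h, comap_M h, h1]
      rw [← h2]
      exact inf_le_right
  have h1 := hEP.line_bound (M := HH Γ ⊓ cj (jj Γ x) (HH Γ)) (D := D.map (jj Γ)) ⟨jj Γ x, hxH, rfl⟩ (by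
      rw [le_comap_iff h, comap_M h]; exact hDM) (y := jj Γ y) (by
      rw [le_comap_iff h, comap_cj h]; exact hy) (by
      intro e
      exact hyM ((hsame y hyA).1 e))
  rw [← map_inv, map_cj h, ncard_twoSetD h] at h1
  refine le_trans ?_ h1
  -- the map of the points
  let φ : Q ⧸ A → GG Γ ⧸ HH Γ := fun c => ((jj Γ c.out : GG Γ) : GG Γ ⧸ HH Γ)
  have hφ : ∀ q : Q, φ (q : Q ⧸ A) = ((jj Γ q : GG Γ) : GG Γ ⧸ HH Γ) := by
    intro q
    show ((jj Γ (Quotient.out (q : Q ⧸ A)) : GG Γ) : GG Γ ⧸ HH Γ) = ((jj Γ q : GG Γ) : GG Γ ⧸ HH Γ)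
    have h1 : ((Quotient.out (q : Q ⧸ A) : Q) : Q ⧸ A) = (q : Q ⧸ A) := QuotientGroup.out_eq' _
    have h2 := QuotientGroup.eq.1 h1
    rw [QuotientGroup.eq, ← map_inv, ← map_mul, jj_mem h]
    exact h2
  have hφi : Function.Injective φ := by
    intro c d hcd
    induction c using QuotientGroup.induction_on with
    | H x =>
      induction d using QuotientGroup.induction_on with
      | H y =>
        rw [hφ, hφ, QuotientGroup.eq, ← map_inv, ← map_mul, jj_mem h] at hcd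
        rw [QuotientGroup.eq]
        exact hcd
  refine Set.ncard_le_ncard_of_injOn φ ?_ hφi.injOn (Set.toFinite _)
  intro c hc m hm
  induction c using QuotientGroup.induction_on with
  | H z =>
    have h3 : m ∈ stabilizer (GG Γ) (φ (z : Q ⧸ A)) := by
      rw [hφ, EP.stab_coe]
      by_cases hz : z ∈ A
      · rw [cj_eq_self ((jj_mem h).2 hz)]
        exact (mem_inf.1 hm).1
      · rcases hc with hc | hc
        · exfalso
          apply hz
          have := QuotientGroup.eq.1 hc.symm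
          rwa [inv_one, one_mul] at this
        · rw [hstab] at hc
          exact (hsame z hz).2 hc hm
    exact h3

omit h in
/-- `|Q : A| = 1 + ∑ (nline - 1)` -/
theorem index_eq_sum [Finite Q] (A : Subgroup Q) : A.index = 1 + ∑ᶠ M ∈ M0set A, (nline A M - 1) := by
  classical
  have := Fintype.ofFinite (Q ⧸ A)
  have hfin : (M0set A).Finite := Set.toFinite _
  rw [finsum_mem_eq_finite_toFinset_sum _ hfin]
  have hstab : ∀ z : Q, stabilizer Q (z : Q ⧸ A) = cj z A := fun z => EP.stab_coe z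
  have h1 : (Finset.univ.erase ((1 : Q) : Q ⧸ A)).card = ∑ M ∈ hfin.toFinset,
      ((Finset.univ.filter fun c : Q ⧸ A => c = ((1 : Q) : Q ⧸ A) ∨ A ⊓ stabilizer Q c = M).erase
        ((1 : Q) : Q ⧸ A)).card := by
    rw [← Finset.card_biUnion]
    · congr 1
      ext b
      rw [Finset.mem_erase, Finset.mem_biUnion]
      constructor
      · intro hb
        refine ⟨A ⊓ stabilizer Q b, ?_, ?_⟩
        · rw [Set.Finite.mem_toFinset]
          induction b using QuotientGroup.induction_on with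
          | H z =>
            refine ⟨z, fun hz => hb.1 ?_, by rw [hstab]⟩
            rw [eq_comm, QuotientGroup.eq, inv_one, one_mul]
            exact hz
        · rw [Finset.mem_erase, Finset.mem_filter]
          exact ⟨hb.1, Finset.mem_univ _, Or.inr rfl⟩
      · rintro ⟨M, _, hM⟩
        rw [Finset.mem_erase] at hM
        exact ⟨hM.1, Finset.mem_univ _⟩
    · intro M _ N _ hMN
      rw [Function.onFun, Finset.disjoint_left]
      intro c hc hc'
      apply hMN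
      rw [Finset.mem_erase, Finset.mem_filter] at hc hc'
      rw [← hc.2.2.resolve_left hc.1, ← hc'.2.2.resolve_left hc'.1]
  have h2 : ∀ M ∈ hfin.toFinset,
      ((Finset.univ.filter fun c : Q ⧸ A => c = ((1 : Q) : Q ⧸ A) ∨ A ⊓ stabilizer Q c = M).erase
        ((1 : Q) : Q ⧸ A)).card = nline A M - 1 := by
    intro M _
    rw [Finset.card_erase_of_mem]
    · congr 1
      rw [nline, Set.ncard_eq_toFinset_card']
      congr 1
      ext c
      rw [Finset.mem_filter, Set.mem_toFinset]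
      exact ⟨fun h => h.2, fun h => ⟨Finset.mem_univ _, h⟩⟩
    · rw [Finset.mem_filter]
      exact ⟨Finset.mem_univ _, Or.inl rfl⟩
  rw [← Finset.sum_congr rfl h2, ← h1, Finset.card_erase_of_mem (Finset.mem_univ _), Finset.card_univ,
    Subgroup.index, Nat.card_eq_fintype_card]
  have : 0 < Fintype.card (Q ⧸ A) := Fintype.card_pos_iff.2 ⟨((1 : Q) : Q ⧸ A)⟩
  omega

omit h in
/-- if all lines have at most `k + 1` points -/
theorem index_le_of_lines [Finite Q] (A : Subgroup Q) {k : ℕ} (hk : ∀ M ∈ M0set A, nline A M ≤ k + 1) :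
    A.index ≤ 1 + (M0set A).ncard * k := by
  classical
  rw [index_eq_sum A]
  have hfin : (M0set A).Finite := Set.toFinite _
  rw [finsum_mem_eq_finite_toFinset_sum _ hfin]
  apply Nat.add_le_add_left
  refine (Finset.sum_le_card_nsmul _ _ k ?_).trans ?_
  · intro M hM
    rw [Set.Finite.mem_toFinset] at hM
    have := hk M hM
    omega
  · rw [smul_eq_mul, ← Set.ncard_eq_toFinset_card _ hfin]

end EPT

end Cfsg.Agent.H284
end

private theorem dce_2f80fc2e6563 : _root_.True := by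
  try have : _root_.True := by simp only [_root_.Cfsg.Agent.H284.EPT.nline.eq_1]
  try have : _root_.True := by simp only [_root_.Cfsg.Agent.H284.cj.eq_1]
  try have : _root_.True := by simp only [_root_.Cfsg.Agent.H284.EPA.linesD.eq_1]
  exact _root_.True.intro
end

-- part: H470/EPO/GSide
section
set_option linter.all false
open scoped Cfsg.Agent.FastGrp

/-!
# The `G`-side of the own characteristic case (helper470, S3499 layer VII)

* `exists_canonV` : Borel–Tits, canonical form: a nontrivial `p`-subgroup `D` of a group with root group datum lies in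
  `V_J^g`, where `V_J^g` and `P_J^g` are fixed by all automorphisms fixing `D`;
* `eq_PJ_of` : a proper subgroup containing some `V_J^g` which is maximal among the subgroups invariant under a set of
  automorphisms is parabolic;
* `exists_QQ` : the `p`-group `QQ` of helper284's `exists_vecB`.
-/

set_option autoImplicit false
set_option linter.unusedSectionVars false

namespace Cfsg.Agent.H470.EPO

open CoxeterSystem Cfsg.Agent.ChevalleyStructure.CoxeterGeom Cfsg.Agent.Tits.Roots Cfsg.Agent.Tits.Core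
  Cfsg.Agent.Tits.RootComb Cfsg.Agent.Tits.Exchange Cfsg.Agent.Nodes.Reps Cfsg.Agent.Nodes.BNOf
  Cfsg.Agent.Nodes.StabComb Cfsg.Agent.Nodes.Bruhat Cfsg.Agent.Nodes.OppDec Cfsg.Agent.Nodes.LeviDec
  Cfsg.Agent.Nodes.Coroot Cfsg.Agent.KFacts.RgdPar Cfsg.Agent.KFacts.RgdSL Cfsg.Agent.KFacts.RgdVJ
  Cfsg.Agent.KFacts.RgdCharP Cfsg.Agent.H470.EPK

variable {I W Y : Type*} [Fintype I] [DecidableEq I] [Group W] [Group Y] {M : CoxeterMatrix I}
  {cs : CoxeterSystem M W} {A : I → I → ℤ} {h : IsCartan M A} {p : ℕ} {T : Subgroup Y} {n : I → Y}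
  {X : (I → ℤ) → Subgroup Y}

variable (R : RGD cs h p T n X)

include R

theorem VJ_ne_bot {J : Set I} (hJ : J ≠ Set.univ) : VJ cs h X J ≠ ⊥ := by
  obtain ⟨i, hi⟩ : ∃ i, i ∉ J := by
    by_contra hcon
    push Not at hcon
    exact hJ (Set.eq_univ_of_forall hcon)
  intro h5
  have h4 : X (sr i) ≤ VJ cs h X J := RGD.le_Sup (sr_mem_NotJ hi)
  exact X_ne_bot R (isRoot_sr cs h i) (le_bot_iff.1 (h5 ▸ h4))

theorem PJ_ne_top [Finite W] {J : Set I} (hJ : J ≠ Set.univ) : PJ cs h T X J ≠ ⊤ := by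
  obtain ⟨i, hi⟩ : ∃ i, i ∉ J := by
    by_contra hcon
    push Not at hcon
    exact hJ (Set.eq_univ_of_forall hcon)
  intro h1
  have h2 : n i ∈ PJ cs h T X J := by rw [h1]; exact Subgroup.mem_top _
  rw [cell_mem_PJ_iff R (cell_of_rp (rp_simple cs R.nsys i))] at h2
  have h3 : rep cs h (cs.simple i) (sr i) ∈ NotJ cs h J := NotJ.act h2 (sr_mem_NotJ hi)
  have h4 : rep cs h (cs.simple i) (sr i) = -sr i := rep_simple_sr cs h i
  rw [h4] at h3
  have h5 := h3.2.1 i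
  rw [Pi.neg_apply, sr_self] at h5
  norm_num at h5

theorem cj_PJ_ne_top [Finite W] {J : Set I} (hJ : J ≠ Set.univ) (g : Y) : cj g (PJ cs h T X J) ≠ ⊤ := by
  intro h1
  apply PJ_ne_top R hJ
  rw [← cj_inv_cj g (PJ cs h T X J), h1]
  exact Subgroup.map_top_of_surjective _ (MulAut.conj g⁻¹).surjective

theorem cj_VJ_ne_bot {J : Set I} (hJ : J ≠ Set.univ) (g : Y) : cj g (VJ cs h X J) ≠ ⊥ := by
  intro h1
  apply VJ_ne_bot R hJ
  rw [← cj_inv_cj g (VJ cs h X J), h1]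
  exact Subgroup.map_bot _

omit R in
theorem le_core [Finite Y] [Fact p.Prime] {N A : Subgroup Y} (hAN : A ≤ N)
    (hn : ∀ g ∈ N, ∀ a ∈ A, g * a * g⁻¹ ∈ A) (hA : IsPGroup p A) : A ≤ (pCore p ↥N).map N.subtype := by
  have hAn : (A.subgroupOf N).Normal := by
    refine ⟨fun a ha g => ?_⟩
    rw [Subgroup.mem_subgroupOf] at ha ⊢
    exact hn g g.2 a ha
  have h1 := Lib.Cores.le_pCore hAn (hA.comap_subtype (K := N))
  have h2 := Subgroup.map_mono (f := N.subtype) h1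
  rwa [Subgroup.subgroupOf_map_subtype, inf_eq_left.2 hAN] at h2

theorem PJ_le_norm [Finite W] {J : Set I} {g : Y} :
    cj g (PJ cs h T X J) ≤ Subgroup.normalizer (cj g (VJ cs h X J) : Set Y) := by
  rintro _ ⟨a, ha, rfl⟩
  have h5 : cj a (VJ cs h X J) = VJ cs h X J := mem_normalizer_iff_cj.1 (PJ_le_normalizer_VJ R J ha)
  rw [mem_normalizer_iff_cj]
  show cj (g * a * g⁻¹) (cj g (VJ cs h X J)) = _
  rw [← cj_mul, inv_mul_cancel_right, cj_mul, h5]

/-- **canonical Borel–Tits** -/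
theorem exists_canonV [Finite W] [Finite Y] [Fact p.Prime] (hBT : BT cs h p T X) {D : Subgroup Y}
    (hp : IsPGroup p D) (h1 : D ≠ ⊥) :
    ∃ (J : Set I) (g : Y), J ≠ Set.univ ∧ D ≤ cj g (VJ cs h X J) ∧
      (∀ φ : MulAut Y, H459.Gallery.Iv φ D → H459.Gallery.Iv φ (cj g (VJ cs h X J))) ∧
      ∀ φ : MulAut Y, H459.Gallery.Iv φ D → H459.Gallery.Iv φ (cj g (PJ cs h T X J)) := by
  classical
  obtain ⟨Q, ⟨hQ1, hQ2, hQ3⟩, hmax⟩ := Set.exists_max_image {Q : Subgroup Y | D ≤ Q ∧ IsPGroup p Q ∧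
      ∀ φ : MulAut Y, H459.Gallery.Iv φ D → H459.Gallery.Iv φ Q}
    (fun Q => Nat.card Q) (Set.toFinite _) ⟨D, le_rfl, hp, fun φ hφ => hφ⟩
  have hQne : Q ≠ ⊥ := fun h2 => h1 (le_bot_iff.1 (h2 ▸ hQ1))
  set N := Subgroup.normalizer (Q : Set Y) with hNd
  have hNφ : ∀ φ : MulAut Y, H459.Gallery.Iv φ D → H459.Gallery.Iv φ N := fun φ hφ => iv_normalizer (hQ3 φ hφ)
  have hQN : Q ≤ N := Subgroup.le_normalizer
  have hQO : Q ≤ (pCore p ↥N).map N.subtype :=
    le_core hQN (fun g hg a ha => (Subgroup.mem_normalizer_iff.1 hg a).1 ha) hQ2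
  have hOQ : (pCore p ↥N).map N.subtype = Q := by
    refine (Subgroup.eq_of_le_of_card_ge hQO (hmax _ ⟨hQ1.trans hQO,
      (Lib.Cores.pCore_isPGroup (G := N) p).map _, fun φ hφ => H459.RgdRad.iv_core (hNφ φ hφ)⟩)).symm
  obtain ⟨g, J, hJ, h3, h4⟩ := hBT Q hQ2 hQne
  set V := cj g (VJ cs h X J) with hV
  have hVp : IsPGroup p V := (isPGroup_VJ R J).map _
  have hPV : cj g (PJ cs h T X J) ≤ Subgroup.normalizer (V : Set Y) := PJ_le_norm R
  have hVQ : V = Q := by
    by_contra hne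
    have h5 := SmallSimple.SylowMaxInter.lt_inf_normalizer hVp (lt_of_le_of_ne h3 (Ne.symm hne))
    have h6 : V ⊓ N ≤ Q := by
      rw [← hOQ]
      refine le_core inf_le_right (fun k hk v hv => ⟨?_, N.mul_mem (N.mul_mem hk hv.2) (N.inv_mem hk)⟩)
        (hVp.to_le inf_le_left)
      exact (Subgroup.mem_normalizer_iff.1 (hPV (h4 hk)) v).1 hv.1
    exact lt_irrefl _ (lt_of_lt_of_le h5 h6)
  have hNP : N = cj g (PJ cs h T X J) := le_antisymm h4 (by rw [hNd, ← hVQ]; exact hPV)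
  refine ⟨J, g, hJ, ?_, ?_, ?_⟩
  · rw [← hV, hVQ]; exact hQ1
  · intro φ hφ
    rw [← hV, hVQ]; exact hQ3 φ hφ
  · intro φ hφ
    rw [← hNP]; exact hNφ φ hφ

omit R in
theorem exists_conj {G : Type*} [Group G] {j : Y →* G} (hj : Function.Injective j) (hn : j.range.Normal) (g : G) :
    ∃ φ : MulAut Y, ∀ y, j (φ y) = g * j y * g⁻¹ := by
  let e : Y ≃* j.range := MonoidHom.ofInjective hj
  let c : MulAut j.range := MulAut.conjNormal g
  refine ⟨(e.trans c).trans e.symm, fun y => ?_⟩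
  have h1 : (e (e.symm (c (e y))) : G) = j (e.symm (c (e y))) := rfl
  show j (e.symm (c (e y))) = _
  rw [← h1, e.apply_symm_apply]
  exact MulAut.conjNormal_apply g (e y)

/-- a maximal core free subgroup `H` of a group `G` with normal subgroup `Y`: `H ∩ Y` does not contain `V_J^g` -/
theorem not_VJ_le [Finite W] [Finite Y] [Fact p.Prime] (hBT : BT cs h p T X) (hG : GG cs h T X = ⊤)
    (hX : RGD.Sup X {x | IsRoot cs h x} = ⊤) (hconn : Conn M) {G : Type*} [Group G] [Finite G] {j : Y →* G}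
    (hj : Function.Injective j) (hn : j.range.Normal) {H : Subgroup G} (hmax : IsCoatom H)
    (hcore : ¬ j.range ≤ H) (hOp : ∀ K ≤ H, (∀ g ∈ H, ∀ k ∈ K, g * k * g⁻¹ ∈ K) → IsPGroup p K → K = ⊥)
    {J : Set I} (hJ : J ≠ Set.univ) {g : Y} (hV : cj g (VJ cs h X J) ≤ H.comap j) : False := by
  classical
  set K := H.comap j with hK
  have hKtop : K ≠ ⊤ := by
    intro h1
    apply hcore
    rintro _ ⟨y, rfl⟩
    have : y ∈ K := by rw [h1]; exact Subgroup.mem_top _
    exact this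
  obtain ⟨J', g', hJ', h2, h3⟩ := par_of_VJ R hBT hG hX hconn hKtop hJ hV
  set Q := cj g' (PJ cs h T X J') with hQ
  have hinv : ∀ a ∈ H, ∀ y ∈ K, ∀ φ : MulAut Y, (∀ y, j (φ y) = a * j y * a⁻¹) → φ y ∈ K := by
    intro a ha y hy φ hφ
    show j (φ y) ∈ H
    rw [hφ]
    exact mul_mem (mul_mem ha hy) (inv_mem ha)
  have hQH : ∀ a ∈ H, ∀ x ∈ Q, ∃ x' ∈ Q, a * j x * a⁻¹ = j x' := by
    intro a ha x hx
    obtain ⟨φ, hφ⟩ := exists_conj hj hn a
    exact ⟨φ x, h3 φ (fun y hy => hinv a ha y hy φ hφ) x hx, (hφ x).symm⟩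
  -- the product
  let L : Subgroup G :=
    { carrier := {y | ∃ a ∈ H, ∃ x ∈ Q, y = a * j x}
      one_mem' := ⟨1, one_mem _, 1, one_mem _, by rw [map_one, mul_one]⟩
      mul_mem' := by
        rintro _ _ ⟨a, ha, x, hx, rfl⟩ ⟨b, hb, y, hy, rfl⟩
        obtain ⟨x', hx', e⟩ := hQH b⁻¹ (inv_mem hb) x hx
        refine ⟨a * b, mul_mem ha hb, x' * y, mul_mem hx' hy, ?_⟩
        rw [map_mul, ← e]
        group
      inv_mem' := by
        rintro _ ⟨a, ha, x, hx, rfl⟩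
        obtain ⟨x', hx', e⟩ := hQH a ha x⁻¹ (inv_mem hx)
        refine ⟨a⁻¹, inv_mem ha, x', hx', ?_⟩
        rw [← e, map_inv]
        group }
  have hHL : H ≤ L := fun a ha => ⟨a, ha, 1, one_mem _, by rw [map_one, mul_one]⟩
  rcases hHL.lt_or_eq with h4 | h4
  · have h5 : L = ⊤ := hmax.2 L h4
    apply cj_PJ_ne_top R hJ' g'
    rw [Subgroup.eq_top_iff']
    intro y
    have h6 : j y ∈ L := by rw [h5]; exact Subgroup.mem_top _
    obtain ⟨a, ha, x, hx, e⟩ := h6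
    have h7 : y * x⁻¹ ∈ K := by
      show j (y * x⁻¹) ∈ H
      rw [map_mul, map_inv, e, mul_inv_cancel_right]
      exact ha
    have h8 := mul_mem (h2 h7) hx
    rwa [inv_mul_cancel_right] at h8
  · have h5 : Q ≤ K := by
      intro x hx
      have h6 : j x ∈ L := ⟨1, one_mem _, x, hx, by rw [one_mul]⟩
      rw [← h4] at h6
      exact h6
    set V := cj g' (VJ cs h X J') with hVd
    have hVQ : V ≤ Q := Subgroup.map_mono ((VJ_le_B J').trans B_le_PJ)
    have hVp : IsPGroup p V := (isPGroup_VJ R J').map _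
    have hVO : V ≤ (pCore p ↥K).map K.subtype := by
      refine le_core (hVQ.trans h5) (fun x hx v hv => ?_) hVp
      have hxQ : x ∈ Q := h2 hx
      exact (Subgroup.mem_normalizer_iff.1 (PJ_le_norm R hxQ) v).1 hv
    set O : Subgroup Y := (pCore p ↥K).map K.subtype with hO
    have hOp' : IsPGroup p O := (Lib.Cores.pCore_isPGroup (G := K) p).map _
    have hOK : O ≤ K := by
      rintro _ ⟨y, _, rfl⟩
      exact y.2
    have h6 := hOp (O.map j) (by
      rintro _ ⟨y, hy, rfl⟩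
      exact hOK hy) (by
      rintro a ha _ ⟨y, hy, rfl⟩
      obtain ⟨φ, hφ⟩ := exists_conj hj hn a
      rw [← hφ]
      exact ⟨φ y, H459.RgdRad.iv_core (fun z hz => hinv a ha z hz φ hφ) y hy, rfl⟩) (hOp'.map _)
    rw [Subgroup.map_eq_bot_iff_of_injective _ hj] at h6
    exact cj_VJ_ne_bot R hJ' g' (le_bot_iff.1 (h6 ▸ hVO))

/-- the `p`-group of `exists_vecB` -/
theorem exists_QQ [Finite W] [Finite Y] [Fact p.Prime] (hBT : BT cs h p T X) (hG : GG cs h T X = ⊤)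
    (hX : RGD.Sup X {x | IsRoot cs h x} = ⊤) (hconn : Conn M) {G : Type*} [Group G] [Finite G] {j : Y →* G}
    (hj : Function.Injective j) (hn : j.range.Normal) {H : Subgroup G} (hmax : IsCoatom H)
    (hcore : ¬ j.range ≤ H) (hOp : ∀ K ≤ H, (∀ g ∈ H, ∀ k ∈ K, g * k * g⁻¹ ∈ K) → IsPGroup p K → K = ⊥)
    {D P : Subgroup G} (hDj : D ≤ j.range) (hDp : IsPGroup p D) (hD1 : D ≠ ⊥) (hDH : D ≤ H)
    (hPH : P ≤ H) (hDn : ∀ g ∈ P, ∀ d ∈ D, g * d * g⁻¹ ∈ D)
    (hDmax : ∀ S : Subgroup G, IsPGroup p S → S ≤ H → S ≤ j.range → (∀ g ∈ P, ∀ s ∈ S, g * s * g⁻¹ ∈ S) → S ≤ D) :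
    ∃ Q : Subgroup G, IsPGroup p Q ∧ Q ≤ j.range ∧ (∀ g ∈ P, ∀ w ∈ Q, g * w * g⁻¹ ∈ Q) ∧ D ≤ Q ∧ Q ⊓ H = D ∧
      Q ≠ D := by
  classical
  have hD' : D = (D.comap j).map j := by
    rw [Subgroup.map_comap_eq, inf_eq_right.2 hDj]
  have hD1' : D.comap j ≠ ⊥ := fun h1 => hD1 (by rw [hD', h1, Subgroup.map_bot])
  have hDp' : IsPGroup p (D.comap j) := hDp.comap_of_injective j hj
  obtain ⟨J, g, hJ, h1, h2, -⟩ := exists_canonV R hBT hDp' hD1'
  set V := cj g (VJ cs h X J) with hV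
  have hVp : IsPGroup p V := (isPGroup_VJ R J).map _
  have hDV : D ≤ V.map j := by
    rw [hD']
    exact Subgroup.map_mono h1
  have hn' : ∀ g ∈ P, ∀ w ∈ V.map j, g * w * g⁻¹ ∈ V.map j := by
    rintro a ha _ ⟨y, hy, rfl⟩
    obtain ⟨φ, hφ⟩ := exists_conj hj hn a
    rw [← hφ]
    refine ⟨φ y, h2 φ (fun z hz => ?_) y hy, rfl⟩
    show j (φ z) ∈ D
    rw [hφ]
    exact hDn a ha _ hz
  refine ⟨V.map j, hVp.map _, ?_, hn', hDV, ?_, ?_⟩
  · rintro _ ⟨y, _, rfl⟩
    exact ⟨y, rfl⟩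
  · apply le_antisymm
    · refine hDmax _ ((hVp.map j).to_le inf_le_left) inf_le_right ?_ ?_
      · rintro _ ⟨⟨y, _, rfl⟩, _⟩
        exact ⟨y, rfl⟩
      · rintro a ha w ⟨hw1, hw2⟩
        exact ⟨hn' a ha w hw1, H.mul_mem (H.mul_mem (hPH ha) hw2) (H.inv_mem (hPH ha))⟩
    · exact le_inf hDV hDH
  · intro h3
    refine not_VJ_le R hBT hG hX hconn hj hn hmax hcore hOp hJ (g := g) ?_
    intro v hv
    have h4 : j v ∈ V.map j := ⟨v, hv, rfl⟩
    rw [h3] at h4
    exact hDH h4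

end Cfsg.Agent.H470.EPO
end

-- part: H470/EPO/OwnT
section
set_option linter.all false
open scoped Cfsg.Agent.FastGrp

-- part: H470/EPO/OfEPT
section
/-!
# From the `T`-form to the frame `EPS` (helper470, S3499 layer VII)

`EPT A Γ`, `A` almost simple with socle `N ≅ L`: in `𝒢 = Γ Inn(Q)` the stabiliser `Γ` has the unique minimal normal
subgroup `N`.
-/

set_option autoImplicit false
set_option linter.unusedSectionVars false

namespace Cfsg.Agent.H470.EPO

open MulAction Subgroup Cfsg.Agent.H284 Cfsg.Agent.H284.EPT Cfsg.Agent.H209.EPX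

/-- `N` is a nonabelian simple normal subgroup of `A` with `C_A(N) = 1` -/
structure SocN {Q : Type*} [Group Q] (A N : Subgroup Q) : Prop where
  le : N ≤ A
  nrm : ∀ a ∈ A, ∀ n ∈ N, a * n * a⁻¹ ∈ N
  cent : ∀ a ∈ A, (∀ n ∈ N, a * n = n * a) → a = 1
  simple : IsSimpleGroup N
  nab : ∃ a ∈ N, ∃ b ∈ N, a * b ≠ b * a

namespace SocN

variable {Q : Type*} [Group Q] [Finite Q] {A N : Subgroup Q} (hN : SocN A N)

include hN

theorem ne_bot : N ≠ ⊥ := by
  rintro rfl
  obtain ⟨a, ha, b, hb, hab⟩ := hN.nab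
  rw [mem_bot] at ha hb
  rw [ha, hb] at hab
  exact hab rfl

/-- a normal subgroup of `N` is `1` or `N` -/
theorem min' {K : Subgroup Q} (hK : K ≤ N) (hn : ∀ a ∈ N, ∀ k ∈ K, a * k * a⁻¹ ∈ K) : K = ⊥ ∨ K = N := by
  have := hN.simple
  have h1 : (K.subgroupOf N).Normal := by
    constructor
    intro k hk g
    exact hn g g.2 _ hk
  rcases h1.eq_bot_or_eq_top with h2 | h2
  · left
    rw [subgroupOf_eq_bot, disjoint_iff, inf_eq_left.2 hK] at h2
    exact h2
  · right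
    exact le_antisymm hK (subgroupOf_eq_top.1 h2)

/-- `N` is invariant under automorphisms fixing `A` -/
theorem inv (σ : MulAut Q) (hσ : ∀ a, σ a ∈ A ↔ a ∈ A) : ∀ n ∈ N, σ n ∈ N := by
  classical
  set N' : Subgroup Q := N.map σ.toMonoidHom with hN'
  have hmem : ∀ x, x ∈ N' ↔ σ.symm x ∈ N := by
    intro x
    constructor
    · rintro ⟨y, hy, rfl⟩
      show σ.symm (σ y) ∈ N
      rw [MulEquiv.symm_apply_apply]; exact hy
    · intro hx
      exact ⟨_, hx, MulEquiv.apply_symm_apply σ x⟩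
  have hA' : ∀ a, σ.symm a ∈ A ↔ a ∈ A := fun a => by
    rw [← hσ (σ.symm a), MulEquiv.apply_symm_apply]
  have hN'n : ∀ a ∈ A, ∀ x ∈ N', a * x * a⁻¹ ∈ N' := by
    intro a ha x hx
    rw [hmem] at hx ⊢
    rw [map_mul, map_mul, map_inv]
    exact hN.nrm _ ((hA' a).2 ha) _ hx
  have hN'A : N' ≤ A := by
    rintro _ ⟨y, hy, rfl⟩
    exact (hσ y).2 (hN.le hy)
  have hcard : Nat.card N' = Nat.card N := by
    rw [hN']
    exact (Nat.card_congr (N.equivMapOfInjective σ.toMonoidHom σ.injective).toEquiv).symm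
  rcases hN.min' (K := N' ⊓ N) inf_le_right (fun a ha k hk => ⟨hN'n a (hN.le ha) k hk.1,
    N.mul_mem (N.mul_mem ha hk.2) (N.inv_mem ha)⟩) with h1 | h1
  · exfalso
    -- `N'` centralises `N`
    have h2 : ∀ x ∈ N', ∀ n ∈ N, x * n = n * x := by
      intro x hx n hn
      have h3 : x * n * x⁻¹ * n⁻¹ ∈ N' ⊓ N := by
        constructor
        · have e : x * n * x⁻¹ * n⁻¹ = x * (n * x⁻¹ * n⁻¹) := by group
          rw [e]
          exact N'.mul_mem hx (hN'n n (hN.le hn) _ (N'.inv_mem hx))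
        · exact N.mul_mem (hN.nrm x (hN'A hx) n hn) (N.inv_mem hn)
      rw [h1, mem_bot] at h3
      have h4 := mul_inv_eq_one.1 h3
      exact mul_inv_eq_iff_eq_mul.1 h4
    have h3 : N' = ⊥ := by
      rw [eq_bot_iff_forall]
      exact fun x hx => hN.cent x (hN'A hx) (h2 x hx)
    apply hN.ne_bot
    rw [← Subgroup.card_eq_one, ← hcard, h3, Subgroup.card_bot]
  · have h2 : N ≤ N' := by rw [← h1]; exact inf_le_left
    have h3 : N = N' := eq_of_le_of_card_ge h2 hcard.le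
    intro n hn
    rw [h3]
    exact ⟨n, hn, rfl⟩

variable {Γ : Subgroup (MulAut Q)} (h : EPT A Γ)

include h

theorem nin : NIn (N.map (jj Γ)) (HH Γ) := by
  refine ⟨?_, ?_⟩
  · rintro _ ⟨n, hn, rfl⟩
    exact (jj_mem h).2 (hN.le hn)
  · rintro g hg _ ⟨n, hn, rfl⟩
    rw [jj_conj]
    exact ⟨_, hN.inv _ (h.inv _ hg) n hn, rfl⟩

theorem cent_eq : Subgroup.centralizer (N.map (jj Γ) : Set (GG Γ)) = ⊥ := by
  have hEP := toEP h
  have hne : N.map (jj Γ) ≠ ⊥ := by
    intro h1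
    rw [Subgroup.map_eq_bot_iff_of_injective _ (jj_inj h)] at h1
    exact hN.ne_bot h1
  have hfin := finite_GG h
  rw [eq_bot_iff_forall]
  intro c hc
  rw [mem_centralizer_iff] at hc
  have hcH : c ∈ HH Γ := by
    refine hEP.norm_le (hN.nin h) hne (g := c) (fun k hk => ?_)
    rw [← hc k hk, mul_inv_cancel_right]
    exact hk
  have hcN : ∀ n ∈ N, (c : MulAut Q) n = n := by
    intro n hn
    apply jj_inj h
    rw [← jj_conj, ← hc _ ⟨n, hn, rfl⟩, mul_inv_cancel_right]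
  apply Subtype.ext
  apply h.cent _ hcH
  intro a ha
  have hcA : (c : MulAut Q) a ∈ A := (h.inv _ hcH a).2 ha
  have h1 : (c : MulAut Q) a * a⁻¹ = 1 := by
    apply hN.cent _ (mul_mem hcA (inv_mem ha))
    intro n hn
    have h2 : a⁻¹ * n * a ∈ N := by
      have := hN.nrm a⁻¹ (inv_mem ha) n hn
      rwa [inv_inv] at this
    have h3 := hcN _ h2
    rw [map_mul, map_mul, map_inv, hcN n hn] at h3
    -- `(c a)⁻¹ n (c a) = a⁻¹ n a`
    have h4 : (c : MulAut Q) a * (a⁻¹ * n * a) * a⁻¹ = (c : MulAut Q) a * (((c : MulAut Q) a)⁻¹ * n * (c : MulAut Q) a) * a⁻¹ := by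
      rw [h3]
    have e1 : (c : MulAut Q) a * (a⁻¹ * n * a) * a⁻¹ = (c : MulAut Q) a * a⁻¹ * n := by group
    have e2 : (c : MulAut Q) a * (((c : MulAut Q) a)⁻¹ * n * (c : MulAut Q) a) * a⁻¹ = n * ((c : MulAut Q) a * a⁻¹) := by group
    rw [e1, e2] at h4
    exact h4
  exact mul_inv_eq_one.1 h1

end SocN

/-- the isomorphism of `N` in `𝒢` with `L ^ 1` -/
noncomputable def eN {Q : Type*} [Group Q] {N : Subgroup Q} {Γ : Subgroup (MulAut Q)}
    (hj : Function.Injective (jj Γ)) {L : Type*} [Group L] (e : N ≃* L) : N.map (jj Γ) ≃* (Fin 1 → L) :=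
  ((N.equivMapOfInjective (jj Γ) hj).symm.trans e).trans (MulEquiv.funUnique (Fin 1) L).symm

/-- **`EPT` with an almost simple `A` gives `EPS`** -/
theorem eps_of_ept {Q : Type*} [Group Q] [Finite Q] {A N : Subgroup Q} {Γ : Subgroup (MulAut Q)} (h : EPT A Γ)
    (hN : SocN A N) {L : Type} [Group L] (hL : IsSimpleGroup L) (hab : ∃ a b : L, a * b ≠ b * a) (e : N ≃* L) :
    EPS (HH Γ) (N.map (jj Γ)) (eN (jj_inj h) e) where
  le := (hN.nin h).le
  nrm := (hN.nin h).nrm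
  ne := by
    intro h1
    rw [Subgroup.map_eq_bot_iff_of_injective _ (jj_inj h)] at h1
    exact hN.ne_bot h1
  min := by
    intro K hK hKn
    have h1 : K = (K.comap (jj Γ)).map (jj Γ) := by
      rw [Subgroup.map_comap_eq, inf_eq_right.2 (hK.trans (by
        rintro _ ⟨n, _, rfl⟩
        exact ⟨n, rfl⟩))]
    rcases hN.min' (K := K.comap (jj Γ)) (fun x hx => by
      obtain ⟨n, hn, e⟩ := hK hx
      rw [jj_inj h e] at hn
      exact hn) (fun a ha k hk => by
      rw [mem_comap, map_mul, map_mul, map_inv]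
      exact hKn.nrm _ ((jj_mem h).2 (hN.le ha)) _ hk) with h2 | h2
    · left
      rw [h1, h2, Subgroup.map_bot]
    · right
      rw [h1, h2]
  ep := toEP h
  pos := one_pos
  simple := hL
  nab := hab
  cent := hN.cent_eq h
  least := by
    intro K hK hK1
    by_contra hcon
    have hNn := hN.nin h
    -- `K ∩ N = 1`
    have h1 : K ⊓ N.map (jj Γ) = ⊥ := by
      rcases hN.min' (K := (K ⊓ N.map (jj Γ)).comap (jj Γ)) (fun x hx => by
        obtain ⟨n, hn, e⟩ := hx.2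
        rw [jj_inj h e] at hn
        exact hn) (fun a ha k hk => by
        rw [mem_comap, map_mul, map_mul, map_inv]
        exact ⟨hK.nrm _ ((jj_mem h).2 (hN.le ha)) _ hk.1, hNn.nrm _ ((jj_mem h).2 (hN.le ha)) _ hk.2⟩) with h2 | h2
      · rw [eq_bot_iff_forall]
        rintro _ ⟨hx, ⟨n, hn, rfl⟩⟩
        have h3 : n ∈ (K ⊓ N.map (jj Γ)).comap (jj Γ) := ⟨hx, ⟨n, hn, rfl⟩⟩
        rw [h2, mem_bot] at h3
        rw [h3, map_one]
      · exfalso
        apply hcon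
        rintro _ ⟨n, hn, rfl⟩
        rw [← h2] at hn
        exact hn.1
    apply hK1
    rw [eq_bot_iff, ← hN.cent_eq h]
    intro x hx
    rw [mem_centralizer_iff]
    intro n hn
    have h3 : n * x * n⁻¹ * x⁻¹ ∈ K ⊓ N.map (jj Γ) := by
      constructor
      · exact K.mul_mem (hK.nrm n (hNn.le hn) x hx) (K.inv_mem hx)
      · have e1 : n * x * n⁻¹ * x⁻¹ = n * (x * n⁻¹ * x⁻¹) := by group
        rw [e1]
        exact (N.map (jj Γ)).mul_mem hn (hNn.nrm x (hK.le hx) _ ((N.map (jj Γ)).inv_mem hn))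
    rw [h1, mem_bot] at h3
    have h4 := mul_inv_eq_one.1 h3
    exact mul_inv_eq_iff_eq_mul.1 h4

end Cfsg.Agent.H470.EPO
end

-- part: H470/EPO/QQ
section
/-!
# The `p`-group `QQ` above the radical `V_J` of the socle (helper470, S3499 layer VII)
-/

set_option autoImplicit false
set_option linter.unusedSectionVars false

namespace Cfsg.Agent.H470.EPO

open CoxeterSystem Cfsg.Agent.ChevalleyStructure.CoxeterGeom Cfsg.Agent.Tits.Roots Cfsg.Agent.Tits.Core
  Cfsg.Agent.Tits.RootComb Cfsg.Agent.Tits.Exchange Cfsg.Agent.Nodes.Reps Cfsg.Agent.Nodes.BNOf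
  Cfsg.Agent.Nodes.StabComb Cfsg.Agent.Nodes.Bruhat Cfsg.Agent.Nodes.OppDec Cfsg.Agent.Nodes.LeviDec
  Cfsg.Agent.Nodes.Coroot Cfsg.Agent.KFacts.RgdPar Cfsg.Agent.KFacts.RgdSL Cfsg.Agent.KFacts.RgdVJ
  Cfsg.Agent.KFacts.RgdCharP Cfsg.Agent.H470.EPK Cfsg.Agent.H737.EPO

variable {I W Y : Type*} [Fintype I] [DecidableEq I] [Group W] [Group Y] {M : CoxeterMatrix I}
  {cs : CoxeterSystem M W} {A : I → I → ℤ} {h : IsCartan M A} {p : ℕ} {T : Subgroup Y} {n : I → Y}
  {X : (I → ℤ) → Subgroup Y}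

variable (R : RGD cs h p T n X)

include R

/-- the same without `p ∤ |H ∩ Y : N|`: `D = O_p(P ∩ Y)`, `P = PH H e S J` -/
theorem exists_DQ [Finite W] [Finite Y] [Fact p.Prime] (hBT : BT cs h p T X) (hG : GG cs h T X = ⊤)
    (hX : RGD.Sup X {x | IsRoot cs h x} = ⊤) (hconn : Conn M) {G : Type*} [Group G] [Finite G] {j : Y →* G}
    (hj : Function.Injective j) (hn : j.range.Normal) {H : Subgroup G} (hmax : IsCoatom H)
    (hcore : ¬ j.range ≤ H) (hOp : ∀ K ≤ H, (∀ g ∈ H, ∀ k ∈ K, g * k * g⁻¹ ∈ K) → IsPGroup p K → K = ⊥)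
    {N : Subgroup G} {Z I' : Type*} [Group Z] [Finite Z] {k : ℕ} (e : N ≃* (Fin k → Z)) (S : PSys Z p I')
    (hNH : N ≤ H) (hNn : ∀ g ∈ H, ∀ n ∈ N, g * n * g⁻¹ ∈ N) (hNj : N ≤ j.range)
    (J : Fin k → Set I') (hV : VV e S J ≠ ⊥) :
    ∃ D Q : Subgroup G, VV e S J ≤ D ∧ D ≤ PH H e S J ∧ D ≤ j.range ∧ IsPGroup p D ∧
      (∀ g ∈ PH H e S J, ∀ d ∈ D, g * d * g⁻¹ ∈ D) ∧ IsPGroup p Q ∧
      (∀ g ∈ PH H e S J, ∀ w ∈ Q, g * w * g⁻¹ ∈ Q) ∧ D ≤ Q ∧ Q ⊓ H = D ∧ Q ≠ D := by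
  classical
  have hPP : PP e S J ≤ PH H e S J := PP_le_PH e S hNH J
  set P := PH H e S J with hP
  set P₁ : Subgroup G := P ⊓ j.range with hP₁
  have hP₁n : ∀ g ∈ P, ∀ x ∈ P₁, g * x * g⁻¹ ∈ P₁ := fun g hg x hx =>
    ⟨P.mul_mem (P.mul_mem hg hx.1) (P.inv_mem hg), hn.conj_mem x hx.2 g⟩
  set D : Subgroup G := (pCore p ↥P₁).map P₁.subtype with hD
  have hDP₁ : D ≤ P₁ := by
    rintro _ ⟨y, _, rfl⟩
    exact y.2
  have hDp : IsPGroup p D := (Lib.Cores.pCore_isPGroup (G := P₁) p).map _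
  have hDn : ∀ g ∈ P, ∀ d ∈ D, g * d * g⁻¹ ∈ D := fun g hg d hd =>
    H459.RgdRad.iv_core (x := MulAut.conj g) (N := P₁) (fun x hx => hP₁n g hg x hx) d hd
  have hVD : VV e S J ≤ D := by
    refine le_core (N := P₁) (le_inf ((VV_le_PP e S J).trans hPP) ((VV_le e S J).trans hNj))
      (fun g hg a ha => PH_nm_VV e S hg.1 ha) (VV_isPGroup e S J)
  have hD1 : D ≠ ⊥ := fun h1 => hV (le_bot_iff.1 (h1 ▸ hVD))
  obtain ⟨Q, h1, -, h2, h3, h4, h5⟩ := exists_QQ R hBT hG hX hconn hj hn hmax hcore hOp (D := D)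
    (P := P) (hDP₁.trans inf_le_right) hDp hD1 (hDP₁.trans (inf_le_left.trans inf_le_left)) inf_le_left
    hDn (fun E hE hEH hEj hEn => by
      -- `E ∩ N ≤ V_J`
      have hEN : E ⊓ N ≤ VV e S J := by
        have hEn' : ∀ g ∈ P, ∀ d ∈ E ⊓ N, g * d * g⁻¹ ∈ E ⊓ N := fun g hg d hd =>
          ⟨hEn g hg d hd.1, hNn g (inf_le_left (a := H) hg) d hd.2⟩
        have hUD : VV e S (fun _ => ∅) ≤ Subgroup.normalizer ((E ⊓ N : Subgroup G) : Set G) := by
          intro u hu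
          have huP : u ∈ P := hPP (VV_le_PP' e S _ J hu)
          rw [mem_normalizer_iff_cj]
          apply Subgroup.eq_of_le_of_card_ge
          · rintro _ ⟨d, hd, rfl⟩
            exact hEn' u huP d hd
          · exact (H284.card_cj u (E ⊓ N)).ge
        have h6 : IsPGroup p (VV e S (fun _ => ∅) ⊔ (E ⊓ N) : Subgroup G) :=
          (VV_isPGroup e S _).to_sup_of_normal_right' (hE.to_le inf_le_left) hUD
        have h7 := UU_max e S (sup_le (VV_le e S _) inf_le_right) h6 le_sup_left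
        have h8 : E ⊓ N ≤ VV e S (fun _ => ∅) := by rw [← h7]; exact le_sup_right
        exact VV_max e S (h8.trans (VV_le_PP' e S _ J)) (hE.to_le inf_le_left) fun g hg d hd => hEn' g (hPP hg) d hd
      -- `E ≤ P`
      have hEP : E ≤ P := by
        intro s hs
        have hsH := hEH hs
        refine (mem_PH e S).2 ⟨hsH, ?_⟩
        apply Subgroup.eq_of_le_of_card_ge
        · rintro _ ⟨u, hu, rfl⟩
          have hu' := hPP hu
          have huN := PP_le e S J hu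
          have h6 : s * (u * s⁻¹ * u⁻¹) ∈ E ⊓ N := by
            refine ⟨E.mul_mem hs (hEn u hu' _ (E.inv_mem hs)), ?_⟩
            have e1 : s * (u * s⁻¹ * u⁻¹) = s * u * s⁻¹ * u⁻¹ := by group
            rw [e1]
            exact N.mul_mem (hNn s hsH u huN) (N.inv_mem huN)
          have h7 := (PP e S J).mul_mem (VV_le_PP e S J (hEN h6)) hu
          have e2 : s * (u * s⁻¹ * u⁻¹) * u = s * u * s⁻¹ := by group
          rw [e2] at h7
          exact h7
        · exact (H284.card_cj s _).ge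
      exact le_core (N := P₁) (le_inf hEP hEj) (fun g hg a ha => hEn g hg.1 a ha) hE)
  exact ⟨D, Q, hVD, hDP₁.trans inf_le_left, hDP₁.trans inf_le_right, hDp, hDn, h1, h2, h3, h4, h5⟩

end Cfsg.Agent.H470.EPO
end

-- part: H470/EPO/OwnT
section
/-!
# Own characteristic, relative rank at least two, `EPS`-form and `T`-form (helper470)

* `dq_of` : the `G`-side for `EPS`;
* `own_S` : `EPS H N e`, `N ≅ T ^ k`, `T` with a root group datum and the relative rank at least two;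
* `own_T` : `EPT A Γ`, `SocN A N`, `N ≅ L`.
-/

set_option autoImplicit false
set_option linter.unusedSectionVars false

namespace Cfsg.Agent.H470.EPO

open CoxeterSystem Cfsg.Agent.ChevalleyStructure.CoxeterGeom Cfsg.Agent.Tits.Roots Cfsg.Agent.Tits.Core
  Cfsg.Agent.Tits.RootComb Cfsg.Agent.Tits.Exchange Cfsg.Agent.Nodes.Reps Cfsg.Agent.Nodes.BNOf
  Cfsg.Agent.Nodes.StabComb Cfsg.Agent.Nodes.Bruhat Cfsg.Agent.Nodes.OppDec Cfsg.Agent.Nodes.LeviDec
  Cfsg.Agent.Nodes.Coroot Cfsg.Agent.KFacts.RgdPar Cfsg.Agent.KFacts.RgdSL Cfsg.Agent.KFacts.RgdVJ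
  Cfsg.Agent.KFacts.RgdCharP Cfsg.Agent.H470.EPK Cfsg.Agent.H737.EPO Cfsg.Agent.H209.EPX
  Cfsg.Agent.KFacts.RgdFilt Cfsg.Agent.H284.EPT

/-- the rank hypothesis: an invariant type different from `∅` and `I` -/
def Rk2 {G Y : Type*} [Group G] [Group Y] (H : Subgroup G) (N : Subgroup G) (k : ℕ) {p : ℕ} {I : Type*}
    (S : PSys Y p I) : Prop :=
  ∀ e : N ≃* (Fin k → Y), ∃ J : Fin k → Set I, H737.EPO.Inv H e S J ∧ (∃ i, J i ≠ ∅) ∧ ∃ i, J i ≠ Set.univ

/-- a nonabelian simple group is not a `p`-group -/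
theorem not_isPGroup {T : Type*} [Group T] [Finite T] [IsSimpleGroup T] {p : ℕ} [Fact p.Prime]
    (hT : ∃ a b : T, a * b ≠ b * a) : ¬ IsPGroup p T := by
  intro h1
  have h2 := h1.center_nontrivial
  rw [KFacts.RgdLieCharP.center_eq_bot hT] at h2
  exact not_nontrivial _ h2

section EPS

variable {G : Type*} [Group G] [Finite G] {H N : Subgroup G} {T : Type} [Group T] [Finite T] {k : ℕ}
  {e : N ≃* (Fin k → T)} (h : EPS H N e) {p : ℕ} [Fact p.Prime]

include h

theorem eps_Op {K : Subgroup G} (hK : K ≤ H) (hn : ∀ g ∈ H, ∀ k ∈ K, g * k * g⁻¹ ∈ K) (hp : IsPGroup p K) :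
    K = ⊥ := by
  by_contra hK1
  have := h.simple
  have h1 := h.least K ⟨hK, hn⟩ hK1
  have h2 : IsPGroup p (Fin k → T) := (hp.to_le h1).of_equiv e
  have h3 : IsPGroup p T := h2.of_injective (MonoidHom.mulSingle (fun _ => T) ⟨0, h.pos⟩)
    (Pi.mulSingle_injective (M := fun _ : Fin k => T) _)
  exact not_isPGroup h.nab h3

theorem eps_core {L : Subgroup G} (hL : L.Normal) (hNL : N ≤ L) : ¬ L ≤ H := by
  intro h1
  have h2 : L ≤ H.normalCore := Subgroup.normal_le_normalCore.2 h1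
  rw [h.ep.core] at h2
  exact h.ne (le_bot_iff.1 (hNL.trans h2))

/-- **the `G`-side** -/
theorem dq_of {Y : Type*} [Group Y] [Finite Y] [IsSimpleGroup Y] (hY : HasFilt p Y) (hYn : ∃ a b : Y, a * b ≠ b * a)
    {j : Y →* G} (hj : Function.Injective j) (hn : j.range.Normal) (hNj : N ≤ j.range) {I : Type*} (S : PSys T p I)
    (e' : N ≃* (Fin k → T)) (J : Fin k → Set I) (hJ : VV e' S J ≠ ⊥) : DQ H e' S J := by
  obtain ⟨l, M, A, hC, Tt, n, X, R, hW, hBT, hGG, hN, hconn, hX, hl⟩ := hY.data hYn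
  obtain ⟨D, Q, h1, h2, h3, h4, h5, h6, h7, h8, h9, h10⟩ := exists_DQ R hBT hGG hX hconn hj hn h.ep.max
    (eps_core h hn hNj) (fun K hK hKn hKp => eps_Op h hK hKn hKp) e' S h.le h.nrm hNj J hJ
  exact ⟨D, Q, h1, h2, h4, h5, h6, h7, h8, h9, h10⟩

end EPS

section Main

variable {I W : Type*} [Fintype I] [DecidableEq I] [Group W] [Finite W] {M : CoxeterMatrix I}
  {cs : CoxeterSystem M W} {A : I → I → ℤ} {hC : IsCartan M A}

end Main

end Cfsg.Agent.H470.EPO
end
end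
end
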